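import Cfsg.Agent.Lib.RankOnePoint.Even

/-!
Even degree: the Sylow subgroups of the two points on a line coincide; an element fixing two points centralises `N`
only trivially.

Blueprint: `blueprint/S2208.md`, part C (SEQ, faithfulness).
-/

set_option autoImplicit false
set_option linter.unusedSectionVars false
set_option linter.style.haveILetI false

namespace CfsgLib.RankOnePoint

open MulAction CfsgLib.BinaryCoset
open scoped Pointwise

universe u v

variable {G : Type u} {Ω : Type v} [Group G] [MulAction G Ω] [Finite G] [Finite Ω] [FaithfulSMul G Ω]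
  {a : Ω} {N : Subgroup G} (h : Pt G a N) [IsSimpleGroup N] {m p e : ℕ} (hF : Facts N m p e) (h1 : H1 a N)
  (hev : ¬ Ev a N) (hn : Even (Nat.card Ω))
include h hF h1 hev hn

section Core

variable {g : G} {b : Ω} (hab : g • a = b) (hba : g • b = a) (hb : b ≠ a) {S : Sylow 2 N}
  (hbS : b ∈ (line S : Set Ω))
include hab hba hb hbS

omit hn in
/-- A member on the line moved across it stays in the Sylow subgroup. -/
theorem Pt.seq_invol {z : N} (hz : z ∈ (S : Subgroup N)) (hz2 : z * z = 1) :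
    ∃ w ∈ (S : Subgroup N), w * w = 1 ∧ (w : G) = g⁻¹ * z * g := by
  rcases eq_or_ne z 1 with rfl | hz1
  · exact ⟨1, one_mem _, one_mul 1, by simp⟩
  have hzi := h.invol_of hF hz1 hz2
  have hzb : (z : G) • b = b := hbS z hz hz2
  have hwa : (g⁻¹ * z * g) • a = a := h.swap_fix hab hzb
  have hwb : (g⁻¹ * z * g) • b = b := h.swap_fix' hba (h.fix z.2)
  have hwi : Invol (g⁻¹ * (z : G) * g) := by simpa using hzi.conj g⁻¹
  have hw := h1 _ (by simpa using cls_conj (h.mem_cls z.2 hzi) g⁻¹) hwa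
  exact ⟨⟨_, hw⟩, h.mem_of_line hF hev hb hbS (y := ⟨_, hw⟩) hwi hwb, Subtype.ext hwi.2, rfl⟩

omit hn in
theorem Pt.seq_line {c : Ω} (hc : g • c ∈ (line S : Set Ω)) : c ∈ (line S : Set Ω) := by
  obtain ⟨z, hz, hz1, hz2⟩ := h.exists_invol_sylow hF S
  obtain ⟨w, hw, hw2, hwe⟩ := h.seq_invol hF h1 hev hab hba hb hbS hz hz2
  have hzi := h.invol_of hF hz1 hz2
  have hwi : Invol (w : G) := by rw [hwe]; simpa using hzi.conj g⁻¹
  rw [← h.fix_line hF hev hw hwi, hwe]
  rw [← h.fix_line hF hev hz hzi] at hc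
  simpa using (fix_smul (g := g)).mpr hc

omit hn in
/-- An element of the Sylow subgroup moved across the line fixes the point and the subgroup. -/
theorem Pt.seq_fix {s : N} (hs : s ∈ (S : Subgroup N)) :
    ∃ hta : (g⁻¹ * (s : G) * g) • a = a, h.act ⟨_, mem_stabilizer_iff.mpr hta⟩ • S = S := by
  have hta : (g⁻¹ * (s : G) * g) • a = a := h.swap_fix hab (h.sfix_line hF hev hb hbS s hs)
  exact ⟨hta, h.act_fix hF hev hta hb hbS (by rw [h.swap_fix' hba (h.fix s.2)]; exact hbS)⟩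

/-- It moves every other Sylow subgroup. -/
theorem Pt.seq_semireg {s : N} (hs : s ∈ (S : Subgroup N)) (hs1 : s ≠ 1) {U : Sylow 2 N} (hU : U ≠ S)
    (hta : (g⁻¹ * (s : G) * g) • a = a) : h.act ⟨_, mem_stabilizer_iff.mpr hta⟩ • U ≠ U := by
  intro hfix
  obtain ⟨k, hk⟩ := S.2 ⟨s, hs⟩
  have hk' : (g⁻¹ * (s : G) * g) ^ 2 ^ k = 1 := by
    have h2 : (s : G) ^ 2 ^ k = 1 := congrArg (fun w : (S : Subgroup N) => ((w : N) : G)) hk
    rw [show g⁻¹ * (s : G) * g = MulAut.conj g⁻¹ (s : G) by simp, ← map_pow, h2, map_one]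
  obtain ⟨c, ⟨hcU, hca⟩, hc⟩ := exists_fix_of_odd hk' (A := {c : Ω | c ∈ (line U : Set Ω) ∧ c ≠ a})
    (fun c hc => ⟨h.line_stab hF hev hta hfix hc.1, fun e1 => hc.2 (smul_left_cancel _ (e1.trans hta.symm))⟩)
    (h.line_odd hF hev hn U)
  have hsgc : (s : G) • g • c = g • c := by
    have h2 := congrArg (g • ·) hc
    simpa [mul_smul] using h2
  have hga : g • c ≠ a := fun e1 => by
    have hcb : c = b := smul_left_cancel g (e1.trans hba.symm)
    exact hU (h.line_unique hF hev hb (hcb ▸ hcU) hbS)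
  exact hU (h.line_unique hF hev hca hcU
    (h.seq_line hF h1 hev hab hba hb hbS (h.line_of_fix hF hev hs hs1 hsgc)))

/-- When it acts as an inner automorphism it lies in the Sylow subgroup. -/
theorem Pt.seq_inner {s : N} (hs : s ∈ (S : Subgroup N)) (hta : (g⁻¹ * (s : G) * g) • a = a) {w : N}
    (hw : w ∈ (S : Subgroup N)) (hin : h.act ⟨_, mem_stabilizer_iff.mpr hta⟩ = MulAut.conj w) :
    (w : G) = g⁻¹ * s * g := by
  -- it fixes the line pointwise
  have hL : ∀ c ∈ (line S : Set Ω), (g⁻¹ * (s : G) * g) • c = c := by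
    intro c hc
    rw [mul_smul, mul_smul, inv_smul_eq_iff]
    rcases eq_or_ne (g • c) a with e1 | e1
    · rw [e1]; exact h.fix s.2
    refine h.sfix_line hF hev e1 ?_ s hs
    intro y hy hy2
    obtain ⟨w', hw', hw2', hwe'⟩ := h.seq_invol hF h1 hev hab hba hb hbS hy hy2
    have h3 := hc w' hw' hw2'
    rw [hwe', mul_smul, mul_smul, inv_smul_eq_iff] at h3
    exact h3
  refine inv_mul_eq_one.mp (eq_of_smul_eq_smul (α := Ω) fun d => ?_)
  rw [one_smul, mul_smul, inv_smul_eq_iff]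
  rcases eq_or_ne d a with rfl | hd
  · rw [hta, h.fix w.2]
  -- so every line
  obtain ⟨U, hU, -⟩ := h.nev_one hF hev hd
  obtain ⟨n, hn'⟩ := exists_smul_eq N S U
  have hcd : (n : G)⁻¹ • d ∈ (line S : Set Ω) := by
    intro y hy hy2
    have h2 := hU (n * y * n⁻¹) (hn' ▸ CfsgLib.CyclicInt.conj_mem_smul_sylow hy)
    rw [Subgroup.coe_mul, Subgroup.coe_mul, InvMemClass.coe_inv, mul_smul, mul_smul, smul_eq_iff_eq_inv_smul] at h2
    exact h2
  have hcomm : (g⁻¹ * (s : G) * g) * n * (g⁻¹ * (s : G) * g)⁻¹ = w * n * (w : G)⁻¹ := by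
    have h2 := congrArg Subtype.val (DFunLike.congr_fun hin n)
    rw [h.act_apply, MulAut.conj_apply] at h2
    exact h2
  set t : G := g⁻¹ * (s : G) * g with ht
  clear_value t
  set c := (n : G)⁻¹ • d with hc'
  have hwc : (w : G) • c = c := by
    rcases eq_or_ne c a with e1 | e1
    · rw [e1]; exact h.fix w.2
    · exact h.sfix_line hF hev e1 hcd w hw
  calc t • d = (t * n * t⁻¹) • t • c := by
        rw [mul_smul, mul_smul, inv_smul_smul, hc', smul_inv_smul]
    _ = (w : G) • d := by rw [hcomm, hL c hcd, mul_smul, mul_smul, inv_smul_eq_iff.mpr hwc.symm, hc', smul_inv_smul]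

/-- **The Sylow subgroup moved across its line is itself.** -/
theorem Pt.seq : ∀ s : N, s ∈ (S : Subgroup N) → ∃ w ∈ (S : Subgroup N), (w : G) = g⁻¹ * s * g := by
  classical
  haveI := Fact.mk Nat.prime_two
  intro s hs
  by_cases hp : p = 2 ^ m
  · obtain ⟨w, hw, -, hwe⟩ := h.seq_invol hF h1 hev hab hba hb hbS hs (hF.sq_eq_one_of_elem hp hs)
    exact ⟨w, hw, hwe⟩
  obtain ⟨C⟩ := hF.coord S
  obtain ⟨k, hk, hk3, hkm⟩ := hF.card_F_pow C
  have hfix := fun s : (S : Subgroup N) => h.seq_fix hF h1 hev hab hba hb hbS s.2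
  let β : (S : Subgroup N) →* MulAut N :=
    h.act.comp
      { toFun := fun w => ⟨g⁻¹ * ((w : N) : G) * g, mem_stabilizer_iff.mpr (hfix w).1⟩
        map_one' := Subtype.ext (by simp)
        map_mul' := fun w w' => Subtype.ext (by simp [mul_assoc]) }
  have hβS : ∀ s, β s • S = S := fun s => (hfix s).2
  let Lin : ↥(S : Subgroup N) → Prop := fun s => ∀ x ∈ (S : Subgroup N), C.π (β s x) = C.π x
  suffices hall : ∀ s, Lin s by
    obtain ⟨w, hw, hin⟩ := hF.inner_of_triv C (hβS ⟨s, hs⟩) (hall ⟨s, hs⟩)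
    exact ⟨w, hw, h.seq_inner hF h1 hev hn hab hba hb hbS hs (hfix ⟨s, hs⟩).1 hw hin⟩
  -- squares act linearly
  have hsq : ∀ s : (S : Subgroup N), ∃ z ∈ (S : Subgroup N), z * z = 1 ∧ β (s * s) = MulAut.conj z := by
    intro s
    obtain ⟨z, hz, hz2, hze⟩ := h.seq_invol hF h1 hev hab hba hb hbS (mul_mem s.2 s.2) (hF.sq_sq s.2)
    refine ⟨z, hz, hz2, MulEquiv.ext fun x => Subtype.ext ?_⟩
    rw [MulAut.conj_apply, Subgroup.coe_mul, Subgroup.coe_mul, InvMemClass.coe_inv, hze]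
    rfl
  -- the others are semilinear with the involutive field automorphism
  have htype : ∀ s, ¬ Lin s → p = (2 ^ m) ^ 3 ∧ ∃ (u : C.Fˣ) (φ : C.F ≃+* C.F), Act C (β s) u φ ∧
      (u : C.F) * φ u = 1 ∧ (∀ c, φ (φ c) = c) ∧ (∀ c, φ c = c ^ 2 ^ m) ∧ ∃ c, φ c ≠ c := by
    intro s hlin
    obtain ⟨u, φ, hu⟩ := C.semiA (hβS s)
    obtain ⟨z, hz, -, hsz⟩ := hsq s
    have key : ∀ c, (u : C.F) * φ u * φ (φ c) = c := fun c => by
      obtain ⟨x, hx, rfl⟩ := C.surj c
      have h2 := (Act.mul (α := β s) (β := β s) (C := C) hu hu (hβS s)) x hx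
      rw [← map_mul, hsz, MulAut.conj_apply, C.map_conj hz hx, RingEquiv.trans_apply] at h2
      exact h2.symm
    have hu1 : (u : C.F) * φ u = 1 := by simpa using key 1
    have hφ : ∀ c, φ (φ c) = c := fun c => by simpa [hu1] using key c
    rcases ringAut_invol hk φ hφ with hid | ⟨hke, hpow⟩
    · exfalso
      refine hlin fun x hx => ?_
      have h2 : (u : C.F) = 1 := eq_one_of_pow_two (k := 1) (by rw [pow_one, pow_two]; rwa [hid] at hu1)
      rw [hu x hx, hid, h2, one_mul]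
    rcases hF.kind_ne hp with ⟨hp2, ho, -⟩ | ⟨hp3, -⟩
    · exfalso
      rw [hkm (hp2 ▸ (Nat.pow_lt_pow_right (by have := hF.q_four; omega) (by norm_num : 2 < 3)).ne)] at hke
      exact Nat.not_even_iff_odd.mpr ho hke
    rw [hk3 hp3, show 2 * m / 2 = m by omega] at hpow
    refine ⟨hp3, u, φ, hu, hu1, hφ, hpow, ?_⟩
    by_contra hid
    push Not at hid
    refine hlin fun x hx => ?_
    have h2 : (u : C.F) = 1 := eq_one_of_pow_two (k := 1) (by rw [pow_one, pow_two]; rwa [hid] at hu1)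
    rw [hu x hx, hid, h2, one_mul]
  by_contra hall
  push Not at hall
  obtain ⟨s0, hs0⟩ := hall
  obtain ⟨hp3, u, φ, hu, hu1, hφ, hpow, hne⟩ := htype s0 hs0
  -- all of them act alike on the coordinates
  have hsame : ∀ s, ¬ Lin s → Act C (β s) u φ := by
    intro s hs'
    obtain ⟨-, v, ψ, hv, hv1, -, hψ, -⟩ := htype s hs'
    have hφψ : ∀ c, ψ c = φ c := fun c => by rw [hψ, hpow]
    have hprod : Lin (s * s0) := by
      by_contra hc
      obtain ⟨-, w, χ, hw, -, -, hχ, d, hd⟩ := htype _ hc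
      have h2 := Act.mul (α := β s) (β := β s0) (C := C) hv hu (hβS s0)
      rw [← map_mul] at h2
      obtain ⟨e1, e2⟩ := Act.one_eq h2 hw
      have h3 := e2 d
      rw [RingEquiv.trans_apply, e1, hφψ, hφ, hχ] at h3
      refine hd ?_
      rw [hχ]
      exact (mul_left_cancel₀ w.ne_zero h3).symm
    intro x hx
    obtain ⟨y, hy, hye⟩ := C.surj 1
    have hu' : (v : C.F) = u := by
      have h2 := (Act.mul (α := β s) (β := β s0) (C := C) hv hu (hβS s0)) y hy
      rw [← map_mul, hprod y hy, RingEquiv.trans_apply, hye, map_one, map_one, mul_one, hφψ] at h2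
      refine mul_right_cancel₀ (b := φ u) (fun e1 => ?_) (h2.symm.trans hu1.symm)
      rw [e1, mul_zero] at hu1
      exact zero_ne_one hu1
    rw [hv x hx, hφψ, hu']
  obtain ⟨U0, hU0⟩ := two_le_sylow hF S
  have hwex : ∀ s : {s // ¬ Lin s}, ∃ w : (S : Subgroup N), β s.1 • U0 = (w : N) • U0 := fun s => by
    have hne' : β s.1 • U0 ≠ S := fun e1 =>
      hU0 (smul_left_cancel (β s.1) (e1.trans (hβS s.1).symm))
    obtain ⟨w, hw, hw'⟩ := hF.move hU0 hne'
    exact ⟨⟨w, hw⟩, hw'.symm⟩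
  choose w hw using hwex
  have hwinj : Function.Injective w := fun s s' e1 => by
    have h2 : β s.1 • U0 = β s'.1 • U0 := by rw [hw, hw, e1]
    have h3 : β (s'.1⁻¹ * s.1) • U0 = U0 := by rw [map_mul, map_inv, mul_smul, h2, inv_smul_smul]
    by_contra hne'
    have hne2 : ((s'.1⁻¹ * s.1 : (S : Subgroup N)) : N) ≠ 1 := fun e2 => hne' (Subtype.ext
      (inv_mul_eq_one.mp (Subtype.ext e2 : s'.1⁻¹ * s.1 = 1)).symm)
    exact h.seq_semireg hF h1 hev hn hab hba hb hbS (s'.1⁻¹ * s.1).2 hne2 hU0 (hfix _).1 h3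
  -- they are few
  have hwW : ∀ s, (u : C.F) * φ (C.π (w s : N)) = C.π (w s : N) := by
    intro s
    set ρ := (MulAut.conj ((w s : N)))⁻¹ * β s.1 with hρ
    have hconjS : (MulAut.conj ((w s : N)) : MulAut N) • S = S := smul_eq_self (w s).2
    have hρS : ρ • S = S := by rw [hρ, mul_smul, hβS, inv_smul_eq_iff, hconjS]
    have hρU : ρ • U0 = U0 := by
      rw [hρ, mul_smul, hw, inv_smul_eq_iff]
      rfl
    have hρπ : ∀ x ∈ (S : Subgroup N), C.π (ρ x) = u * φ (C.π x) := fun x hx => by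
      rw [hρ, MulAut.mul_apply, ← map_inv, MulAut.conj_apply, C.map_conj (inv_mem (w s).2) ((fix_iff (hβS s.1) x).mp hx),
        hsame s.1 s.2 x hx]
    have hρ2 : ρ * ρ = 1 := hF.eq_one_of_triv C hU0 (by rw [mul_smul, hρS, hρS]) (by rw [mul_smul, hρU, hρU])
      fun x hx => by
        rw [MulAut.mul_apply, hρπ _ ((fix_iff hρS x).mp hx), hρπ x hx, map_mul, hφ, ← mul_assoc, hu1, one_mul]
    obtain ⟨z, hz, hz2, hsz⟩ := hsq s.1
    have hβρ : β s.1 = MulAut.conj ((w s : N)) * ρ := by rw [hρ, mul_inv_cancel_left]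
    have h2 : MulAut.conj ((w s : N) * ρ (w s : N)) = MulAut.conj z := by
      rw [← hsz, map_mul β, hβρ, map_mul, mul_assoc (MulAut.conj ((w s : N))) ρ, ← mul_assoc ρ,
        smul_conj (α := ρ), mul_assoc _ ρ ρ, hρ2, mul_one]
    have h3 : (w s : N) * ρ (w s : N) = z := by
      have hc : z⁻¹ * ((w s : N) * ρ (w s : N)) ∈ Subgroup.center N := Subgroup.mem_center_iff.mpr fun x => by
        have h4 : MulAut.conj (z⁻¹ * ((w s : N) * ρ (w s : N))) x = x := by
          rw [map_mul, map_inv, h2, inv_mul_cancel, MulAut.one_apply]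
        rw [MulAut.conj_apply, mul_inv_eq_iff_eq_mul] at h4
        exact h4.symm
      rw [(IsSimpleGroup.eq_bot_or_eq_top_of_normal (Subgroup.center N) inferInstance).resolve_right fun e2 =>
        hF.nonab ⟨⟨fun x y => (Subgroup.mem_center_iff.mp (e2 ▸ Subgroup.mem_top x : x ∈ Subgroup.center N) y).symm⟩⟩,
        Subgroup.mem_bot, inv_mul_eq_one] at hc
      exact hc.symm
    have h4 := C.hom _ (w s).2 _ ((fix_iff hρS _).mp (w s).2)
    rw [h3, (hF.ker_iff hp C hz).mpr hz2, hρπ _ (w s).2, eq_comm, CharTwo.add_eq_zero] at h4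
    exact h4.symm
  have hq := hF.q_four
  obtain ⟨hfx, -⟩ := invol_fix hk φ hφ hne
  have hFix : Nat.card {c : C.F // φ c = c} = 2 ^ m := by
    rw [hk, hk3 hp3, mul_comm, pow_mul] at hfx
    exact Nat.pow_left_injective two_ne_zero hfx
  have hW : Nat.card {v : C.F // (u : C.F) * φ v = v} ≤ 2 ^ m := by
    by_cases hv : ∃ v : C.F, (u : C.F) * φ v = v ∧ v ≠ 0
    · obtain ⟨v0, hv0, hv00⟩ := hv
      rw [← hFix]
      refine Nat.card_le_card_of_injective (fun v => ⟨v.1 / v0, ?_⟩) fun v v' e1 => Subtype.ext ?_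
      · rw [map_div₀, ← mul_div_mul_left _ _ u.ne_zero, v.2, hv0]
      · have h2 := congrArg Subtype.val e1
        exact (div_left_inj' hv00).mp h2
    · push Not at hv
      refine le_trans (Finite.card_le_one_iff_subsingleton.mpr ⟨fun v v' => Subtype.ext ?_⟩) (by omega)
      rw [hv v.1 v.2, hv v'.1 v'.2]
  have hker : Nat.card {x : N // x ∈ (S : Subgroup N) ∧ C.π x = 0} ≤ 2 ^ m := by
    rw [← hF.card_sq_one S]
    exact Nat.card_le_card_of_injective (fun x => ⟨x.1, x.2.1, hF.ker_sq C x.2.1 x.2.2⟩)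
      fun x y e1 => Subtype.ext (congrArg Subtype.val e1 :)
  have hA : Nat.card {s // ¬ Lin s} ≤ 2 ^ m * 2 ^ m := by
    refine le_trans ?_ (Nat.mul_le_mul hW hker)
    rw [← Nat.card_prod]
    refine Nat.card_le_card_of_injective (fun s => (⟨C.π (w s : N), hwW s⟩,
      ⟨(C.surj (C.π (w s : N))).choose⁻¹ * (w s : N),
        mul_mem (inv_mem (C.surj _).choose_spec.1) (w s).2, by
          rw [C.hom _ (inv_mem (C.surj _).choose_spec.1) _ (w s).2, C.map_inv (C.surj _).choose_spec.1,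
            (C.surj _).choose_spec.2, CharTwo.add_self_eq_zero]⟩)) fun s s' e1 => hwinj (Subtype.ext ?_)
    obtain ⟨e2, e3⟩ := Prod.mk.inj e1
    have e4 := congrArg Subtype.val e2
    have e5 := congrArg Subtype.val e3
    simp only at e4 e5
    rw [e4] at e5
    exact mul_left_cancel e5
  have hB : Nat.card {s // Lin s} ≤ Nat.card {s // ¬ Lin s} := by
    refine Nat.card_le_card_of_injective (fun s => ⟨s0 * s.1, fun hl => hs0 fun x hx => ?_⟩)
      fun s s' e1 => Subtype.ext (mul_left_cancel (congrArg Subtype.val e1 :))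
    have hy : (β s.1)⁻¹ x ∈ (S : Subgroup N) := (fix_iff (hβS s.1) _).mpr (by rw [MulAut.apply_inv_self]; exact hx)
    have h2 := hl _ hy
    have h3 := s.2 _ hy
    rw [MulAut.apply_inv_self] at h3
    rw [map_mul, MulAut.mul_apply, MulAut.apply_inv_self, ← h3] at h2
    exact h2
  have htot : p = Nat.card {s // Lin s} + Nat.card {s // ¬ Lin s} := by
    rw [← Nat.card_sum, Nat.card_congr (Equiv.sumCompl Lin), hF.card_sylow]
  have h4 : 4 * (2 ^ m * 2 ^ m) ≤ (2 ^ m) ^ 3 := by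
    rw [pow_succ', pow_two]; exact Nat.mul_le_mul_right _ hq
  have hpos : 0 < 2 ^ m * 2 ^ m := Nat.mul_pos (by omega) (by omega)
  omega

end Core

/-- An element stabilising a line normalises its Sylow subgroup. -/
theorem Pt.norm_line {γ : G} {S : Sylow 2 N} (hγ : ∀ c ∈ (line S : Set Ω), γ • c ∈ (line S : Set Ω)) :
    γ ∈ Subgroup.normalizer (((S : Subgroup N).map N.subtype : Subgroup G) : Set G) := by
  refine Subgroup.mem_normalizer_fintype ?_
  rintro _ ⟨s, hs, rfl⟩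
  have key : ∀ δ : G, δ • a = a → (∀ c ∈ (line S : Set Ω), δ • c ∈ (line S : Set Ω)) → ∀ s : N, s ∈ (S : Subgroup N) →
      δ * s * δ⁻¹ ∈ (S : Subgroup N).map N.subtype := by
    intro δ hδ hst s hs
    obtain ⟨b, hb, hbS⟩ := h.line_second hF hev S
    have hfix := h.act_fix hF hev hδ hb hbS (hst b hbS)
    exact ⟨_, (fix_iff hfix s).mp hs, h.act_apply _ s⟩
  by_cases hγa : γ • a = a
  · exact key γ hγa hγ s hs
  have hbS := hγ a (h.mem_line hF S)
  obtain ⟨g, hab, hba⟩ := h.exists_swap hγa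
  have hga : g • (γ • a) = a := hba
  -- the swap stabilises the line
  have hgS : ∀ c ∈ (line S : Set Ω), g • c ∈ (line S : Set Ω) := by
    intro c hc y hy hy2
    obtain ⟨w, hw, hw2, hwe⟩ := h.seq_invol hF h1 hev hab hba hγa hbS hy hy2
    have h3 := hc w hw hw2
    rw [hwe, mul_smul, mul_smul, inv_smul_eq_iff] at h3
    exact h3
  have hδ : (g * γ) • a = a := by rw [mul_smul]; exact hga
  obtain ⟨y, hy, hye⟩ := key (g * γ) hδ (fun c hc => by rw [mul_smul]; exact hgS _ (hγ c hc)) s hs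
  obtain ⟨w, hw, hwe⟩ := h.seq hF h1 hev hn hab hba hγa hbS y hy
  refine ⟨w, hw, ?_⟩
  show (w : G) = γ * (s : G) * γ⁻¹
  rw [hwe, show (y : G) = g * γ * s * (g * γ)⁻¹ from hye]
  group

/-- **An element fixing two points centralises `N` only trivially.** -/
theorem Pt.faith {γ : G} (hγa : γ • a = a) {b : Ω} (hb : b ≠ a) (hγb : γ • b = b)
    (hc : ∀ n ∈ N, γ * n = n * γ) : γ = 1 := by
  obtain ⟨S, hS, -⟩ := h.nev_one hF hev hb
  have hbS : b ∈ (line S : Set Ω) := fun y hy _ => hS y hy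
  have hall : ∀ U : Sylow 2 N, h.act ⟨γ, mem_stabilizer_iff.mpr hγa⟩ • U = U := fun U => by
    have e1 : h.act ⟨γ, mem_stabilizer_iff.mpr hγa⟩ = 1 := MulEquiv.ext fun x => Subtype.ext (by
      rw [h.act_apply, MulAut.one_apply]; exact mul_inv_eq_iff_eq_mul.mpr (hc x x.2))
    rw [e1, one_smul]
  obtain ⟨g, hab, hba⟩ := h.exists_swap hb
  -- at the other point it acts as an element of square one
  have hδa : (g⁻¹ * γ * g) • a = a := h.swap_fix hab hγb
  set α := h.act ⟨g⁻¹ * γ * g, mem_stabilizer_iff.mpr hδa⟩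
  have hcS : ∀ x ∈ (S : Subgroup N), α x = x := fun x hx => by
    obtain ⟨y, hy, hye⟩ : ∃ y ∈ (S : Subgroup N), (y : G) = g * x * g⁻¹ := by
      have hnm := h.norm_line hF h1 hev hn (γ := g) (S := S) fun c hc' y hy hy2 => by
        obtain ⟨w, hw, hw2, hwe⟩ := h.seq_invol hF h1 hev hab hba hb hbS hy hy2
        have h3 := hc' w hw hw2
        rw [hwe, mul_smul, mul_smul, inv_smul_eq_iff] at h3
        exact h3
      obtain ⟨y, hy, hye⟩ := (Subgroup.mem_normalizer_iff.mp hnm (x : G)).mp ⟨x, hx, rfl⟩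
      exact ⟨y, hy, hye⟩
    refine Subtype.ext ?_
    rw [h.act_apply]
    show g⁻¹ * γ * g * (x : G) * (g⁻¹ * γ * g)⁻¹ = x
    have h2 := hc y y.2
    rw [hye] at h2
    calc g⁻¹ * γ * g * (x : G) * (g⁻¹ * γ * g)⁻¹ = g⁻¹ * (γ * (g * x * g⁻¹)) * γ⁻¹ * g := by group
      _ = x := by rw [h2]; group
  obtain ⟨z, hz, hz2, hαz⟩ := hF.inner_of_cent hcS
  set z1 : G := g * z * g⁻¹ with hz1
  have hz1N : z1 ∈ N := by
    rcases eq_or_ne z 1 with e1 | e1
    · rw [hz1, e1]; simp [one_mem]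
    · have hzi := h.invol_of hF e1 hz2
      refine h1 _ (cls_conj (h.mem_cls z.2 hzi) g) ?_
      rw [hz1, mul_smul, mul_smul, inv_smul_eq_iff.mpr hba.symm, hS z hz, hba]
  have hz1a : z1 • a = a := h.fix hz1N
  have hz1b : z1 • b = b := by
    rw [hz1, mul_smul, mul_smul, inv_smul_eq_iff.mpr hab.symm, h.fix z.2, hab]
  have hz12 : z1 * z1 = 1 := by
    rw [hz1, show g * (z : G) * g⁻¹ * (g * z * g⁻¹) = g * ((z : G) * z) * g⁻¹ by group,
      show (z : G) * z = 1 from congrArg Subtype.val hz2, mul_one, mul_inv_cancel]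
  -- the lines at the point are fixed by `γ`, those at `b` by `z1 * γ`
  have hA : ∀ (U : Sylow 2 N) (c : Ω), c ∈ (line U : Set Ω) → γ • c ∈ (line U : Set Ω) := fun U c hc' =>
    h.line_stab hF hev hγa (hall U) hc'
  have hB : ∀ (U : Sylow 2 N) (c : Ω), g⁻¹ • c ∈ (line U : Set Ω) → g⁻¹ • (z1 * γ) • c ∈ (line U : Set Ω) := by
    intro U c hc'
    have hδ' : ((z : G) * (g⁻¹ * γ * g)) • a = a := by rw [mul_smul, hδa, h.fix z.2]
    have e1 : h.act ⟨(z : G) * (g⁻¹ * γ * g), mem_stabilizer_iff.mpr hδ'⟩ • U = U := by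
      have e2 : h.act ⟨(z : G) * (g⁻¹ * γ * g), mem_stabilizer_iff.mpr hδ'⟩ = 1 := MulEquiv.ext fun x => Subtype.ext (by
        rw [h.act_apply, MulAut.one_apply]
        have h3 := congrArg Subtype.val (DFunLike.congr_fun hαz x)
        rw [h.act_apply, MulAut.conj_apply] at h3
        show (z : G) * (g⁻¹ * γ * g) * (x : G) * ((z : G) * (g⁻¹ * γ * g))⁻¹ = x
        calc (z : G) * (g⁻¹ * γ * g) * (x : G) * ((z : G) * (g⁻¹ * γ * g))⁻¹
            = (z : G) * ((g⁻¹ * γ * g) * (x : G) * (g⁻¹ * γ * g)⁻¹) * (z : G)⁻¹ := by group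
          _ = (z : G) * ((z : G) * x * (z : G)⁻¹) * (z : G)⁻¹ := by rw [h3]; rfl
          _ = ((z : G) * z) * x * ((z : G) * z)⁻¹ := by group
          _ = x := by rw [show (z : G) * z = 1 from congrArg Subtype.val hz2]; group)
      rw [e2, one_smul]
    have h4 := h.line_stab hF hev hδ' e1 hc'
    rwa [show g⁻¹ • (z1 * γ) • c = ((z : G) * (g⁻¹ * γ * g)) • g⁻¹ • c by
      rw [← mul_smul, ← mul_smul]; congr 1; rw [hz1]; group]
  -- a point off the line fixed by the first is fixed by the second, so fixed by `z1`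
  have hoff : ∀ γ' : G, (∀ (U : Sylow 2 N) (c : Ω), c ∈ (line U : Set Ω) → γ' • c ∈ (line U : Set Ω)) →
      (∀ (U : Sylow 2 N) (c : Ω), g⁻¹ • c ∈ (line U : Set Ω) → g⁻¹ • γ' • c ∈ (line U : Set Ω)) →
      ∀ c, c ∉ (line S : Set Ω) → γ' • c = c := by
    intro γ' hA' hB' c hcS
    by_contra hne
    have hca : c ≠ a := fun e1 => hcS (e1 ▸ h.mem_line hF S)
    have hcb : c ≠ b := fun e1 => hcS (e1 ▸ hbS)
    obtain ⟨U, hU, -⟩ := h.nev_one hF hev hca
    obtain ⟨V, hV, -⟩ := h.nev_one hF hev (b := g⁻¹ • c) (fun e1 => hcb (by rw [← hab, ← e1, smul_inv_smul]))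
    obtain ⟨u, hu, hu1, hu2⟩ := h.exists_invol_sylow hF U
    obtain ⟨v, hv, hv1, hv2⟩ := h.exists_invol_sylow hF V
    have hcU : c ∈ (line U : Set Ω) := fun y hy _ => hU y hy
    have hcV : g⁻¹ • c ∈ (line V : Set Ω) := fun y hy _ => hV y hy
    have hgv : ∀ d, g⁻¹ • d ∈ (line V : Set Ω) → (g * (v : G) * g⁻¹) • d = d := fun d hd => by
      rw [mul_smul, mul_smul, hd v hv hv2, smul_inv_smul]
    have e2 := h.two_points hF h1 hev (h.mem_cls u.2 (h.invol_of hF hu1 hu2))
      (cls_conj (h.mem_cls v.2 (h.invol_of hF hv1 hv2)) g) (Ne.symm hne) (hcU u hu hu2) (hA' U c hcU u hu hu2)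
      (hgv c hcV) (hgv _ (hB' V c hcV))
    -- the line of `c` then holds both points
    rw [h.fix_line hF hev hu (h.invol_of hF hu1 hu2)] at e2
    have hbU : b ∈ (line U : Set Ω) := by
      rw [e2, mem_fixedBy, mul_smul, mul_smul, inv_smul_eq_iff.mpr hab.symm, h.fix v.2, hab]
    exact hcS (h.line_unique hF hev hb hbS hbU ▸ hcU)
  have hγ2 : ∀ c, c ∉ (line S : Set Ω) → (γ * γ) • c = c := by
    refine hoff _ (fun U c hc' => by rw [mul_smul]; exact hA U _ (hA U c hc')) fun U c hc' => ?_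
    have e1 : γ * γ = (z1 * γ) * (z1 * γ) := by
      rw [show z1 * γ * (z1 * γ) = z1 * (γ * z1) * γ by group, hc z1 hz1N,
        show z1 * (z1 * γ) * γ = z1 * z1 * (γ * γ) by group, hz12, one_mul]
    rw [e1, mul_smul]
    exact hB U _ (hB U c hc')
  -- no point on the line is moved by an element fixing all others
  have hon : ∀ γ' : G, γ' • a = a → (∀ n ∈ N, γ' * n = n * γ') → (∀ c, c ∉ (line S : Set Ω) → γ' • c = c) →
      γ' = 1 := by
    intro γ' hγ' hc' hoff'
    refine eq_of_smul_eq_smul (α := Ω) fun c => ?_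
    rw [one_smul]
    by_cases hcS : c ∈ (line S : Set Ω)
    · rcases eq_or_ne c a with rfl | hca
      · exact hγ'
      obtain ⟨U, hU⟩ := two_le_sylow hF S
      obtain ⟨u, hu, hu1, hu2⟩ := h.exists_invol_sylow hF U
      have hui := h.invol_of hF hu1 hu2
      have hnot : (u : G) • c ∉ (line S : Set Ω) := fun e1 => by
        have hfx := h.act_fix hF hev (γ := (u : G)) (h.fix u.2) hca hcS e1
        have hnorm : u • S = S := by
          refine Eq.trans ?_ hfx
          show MulAut.conj u • S = _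
          congr 1
        exact hU (hF.eq_of_mem hu1 hu (mem_of_norm hu2 hnorm))
      have h5 := hoff' _ hnot
      rw [← mul_smul, hc' u u.2, mul_smul, smul_left_cancel_iff] at h5
      exact h5
    · exact hoff' c hcS
  have hγinv : γ ^ 2 ^ 1 = 1 := by
    rw [pow_one, pow_two]
    exact hon _ (by rw [mul_smul, hγa, hγa]) (fun n hn' => by rw [mul_assoc, hc n hn', ← mul_assoc, hc n hn', mul_assoc])
      hγ2
  -- a fixed point on another line
  obtain ⟨U, hU⟩ := two_le_sylow hF S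
  obtain ⟨c, ⟨hcU, hca⟩, hc'⟩ := exists_fix_of_odd hγinv (A := {c : Ω | c ∈ (line U : Set Ω) ∧ c ≠ a})
    (fun c hc' => ⟨hA U c hc'.1, fun e1 => hc'.2 (smul_left_cancel _ (e1.trans hγa.symm))⟩) (h.line_odd hF hev hn U)
  have hcS : c ∉ (line S : Set Ω) := fun e1 => hU (h.line_unique hF hev hca hcU e1)
  have hcb : c ≠ b := fun e1 => hcS (e1 ▸ hbS)
  -- so `z1` stabilises the line of `c` at `b`
  have hz1g : z1 = 1 := by
    by_contra hz1ne
    set u0 := g⁻¹ • c with hu0
    have hu0a : u0 ≠ a := fun e1 => hcb (by rw [← hab, ← e1, hu0, smul_inv_smul])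
    obtain ⟨V, hV, -⟩ := h.nev_one hF hev hu0a
    have hu0V : u0 ∈ (line V : Set Ω) := fun y hy _ => hV y hy
    have h2 := hB V c hu0V
    rw [mul_smul, hc', hz1, mul_smul, mul_smul, inv_smul_smul] at h2
    have hfx := h.act_fix hF hev (γ := (z : G)) (h.fix z.2) hu0a hu0V h2
    have hnorm : z • V = V := by
      refine Eq.trans ?_ hfx
      show MulAut.conj z • V = _
      congr 1
    have hz1' : z ≠ 1 := fun e1 => hz1ne (by rw [hz1, e1]; simp)
    have hzV : z ∈ (V : Subgroup N) := mem_of_norm hz2 hnorm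
    have hVS : V = S := hF.eq_of_mem hz1' hzV hz
    rw [hVS] at hu0V
    refine hcS fun y hy hy2 => ?_
    obtain ⟨w, hw, hw2, hwe⟩ := h.seq_invol hF h1 hev hab hba hb hbS hy hy2
    have h3 := hu0V w hw hw2
    rw [hwe, hu0, mul_smul, mul_smul, smul_inv_smul, smul_left_cancel_iff] at h3
    exact h3
  exact hon γ hγa hc (hoff γ hA fun U c hc' => by simpa [hz1g] using hB U c hc')

/-- **An element fixing two points of a line and trivial on its coordinates lies in the Sylow subgroup.** -/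
theorem Pt.ker {γ : G} (hγa : γ • a = a) {b : Ω} (hb : b ≠ a) (hγb : γ • b = b) {S : Sylow 2 N}
    (hbS : b ∈ (line S : Set Ω)) (C : Coord N S m p)
    (hπ : ∀ x : N, ∀ hy : γ * x * γ⁻¹ ∈ N, x ∈ (S : Subgroup N) → C.π ⟨_, hy⟩ = C.π x) :
    ∃ w : N, w ∈ (S : Subgroup N) ∧ (w : G) = γ := by
  have hfix := h.act_fix hF hev hγa hb hbS (by rw [hγb]; exact hbS)
  obtain ⟨w, hw, hin⟩ := hF.inner_of_triv C hfix fun x hx => hπ x (h.conj γ (mem_stabilizer_iff.mpr hγa) x x.2) hx
  refine ⟨w, hw, ?_⟩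
  have hwb : (w : G) • b = b := h.sfix_line hF hev hb hbS w hw
  have h2 := h.faith hF h1 hev hn (γ := (w : G)⁻¹ * γ) (b := b) (by rw [mul_smul, hγa, inv_smul_eq_iff, h.fix w.2])
    hb (by rw [mul_smul, hγb, inv_smul_eq_iff, hwb]) fun n hn' => by
      have h3 := congrArg Subtype.val (DFunLike.congr_fun hin (⟨n, hn'⟩ : N))
      rw [h.act_apply, MulAut.conj_apply] at h3
      have h3' : γ * n * γ⁻¹ = (w : G) * n * (w : G)⁻¹ := h3
      calc (w : G)⁻¹ * γ * n = (w : G)⁻¹ * (γ * n * γ⁻¹) * γ := by group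
        _ = n * ((w : G)⁻¹ * γ) := by rw [h3']; group
  exact inv_mul_eq_one.mp h2

end CfsgLib.RankOnePoint
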