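import Cfsg.Agent.Lib.RankOnePoint.Plane
import Cfsg.Agent.Lib.RankOnePoint.EvenSeq

/-!
As many fixed points of a member as elements in a Sylow subgroup: an affine plane, with a regular normal subgroup.

Blueprint: `blueprint/S2208.md`, part C.
-/

set_option autoImplicit false
set_option linter.unusedSectionVars false
set_option linter.style.haveILetI false

namespace CfsgLib.RankOnePoint

open MulAction CfsgLib.BinaryCoset
open scoped Pointwise

universe u v

variable {G : Type u} {Ω : Type v} [Group G] [MulAction G Ω] [Finite G] [Finite Ω] [FaithfulSMul G Ω]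
  {a : Ω} {N : Subgroup G} (h : Pt G a N) [IsSimpleGroup N] {m p e : ℕ} (hF : Facts N m p e) (h1 : H1 a N)
  (hev : ¬ Ev a N)
include h hF h1 hev

/-- Members with one axis commute, and their product is one or a member with that axis. -/
theorem Pt.same_axis {x y : G} (hx : x ∈ cls N) (hy : y ∈ cls N) (hxy : fixedBy Ω x = fixedBy Ω y) :
    x * y = y * x ∧ (x * y = 1 ∨ (x * y ∈ cls N ∧ fixedBy Ω (x * y) = fixedBy Ω x)) := by
  obtain ⟨hxi, g, hgN⟩ := id hx
  have hya : (g⁻¹ * y * g) • a = a := by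
    have : g • a ∈ fixedBy Ω y := hxy ▸ h.at_fix (p := g • a) ⟨g, rfl, hgN⟩
    rw [mul_smul, mul_smul, show y • g • a = g • a from this, inv_smul_smul]
  have hy' := h1 _ (by simpa using cls_conj hy g⁻¹) hya
  set x' : N := ⟨_, hgN⟩
  set y' : N := ⟨_, hy'⟩
  have hxi' : Invol (x' : G) := by simpa [x'] using hxi.conj g⁻¹
  have hyi' : Invol (y' : G) := by simpa [y'] using hy.1.conj g⁻¹
  obtain ⟨S, hS⟩ := h.invol_sylow (y := x') (Subtype.ext hxi'.2)
  obtain ⟨T, hT⟩ := h.invol_sylow (y := y') (Subtype.ext hyi'.2)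
  have hST : S = T := h.line_inj hF hev (by
    rw [← h.fix_line hF hev hS hxi', ← h.fix_line hF hev hT hyi']
    ext c
    show c ∈ fixedBy Ω (g⁻¹ * x * g) ↔ c ∈ fixedBy Ω (g⁻¹ * y * g)
    rw [← inv_smul_smul g c, fix_smul, fix_smul, hxy])
  subst hST
  have hc := hF.central hS (Subtype.ext hxi'.2) hT
  have hcG : x * y = y * x := by
    have h2 := congrArg (fun w : N => g * (w : G) * g⁻¹) hc
    simpa [x', y', mul_assoc] using h2
  refine ⟨hcG, ?_⟩
  by_cases h2 : x * y = 1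
  · exact Or.inl h2
  have hi : Invol (x * y) := ⟨h2, by
    rw [show x * y * (x * y) = x * (y * x) * y by group, ← hcG, show x * (x * y) * y = x * x * (y * y) by group,
      hxi.2, hy.1.2, one_mul]⟩
  have he : ((x' * y' : N) : G) = g⁻¹ * (x * y) * g := by simp [x', y', mul_assoc]
  refine Or.inr ⟨⟨hi, g, he ▸ (x' * y').2⟩, ?_⟩
  have hl := h.fix_line hF hev (mul_mem hS hT) (by rw [he]; simpa using hi.conj g⁻¹)
  rw [← h.fix_line hF hev hS hxi', he] at hl
  ext c
  rw [← fix_smul (g := g) (x := x * y), hl, ← fix_smul (g := g) (x := x)]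

variable (hf : ∀ x ∈ cls N, numF Ω x = p)
include hf

theorem Pt.plane0 : Plane0 G Ω (cls N) (2 ^ m) p := by
  haveI := h.pretrans
  have hm := hF.two_le
  have hq := hF.q_four
  have hqp := hF.q_le_p
  have hev2 : Even (2 ^ m) := Nat.even_pow.mpr ⟨even_two, by omega⟩
  have hline : ∀ c d : Ω, c ≠ d → ∃ x ∈ cls N, x • c = c ∧ x • d = d := fun c d hcd => by
    obtain ⟨b, hb⟩ := h.exists_ne
    obtain ⟨g, rfl, rfl⟩ := h.trans a b c d hb.symm hcd
    obtain ⟨S, hS, -⟩ := h.nev_one hF hev hb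
    obtain ⟨z, hz, hz1, hz2⟩ := h.exists_invol_sylow hF S
    exact ⟨g * z * g⁻¹, cls_conj (h.mem_cls z.2 (h.invol_of hF hz1 hz2)) g, fix_conj.mpr (h.fix z.2),
      fix_conj.mpr (hS z hz)⟩
  refine
    { trans := h.trans
      q_even := hev2
      p_even := ?_
      two_le_q := by omega
      two_le_p := by omega
      invol := fun x hx => hx.1
      conj := fun x hx g => cls_conj hx g
      card := ?_
      card_line := hf
      join := fun c d => ?_
      unique := fun x hx y hy c d hcd => h.two_points hF h1 hev hx hy hcd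
      mult := fun x hx => ?_
      axis := fun x hx y hy hst => ?_ }
  · rcases hF.kind with ⟨hp, -⟩ | ⟨hp, -⟩ | ⟨hp, -⟩ <;> rw [hp]
    · exact hev2
    · exact Nat.even_pow.mpr ⟨hev2, two_ne_zero⟩
    · exact Nat.even_pow.mpr ⟨hev2, three_ne_zero⟩
  · obtain ⟨x, hx, hxi⟩ := h.exists_invol
    have hn := h.nev_n hF hev (h.mem_cls hx hxi)
    rw [hf x (h.mem_cls hx hxi)] at hn
    have hn1 : 1 ≤ Nat.card Ω := Nat.card_pos_iff.mpr ⟨⟨a⟩, inferInstance⟩
    obtain ⟨r, rfl⟩ : ∃ r, p = r + 1 := ⟨p - 1, by omega⟩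
    rw [show (r + 1) * (r + 1) = (r + 1 + 1) * r + 1 by ring]
    rw [Nat.add_sub_cancel] at hn
    omega
  · rcases eq_or_ne c d with rfl | hcd
    · obtain ⟨b, hb⟩ := h.exists_ne
      haveI : Nontrivial Ω := ⟨b, a, hb⟩
      obtain ⟨d, hd⟩ := _root_.exists_ne c
      obtain ⟨x, hx, hxc, -⟩ := hline c d hd.symm
      exact ⟨x, hx, hxc, hxc⟩
    · exact hline c d hcd
  · rw [← h.same_fix_eq hF h1 hev hx]
    exact Nat.card_congr (Equiv.subtypeSubtypeEquivSubtypeInter (· ∈ cls N) fun y => fixedBy Ω y = fixedBy Ω x).symm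
  · by_cases hd : Disjoint (fixedBy Ω y) (fixedBy Ω x)
    · exact Or.inr hd
    obtain ⟨c, hcy, hcx⟩ := Set.not_disjoint_iff.mp hd
    exact Or.inl (h.axis hF h1 hev hx hy hcx hcy hst).symm

variable (hn : Even (Nat.card Ω))
include hn

open Plane (Line Par)

/-- An element of a parallel class fixing the point is a member. -/
theorem Pt.persp_base {x : G} (hx : x ∈ cls N) {γ : G}
    (hγ : γ ∈ Subgroup.closure {y | y ∈ cls N ∧ Par (fixedBy Ω y) (fixedBy Ω x)}) (hγa : γ • a = a) :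
    γ = 1 ∨ γ ∈ cls N := by
  have P := h.plane0 hF h1 hev hf
  have hl : Line (cls N) (fixedBy Ω x) := ⟨x, hx, rfl⟩
  -- parallel members commute
  have hstab : ∀ {u v : G}, u ∈ cls N → v ∈ cls N → Par (fixedBy Ω u) (fixedBy Ω v) →
      fixedBy Ω (v * u * v⁻¹) = fixedBy Ω u := by
    intro u v hu hv hp
    rw [← smul_fixedBy]
    refine Set.eq_of_subset_of_ncard_le ?_ (le_of_eq ?_) (Set.toFinite _)
    · rintro _ ⟨c, hc, rfl⟩; exact P.member_stab hv ⟨u, hu, rfl⟩ hp.symm c hc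
    · rw [Set.ncard_smul_set]
  have hcomm : ∀ u ∈ cls N, ∀ v ∈ cls N, Par (fixedBy Ω u) (fixedBy Ω v) → u * v = v * u := by
    intro u hu v hv hp
    have hui : u⁻¹ = u := inv_eq_of_mul_eq_one_right hu.1.2
    have hvi : v⁻¹ = v := inv_eq_of_mul_eq_one_right hv.1.2
    have h3 := (h.same_axis hF h1 hev hu (cls_conj hu v) (hstab hu hv hp).symm).2
    have h4 := (h.same_axis hF h1 hev (cls_conj hv u) hv (hstab hv hu hp.symm)).2
    rw [hvi] at h3
    rw [hui, show u * v * u * v = u * (v * u * v) by group] at h4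
    rcases h3 with h3 | ⟨-, h3⟩
    · calc u * v = (v⁻¹ * u⁻¹)⁻¹ := by group
        _ = (v * u)⁻¹ := by rw [hui, hvi]
        _ = v * u := by
          refine (eq_inv_of_mul_eq_one_left ?_).symm
          rw [show v * u * (v * u) = v * (u * (v * u * v)) * v⁻¹ by group, h3, mul_one, mul_inv_cancel]
    · rcases h4 with h4 | ⟨-, h4⟩
      · exfalso
        rw [h4, fixedBy_one_eq_univ] at h3
        have h5 := P.line_card ⟨u, hu, rfl⟩
        rw [← h3, Nat.card_congr (Equiv.Set.univ Ω), P.card] at h5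
        have := P.two_le_p
        nlinarith
      · have h5 := hstab hv hu hp.symm
        rw [hui] at h5
        exact (h.same_axis hF h1 hev hu hv (h3.symm.trans (h4.trans h5))).1
  set K : Set G := {y | y ∈ cls N ∧ Par (fixedBy Ω y) (fixedBy Ω x)}
  set E := Subgroup.closure K with hE
  have hpar : ∀ u ∈ K, ∀ v ∈ K, Par (fixedBy Ω u) (fixedBy Ω v) := fun u hu v hv =>
    P.par_trans ⟨u, hu.1, rfl⟩ hl ⟨v, hv.1, rfl⟩ hu.2 hv.2.symm
  have hc1 : E ≤ Subgroup.centralizer K := (Subgroup.closure_le _).mpr fun u hu =>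
    Subgroup.mem_centralizer_iff.mpr fun v hv => hcomm v hv.1 u hu.1 (hpar v hv u hu)
  have hc2 : E ≤ Subgroup.centralizer (E : Set G) := (Subgroup.closure_le _).mpr fun u hu =>
    Subgroup.mem_centralizer_iff.mpr fun v hv => (Subgroup.mem_centralizer_iff.mp (hc1 hv) u hu).symm
  have hEc : ∀ u ∈ E, ∀ v ∈ E, u * v = v * u := fun u hu v hv => Subgroup.mem_centralizer_iff.mp (hc2 hv) u hu
  have hsq : ∀ u ∈ E, u * u = 1 := fun u hu => by
    induction hu using Subgroup.closure_induction with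
    | mem u hu => exact hu.1.1.2
    | one => simp
    | mul u v hu hv hU hV =>
      rw [show u * v * (u * v) = u * (v * u) * v by group, ← hEc u hu v hv,
        show u * (u * v) * v = u * u * (v * v) by group, hU, hV, one_mul]
    | inv u _ hU => rw [← _root_.mul_inv_rev, hU, inv_one]
  -- the line of the class through the point
  obtain ⟨ℓ, hℓ, haℓ, hℓx⟩ : ∃ ℓ, Line (cls N) ℓ ∧ a ∈ ℓ ∧ Par ℓ (fixedBy Ω x) := by
    by_cases hax : a ∈ fixedBy Ω x
    · exact ⟨_, hl, hax, Or.inl rfl⟩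
    · obtain ⟨ℓ, ⟨h2, h3, h4⟩, -⟩ := P.playfair hl hax
      exact ⟨ℓ, h2, h3, Or.inr h4⟩
  obtain ⟨x0, hx0, rfl⟩ := hℓ
  obtain ⟨S, hS⟩ := h.hline hF h1 hev x0 hx0 haℓ
  have hEline : ∀ u ∈ E, ∀ c ∈ (line S : Set Ω), u • c ∈ (line S : Set Ω) := fun u hu => by
    induction hu using Subgroup.closure_induction with
    | mem u hu =>
      rw [← hS]
      exact P.member_stab hu.1 ⟨x0, hx0, rfl⟩ (P.par_trans ⟨u, hu.1, rfl⟩ hl ⟨x0, hx0, rfl⟩ hu.2 hℓx.symm)
    | one => simp
    | mul u v _ _ hU hV => exact fun c hc => by rw [mul_smul]; exact hU _ (hV c hc)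
    | inv u hu hU => rw [inv_eq_of_mul_eq_one_right (hsq u hu)]; exact hU
  obtain ⟨b, hb, hbS⟩ := h.line_second hF hev S
  set α := h.act ⟨γ, mem_stabilizer_iff.mpr hγa⟩
  have hαS : α • S = S := h.act_fix hF hev hγa hb hbS (hEline γ hγ b hbS)
  have hγi : γ⁻¹ = γ := inv_eq_of_mul_eq_one_right (hsq γ hγ)
  obtain ⟨C⟩ := hF.coord S
  obtain ⟨w, hw, hαw⟩ : ∃ w ∈ (S : Subgroup N), α = MulAut.conj w := by
    by_cases hp : p = 2 ^ m
    · -- all involutions on the line commute with it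
      obtain ⟨w, hw, -, hαw⟩ := hF.inner_of_cent (S := S) (α := α) fun z hz => Subtype.ext (by
        rw [h.act_apply]
        rcases eq_or_ne z 1 with rfl | hz1
        · simp
        have hzi := h.invol_of hF hz1 (hF.sq_eq_one_of_elem hp hz)
        have hzK : (z : G) ∈ K := ⟨h.mem_cls z.2 hzi, by rw [h.fix_line hF hev hz hzi, ← hS]; exact hℓx⟩
        exact mul_inv_eq_iff_eq_mul.mpr (hEc γ hγ z (Subgroup.subset_closure hzK)))
      exact ⟨w, hw, hαw⟩
    refine hF.inner_of_triv C hαS fun s hs => ?_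
    -- `s` preserves the class
    have hsℓ : (s : G) • fixedBy Ω x0 = fixedBy Ω x0 := by
      refine Set.eq_of_subset_of_ncard_le ?_ (le_of_eq (by rw [Set.ncard_smul_set])) (Set.toFinite _)
      rintro _ ⟨c, hc, rfl⟩
      show (s : G) • c ∈ fixedBy Ω x0
      rcases eq_or_ne c a with rfl | hca
      · rw [h.fix s.2]; exact hc
      · rw [h.sfix_line hF hev hca (hS ▸ hc) s hs]; exact hc
    have hEs : E ≤ E.comap (MulAut.conj (s : G)).toMonoidHom := (Subgroup.closure_le _).mpr fun u hu => by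
      refine Subgroup.subset_closure ⟨cls_conj hu.1 _, ?_⟩
      show Par (fixedBy Ω ((s : G) * u * (s : G)⁻¹)) _
      rw [← smul_fixedBy]
      have h2 : Par ((s : G) • fixedBy Ω u) (fixedBy Ω x0) := by
        rw [← hsℓ]
        exact (P.par_trans ⟨u, hu.1, rfl⟩ hl ⟨x0, hx0, rfl⟩ hu.2 hℓx.symm).imp (congrArg ((s : G) • ·)) fun hd =>
          Set.disjoint_smul_set.mpr hd
      exact P.par_trans (P.line_smul ⟨u, hu.1, rfl⟩ _) ⟨x0, hx0, rfl⟩ hl h2 hℓx
    have hsg : (s : G) * γ * (s : G)⁻¹ ∈ E := hEs hγ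
    set w : N := α s * s⁻¹
    have hw : w ∈ (S : Subgroup N) := mul_mem ((fix_iff hαS s).mp hs) (inv_mem hs)
    have hwE : (w : G) ∈ E := by
      have e1 : (w : G) = γ * ((s : G) * γ * (s : G)⁻¹) := by
        show γ * (s : G) * γ⁻¹ * (s : G)⁻¹ = _
        rw [hγi]; group
      rw [e1]
      exact mul_mem hγ hsg
    have hπ := (hF.ker_iff hp C hw).mpr (Subtype.ext (hsq _ hwE))
    rw [C.hom _ ((fix_iff hαS s).mp hs) _ (inv_mem hs), C.map_inv hs, CharTwo.add_eq_zero] at hπ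
    exact hπ
  -- a fixed point on the line
  obtain ⟨c, ⟨hcS, hca⟩, hγc⟩ := exists_fix_of_odd (k := 1) (by rw [pow_one, pow_two]; exact hsq γ hγ)
    (A := {c : Ω | c ∈ (line S : Set Ω) ∧ c ≠ a})
    (fun c hc => ⟨hEline γ hγ c hc.1, fun e1 => hc.2 (smul_left_cancel γ (e1.trans hγa.symm))⟩)
    (h.line_odd hF hev hn S)
  have hwc : (w : G) • c = c := h.sfix_line hF hev hca hcS w hw
  have h2 := h.faith hF h1 hev hn (γ := (w : G)⁻¹ * γ) (b := c)
    (by rw [mul_smul, hγa, inv_smul_eq_iff, h.fix w.2]) hca (by rw [mul_smul, hγc, inv_smul_eq_iff, hwc])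
    fun n hn' => by
      have h3 : γ * n * γ⁻¹ = (w : G) * n * (w : G)⁻¹ :=
        congrArg Subtype.val (DFunLike.congr_fun hαw (⟨n, hn'⟩ : N))
      calc (w : G)⁻¹ * γ * n = (w : G)⁻¹ * (γ * n * γ⁻¹) * γ := by group
        _ = n * ((w : G)⁻¹ * γ) := by rw [h3]; group
  have hwγ : (w : G) = γ := inv_mul_eq_one.mp h2
  rcases eq_or_ne γ 1 with e1 | e1
  · exact Or.inl e1
  · exact Or.inr (hwγ ▸ h.mem_cls w.2 ⟨hwγ ▸ e1, hwγ ▸ hsq γ hγ⟩)

theorem Pt.plane : Plane G Ω (cls N) (2 ^ m) p := by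
  refine { toPlane0 := h.plane0 hF h1 hev hf, persp := fun x hx γ hγ hc => ?_ }
  obtain ⟨c, hc⟩ := hc
  haveI := h.pretrans
  obtain ⟨g, rfl⟩ := exists_smul_eq G a c
  have hγ' : g⁻¹ * γ * g ∈
      Subgroup.closure {y | y ∈ cls N ∧ Par (fixedBy Ω y) (fixedBy Ω (g⁻¹ * x * g))} := by
    have hle : Subgroup.closure {y | y ∈ cls N ∧ Par (fixedBy Ω y) (fixedBy Ω x)} ≤
        (Subgroup.closure {y | y ∈ cls N ∧ Par (fixedBy Ω y) (fixedBy Ω (g⁻¹ * x * g))}).comap
          (MulAut.conj g⁻¹).toMonoidHom := (Subgroup.closure_le _).mpr fun u hu => by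
      refine Subgroup.subset_closure ⟨cls_conj hu.1 _, ?_⟩
      show Par (fixedBy Ω (g⁻¹ * u * g⁻¹⁻¹)) _
      rw [← smul_fixedBy, show fixedBy Ω (g⁻¹ * x * g) = g⁻¹ • fixedBy Ω x by rw [smul_fixedBy, inv_inv]]
      exact hu.2.imp (congrArg (g⁻¹ • ·)) fun hd => Set.disjoint_smul_set.mpr hd
    simpa using hle hγ
  rcases h.persp_base hF h1 hev hf hn (x := g⁻¹ * x * g) (by simpa using cls_conj hx g⁻¹) hγ'
    (by rw [mul_smul, mul_smul, hc, inv_smul_smul]) with e1 | e1
  · exact Or.inl (by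
      have := congrArg (fun w => g * w * g⁻¹) e1
      simpa [mul_assoc] using this)
  · exact Or.inr (by simpa [mul_assoc] using cls_conj e1 g)

omit hf hn in
/-- **As many fixed points of a member as `p`: a regular normal subgroup.** -/
theorem Pt.f_p (hn : Even (Nat.card Ω)) (hf : ∀ x ∈ cls N, numF Ω x = p) : HasRegularNormal G Ω :=
  (h.plane hF h1 hev hf hn).regular

end CfsgLib.RankOnePoint
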