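import Cfsg.Agent.Lib.RankOnePoint.NoShared

/-!
`L₂(4)` with a two-point stabiliser meeting two Sylow subgroups in outer involutions is impossible: their product
centralises the subgroup at the second point, so fixes an orbit of it, which the involutions then fix as well.

Blueprint: `blueprint/S2208.md`, part A, first case.
-/

set_option autoImplicit false
set_option linter.unusedSectionVars false
set_option linter.style.haveILetI false

namespace CfsgLib.RankOnePoint

open MulAction CfsgLib.BinaryCoset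
open scoped Pointwise

universe u v

/-- A proper subgroup of a non-abelian simple group of order sixty has index at least five. -/
theorem five_le_index {X : Type*} [Group X] [Finite X] [IsSimpleGroup X] (hc : Nat.card X = 60) {H : Subgroup X}
    (hH : H ≠ ⊤) : 5 ≤ H.index := by
  classical
  haveI : H.FiniteIndex := ⟨Subgroup.index_ne_zero_of_finite⟩
  have hinj : Function.Injective (MulAction.toPermHom X (X ⧸ H)) := by
    rw [← MonoidHom.ker_eq_bot_iff]
    refine (IsSimpleGroup.eq_bot_or_eq_top_of_normal _ inferInstance).resolve_right fun e => hH ?_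
    rw [← top_le_iff]
    intro x _
    have hx : x ∈ (MulAction.toPermHom X (X ⧸ H)).ker := e ▸ Subgroup.mem_top x
    have h1 := DFunLike.congr_fun (MonoidHom.mem_ker.mp hx) ((1 : X) : X ⧸ H)
    simpa [QuotientGroup.eq] using h1
  have h1 := Subgroup.card_dvd_of_injective _ hinj
  rw [hc, Nat.card_perm] at h1
  show 5 ≤ Nat.card (X ⧸ H)
  by_contra h5
  have h2 := Nat.le_of_dvd (Nat.factorial_pos _) h1
  have h3 : Nat.factorial (Nat.card (X ⧸ H)) ≤ Nat.factorial 4 := Nat.factorial_le (by omega)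
  simp [Nat.factorial] at h3
  omega

variable {G : Type u} {Ω : Type v} [Group G] [MulAction G Ω] [Finite G] [Finite Ω] [FaithfulSMul G Ω]
  {a : Ω} {N : Subgroup G} (h : Pt G a N) [IsSimpleGroup N] {m p e : ℕ} (hF : Facts N m p e)
include h hF

theorem Pt.card_N : Nat.card N = (p + 1) * (p * ((2 ^ m - 1) * e)) := by
  obtain ⟨S⟩ : Nonempty (Sylow 2 N) := inferInstance
  haveI : Fact (Nat.Prime 2) := ⟨Nat.prime_two⟩
  rw [← hF.card_stab S, ← hF.card_points, ← MulAction.index_stabilizer_of_transitive (↥N) S,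
    Subgroup.index_mul_card]

/-- An outer automorphism fixing `b` moves a point of the orbit of `b`. -/
theorem Pt.outer_moves {b : Ω} (hb : b ≠ a) {y : G} (hya : y • a = a)
    (hin : ¬ Inn (h.act ⟨y, mem_stabilizer_iff.mpr hya⟩)) : ∃ n ∈ N, y • n • b ≠ n • b := by
  by_contra hc
  push Not at hc
  let K : Subgroup N :=
    { carrier := {k | ∀ n ∈ N, (k : G) • n • b = n • b}
      one_mem' := fun n _ => by simp
      mul_mem' := fun {k l} hk hl n hn => by rw [Subgroup.coe_mul, mul_smul, hl n hn, hk n hn]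
      inv_mem' := fun {k} hk n hn => by rw [InvMemClass.coe_inv, inv_smul_eq_iff, hk n hn] }
  haveI : K.Normal := ⟨fun k hk w n hn => by
    have := hk ((w : G)⁻¹ * n) (mul_mem (inv_mem w.2) hn)
    rw [Subgroup.coe_mul, Subgroup.coe_mul, InvMemClass.coe_inv, mul_smul, mul_smul, ← mul_smul (w : G)⁻¹, this,
      mul_smul, smul_inv_smul]⟩
  have hbot : K = ⊥ := (IsSimpleGroup.eq_bot_or_eq_top_of_normal K inferInstance).resolve_right fun e => by
    obtain ⟨x, hx, hxb⟩ := h.not_fix_all hb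
    have h1 : (⟨x, hx⟩ : N) ∈ K := e ▸ Subgroup.mem_top _
    have := h1 1 (one_mem _)
    rw [one_smul] at this
    exact hxb this
  have hy' : ∀ n ∈ N, y • n • b = n • b := hc
  have hyi : ∀ n ∈ N, y⁻¹ • n • b = n • b := fun n hn => by rw [inv_smul_eq_iff, hy' n hn]
  refine hin ⟨1, MulEquiv.ext fun w => ?_⟩
  rw [map_one, MulAut.one_apply]
  set v : N := h.act ⟨y, mem_stabilizer_iff.mpr hya⟩ w
  have hv : v * w⁻¹ ∈ K := fun n hn => by
    have hwn : (w : G)⁻¹ * n ∈ N := mul_mem (inv_mem w.2) hn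
    show ((v : G) * (w : G)⁻¹) • n • b = n • b
    rw [mul_smul, show (v : G) = y * w * y⁻¹ from h.act_apply _ w, mul_smul, mul_smul, ← mul_smul (w : G)⁻¹,
      hyi _ hwn, mul_smul, smul_inv_smul, hy' n hn]
  rw [hbot, Subgroup.mem_bot, mul_inv_eq_one] at hv
  exact hv

/-- **Involutions at `b` no member there: impossible when there is an outer member.** -/
theorem Pt.no_none {b : Ω} (hb : b ≠ a) (hnone : ∀ y ∈ N, Invol y → y • b = b → ¬ At a N b y) {x : G}
    (hx : x ∈ cls N) (hxa : x • a = a) (hxN : x ∉ N) (hxb : At a N b x) : False := by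
  classical
  haveI : Fact (Nat.Prime 2) := ⟨Nat.prime_two⟩
  obtain ⟨hp, hm, hU2, S, T, hST, s, hs, t, ht, hsi, hti, hsb, htb, hxs, hxt⟩ :=
    h.none_four hF hb hnone hx hxa hxN hxb
  have hpq : p = 2 ^ m := by rw [hp, hm]; rfl
  have he : e = 1 := by
    rcases hF.kind with ⟨-, he⟩ | ⟨-, -, he⟩ | ⟨hp3, -⟩
    · exact he
    · exact he
    · rw [hp, hm] at hp3; norm_num at hp3
  have h60 : Nat.card N = 60 := by rw [h.card_N hF, hp, hm, he]; rfl
  obtain ⟨g, hab, hba⟩ := h.exists_swap hb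
  have hN : ∀ {w : N}, Invol (w : G) → w ≠ 1 ∧ w * w = 1 := fun {w} hw =>
    ⟨fun e1 => hw.1 (by rw [e1]; rfl), Subtype.ext hw.2⟩
  obtain ⟨hodd, -⟩ := h.conj_two hF hST hs (hN hsi).1 (hN hsi).2 ht (hN hti).1 (hN hti).2
  -- the two outer automorphisms
  have hza : g⁻¹ * x * g ∈ N := (h.at_swap hab).mp hxb
  set z0 : N := ⟨_, hza⟩ with hz0
  have hz0i : Invol (z0 : G) := by simpa [hz0] using hx.1.conj g⁻¹
  obtain ⟨S0, hS0⟩ := h.invol_sylow (hN hz0i).2
  have key : ∀ w : N, (hwi : Invol (w : G)) → (hwb : (w : G) • b = b) → x * w = w * x →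
      let β := h.act ⟨g⁻¹ * w * g, mem_stabilizer_iff.mpr (h.swap_fix hab hwb)⟩
      β * β = 1 ∧ β z0 = z0 ∧ β • S0 = S0 ∧ ¬ Inn β := by
    intro w hwi hwb hxw β
    have h2 : β * β = 1 := h.act_invol (h.swap_fix hab hwb) (by simpa using (hwi.conj g⁻¹).2)
    have h3 : β z0 = z0 := Subtype.ext (by
      show g⁻¹ * w * g * (g⁻¹ * x * g) * (g⁻¹ * w * g)⁻¹ = g⁻¹ * x * g
      rw [show g⁻¹ * w * g * (g⁻¹ * x * g) * (g⁻¹ * w * g)⁻¹ = g⁻¹ * ((w * x) * (w : G)⁻¹) * g by group, ← hxw,
        mul_inv_cancel_right])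
    refine ⟨h2, h3, hF.eq_of_mem (hN hz0i).1 ?_ hS0, h.outer_of_not_at hF hab (h.mem_cls w.2 hwi) hwb
      (hnone w w.2 hwi hwb)⟩
    rw [mem_smul_iff, inv_eq_of_mul_eq_one_right h2, h3]
    exact hS0
  obtain ⟨hα2, hαz, hαS, hαi⟩ := key s hsi hsb hxs
  obtain ⟨hβ2, hβz, hβS, hβi⟩ := key t hti htb hxt
  set α := h.act ⟨g⁻¹ * s * g, mem_stabilizer_iff.mpr (h.swap_fix hab hsb)⟩ with hαdef
  set β := h.act ⟨g⁻¹ * t * g, mem_stabilizer_iff.mpr (h.swap_fix hab htb)⟩ with hβdef
  obtain ⟨C⟩ := hF.coord S0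
  obtain ⟨u, φ, hu, huφ, hφ, hne⟩ := hF.act_invol C hαS hα2 hαi
  obtain ⟨v, ψ, hv, -, hψ, hne'⟩ := hF.act_invol C hβS hβ2 hβi
  obtain ⟨k, hk, -⟩ := hF.card_F_pow C
  have hsame : ∀ c, φ c = ψ c := fun c => by
    obtain ⟨-, h1⟩ := (ringAut_invol hk φ hφ).resolve_left fun e1 => hne.elim fun c hc => hc (e1 c)
    obtain ⟨-, h2⟩ := (ringAut_invol hk ψ hψ).resolve_left fun e1 => hne'.elim fun c hc => hc (e1 c)
    rw [h1, h2]
  have hπ0 : C.π z0 ≠ 0 := fun e1 => (hN hz0i).1 (hF.ker_triv hpq C hS0 e1)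
  have huv : (u : C.F) = v := by
    have h1 := hu z0 hS0
    have h2 := hv z0 hS0
    rw [hαz] at h1
    rw [hβz, ← hsame] at h2
    refine mul_right_cancel₀ (b := φ (C.π z0)) (fun e1 => hπ0 (by simpa using congrArg φ.symm e1)) ?_
    rw [← h1, ← h2]
  obtain ⟨w, hw, hαβ⟩ := hF.inner_of_triv C (α := α * β) (by rw [mul_smul, hβS, hαS]) fun y hy => by
    rw [Act.mul hu hv hβS y hy, RingEquiv.trans_apply, ← hsame, hφ, ← huv, huφ, one_mul]
  -- so the product centralises `N`
  have hone : α * β = 1 := by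
    have hsq : (α * β) ^ 2 = 1 := by rw [hαβ, ← map_pow, pow_two, hF.sq_eq_one_of_elem hpq hw, map_one]
    have hord : (α * β) ^ orderOf (s * t) = 1 := by
      rw [hαdef, hβdef, ← map_mul, ← map_pow]
      have he1 : ∀ n : ℕ, (g⁻¹ * s * g * (g⁻¹ * t * g)) ^ n = g⁻¹ * ((s : G) * t) ^ n * g := fun n => by
        induction n with
        | zero => group
        | succ n ih => rw [pow_succ, pow_succ, ih]; group
      rw [← map_one h.act]
      refine congrArg h.act (Subtype.ext ?_)
      rw [SubmonoidClass.coe_pow]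
      show (g⁻¹ * s * g * (g⁻¹ * t * g)) ^ orderOf (s * t) = 1
      rw [he1, show ((s : G) * t) ^ orderOf (s * t) = 1 from congrArg Subtype.val (pow_orderOf_eq_one (s * t) :)]
      group
    obtain ⟨l, hl⟩ := hodd
    rwa [hl, pow_succ, pow_mul, hsq, one_pow, one_mul] at hord
  set r : N := s * t with hr
  have hrc : ∀ n ∈ N, (r : G) * (g * n * g⁻¹) = g * n * g⁻¹ * r := by
    intro n hn
    have h1 : (g⁻¹ * s * g * (g⁻¹ * t * g)) * n * (g⁻¹ * s * g * (g⁻¹ * t * g))⁻¹ = n := by
      have := congrArg Subtype.val (DFunLike.congr_fun hone ⟨n, hn⟩)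
      rw [hαdef, hβdef, ← map_mul, h.act_apply, MulAut.one_apply] at this
      exact this
    rw [hr, Subgroup.coe_mul]
    calc (s : G) * t * (g * n * g⁻¹) =
        g * ((g⁻¹ * s * g * (g⁻¹ * t * g)) * n * (g⁻¹ * s * g * (g⁻¹ * t * g))⁻¹) * g⁻¹ * ((s : G) * t) := by group
      _ = _ := by rw [h1]
  have hrb : (r : G) • b = b := by rw [hr, Subgroup.coe_mul, mul_smul, htb, hsb]
  -- a point of the orbit moved by `s`
  obtain ⟨n, hn, hnd⟩ := h.outer_moves hF hb (h.swap_fix hab hsb) hαi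
  set d := g • n • b with hd
  have hsd : (s : G) • d ≠ d := fun e1 => hnd (by
    rw [mul_smul, mul_smul, ← hd, e1, hd, inv_smul_smul])
  have hda : d ≠ a := fun e1 => hsd (by rw [e1, h.fix s.2])
  have hrd : (r : G) • d = d := by
    have hd' : d = (g * n * g⁻¹) • a := by rw [hd, mul_smul, mul_smul, ← hba, inv_smul_smul]
    rw [hd', ← mul_smul, hrc n hn, mul_smul, h.fix r.2]
  -- the two stabilisers have six or ten elements and normalise `⟨r⟩`
  obtain ⟨k0, hk0a, hk0b⟩ := h.stab_move hb hda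
  let A := (stabilizer G b).subgroupOf N
  let B := (stabilizer G d).subgroupOf N
  have hAB : Nat.card A = Nat.card B := by
    refine Nat.card_congr ((h.act ⟨k0, mem_stabilizer_iff.mpr hk0a⟩).toEquiv.subtypeEquiv fun y => ?_)
    show (y : G) • b = b ↔ (k0 * y * k0⁻¹) • d = d
    rw [← hk0b, mul_smul, mul_smul, inv_smul_smul, smul_left_cancel_iff]
  have h2A : 2 ∣ Nat.card A := by
    rw [← orderOf_eq_prime (x := s) (p := 2) (by rw [pow_two]; exact (hN hsi).2) (hN hsi).1]
    exact Subgroup.orderOf_dvd_natCard A (Subgroup.mem_subgroupOf.mpr hsb)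
  have h4A : ¬ 4 ∣ Nat.card A := by
    intro h4
    obtain ⟨P, hP⟩ := Sylow.exists_subgroup_card_pow_prime 2 (n := 2) (by simpa using h4)
    obtain ⟨U, hU⟩ := ((IsPGroup.of_card hP).map A.subtype).exists_le_sylow
    have := le_trans (le_of_eq (by rw [Subgroup.card_map_of_injective A.subtype_injective, hP]; rfl :
      4 = Nat.card (P.map A.subtype))) (le_trans (Nat.card_le_card_of_injective
        (fun w => (⟨w.1, hU w.2, hF.sq_eq_one_of_elem hpq (hU w.2), by
          obtain ⟨w', -, e1⟩ := w.2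
          exact e1 ▸ Subgroup.mem_subgroupOf.mp w'.2⟩ : {y : N // y ∈ UX U b}))
        fun w w' e1 => Subtype.ext (congrArg Subtype.val e1 :)) (hU2 U))
    omega
  have hA12 : ∀ H : Subgroup N, H ≠ ⊤ → Nat.card H ≤ 12 ∧ Nat.card H ∣ 60 := fun H hH => by
    have h5 := five_le_index h60 hH
    have h1 := H.card_mul_index
    rw [h60] at h1
    exact ⟨by nlinarith, Dvd.intro _ h1⟩
  have hAtop : A ≠ ⊤ := fun e1 => by
    obtain ⟨y, hy, hyb⟩ := h.not_fix_all hb
    exact hyb (Subgroup.mem_subgroupOf.mp (e1 ▸ Subgroup.mem_top (⟨y, hy⟩ : N)))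
  obtain ⟨hA1, hA2⟩ := hA12 A hAtop
  have hr1 : r ≠ 1 := fun e1 => hST (hF.eq_of_mem (hN hsi).1 hs (by
    rwa [show s = t from by rw [mul_eq_one_iff_eq_inv.mp e1, inv_eq_of_mul_eq_one_right (hN hti).2]]))
  have hrA : orderOf r ∣ Nat.card A := Subgroup.orderOf_dvd_natCard A (Subgroup.mem_subgroupOf.mpr hrb)
  have hro : orderOf r * 2 = Nat.card A := by
    have h1 : orderOf r ≠ 1 := fun e1 => hr1 (orderOf_eq_one_iff.mp e1)
    obtain ⟨l, hl⟩ := hodd
    have h2 : orderOf r ≤ Nat.card A := Nat.le_of_dvd Nat.card_pos hrA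
    interval_cases hc : Nat.card A <;> first
      | omega
      | (interval_cases ho : orderOf r <;> omega)
  have hidx : ∀ H : Subgroup N, r ∈ H → Nat.card H = Nat.card A →
      H ≤ Subgroup.normalizer (Subgroup.zpowers r : Set N) := by
    intro H hrH hH
    have hi : ((Subgroup.zpowers r).subgroupOf H).index = 2 := by
      have h1 := ((Subgroup.zpowers r).subgroupOf H).card_mul_index
      rw [Nat.card_congr (Subgroup.subgroupOfEquivOfLe (Subgroup.zpowers_le.mpr hrH)).toEquiv, Nat.card_zpowers,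
        hH, ← hro] at h1
      exact Nat.eq_of_mul_eq_mul_left (orderOf_pos r) h1
    haveI := Subgroup.normal_of_index_eq_two hi
    exact Subgroup.normal_subgroupOf_iff_le_normalizer (Subgroup.zpowers_le.mpr hrH) |>.mp inferInstance
  have hA610 : Nat.card A = 6 ∨ Nat.card A = 10 := by
    have h1 : orderOf r ≠ 1 := fun e1 => hr1 (orderOf_eq_one_iff.mp e1)
    obtain ⟨l, hl⟩ := hodd
    interval_cases hc : Nat.card A <;> omega
  set M := Subgroup.normalizer (Subgroup.zpowers r : Set N)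
  have hAM := hidx A (Subgroup.mem_subgroupOf.mpr hrb) rfl
  have hBM := hidx B (Subgroup.mem_subgroupOf.mpr hrd) hAB.symm
  have hMtop : M ≠ ⊤ := fun e1 => by
    haveI : (Subgroup.zpowers r).Normal := Subgroup.normalizer_eq_top_iff.mp e1
    rcases IsSimpleGroup.eq_bot_or_eq_top_of_normal (Subgroup.zpowers r) inferInstance with e2 | e2
    · exact hr1 (Subgroup.zpowers_eq_bot.mp e2)
    · refine hAtop (top_le_iff.mp (e2 ▸ Subgroup.zpowers_le.mpr (Subgroup.mem_subgroupOf.mpr hrb)))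
  obtain ⟨hM1, hM2⟩ := hA12 M hMtop
  have hcard : Nat.card M = Nat.card A := by
    obtain ⟨j, hj⟩ := Subgroup.card_dvd_of_le hAM
    have hA0 : 0 < Nat.card A := Nat.card_pos
    rcases j with _ | _ | _ | j
    · have := Nat.card_pos (α := M); omega
    · omega
    · -- index five would be the number of Sylow 3-subgroups
      exfalso
      have hA6 : Nat.card A = 6 := by omega
      haveI : Fact (Nat.Prime 3) := ⟨Nat.prime_three⟩
      have h3 : Nat.card (Subgroup.zpowers r) = 3 ^ (Nat.card N).factorization 3 := by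
        rw [Nat.card_zpowers, h60, show (60 : ℕ) = 3 ^ 1 * 20 by norm_num,
          Nat.factorization_mul (by norm_num) (by norm_num), Nat.Prime.factorization_pow Nat.prime_three,
          Finsupp.add_apply, Finsupp.single_eq_same, Nat.factorization_eq_zero_of_not_dvd (by norm_num)]
        omega
      have h4 := card_sylow_modEq_one 3 N
      rw [(Sylow.ofCard _ h3).card_eq_index_normalizer] at h4
      have h5 := M.card_mul_index
      rw [h60, hj, hA6] at h5
      change M.index ≡ 1 [MOD 3] at h4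
      unfold Nat.ModEq at h4
      omega
    · have : 3 * Nat.card A ≤ Nat.card M := by rw [hj, mul_comm]; exact Nat.mul_le_mul_left _ (by omega)
      omega
  have hAB' : A = B :=
    (Subgroup.eq_of_le_of_card_ge hAM hcard.le).trans (Subgroup.eq_of_le_of_card_ge hBM (hcard.trans hAB).le).symm
  exact hsd (Subgroup.mem_subgroupOf.mp (show s ∈ B from hAB' ▸ (show s ∈ A from Subgroup.mem_subgroupOf.mpr hsb)))

end CfsgLib.RankOnePoint
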