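import Cfsg.Agent.Lib.RankOnePoint.AtPoint
import Cfsg.Agent.Lib.RankOnePoint.Small
import Cfsg.Agent.Lib.CyclicInt.SimpleKind

/-!
Counts for a simple transitive normal subgroup whose involutions are members: fixed points of a member, the
centraliser of an involution, automorphisms of `N` centralising an involution, self-normalising subgroups of order
six.

Blueprint: `blueprint/S2208.md`, part B.
-/

set_option autoImplicit false
set_option linter.unusedSectionVars false
set_option linter.style.haveILetI false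

namespace CfsgLib.RankOnePoint

open MulAction CfsgLib.BinaryCoset
open scoped Pointwise

universe u v

/-- The automorphisms fixing an involution. -/
theorem Facts.card_aut_fix {X : Type u} [Group X] [Finite X] [IsSimpleGroup X] {m p e : ℕ} (h : Facts X m p e)
    (hp : p = 2 ^ m) {S : Sylow 2 X} {z : X} (hz : z ∈ (S : Subgroup X)) (hz1 : z ≠ 1) :
    Nat.card {α : MulAut X // α z = z} ≤ m * p := by
  classical
  haveI : Fact (Nat.Prime 2) := ⟨Nat.prime_two⟩
  have hS : ∀ α : MulAut X, α z = z → α • S = S := fun α hα => h.eq_of_mem hz1 (by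
    rw [mem_smul_iff, show α⁻¹ z = z from α.injective (by rw [MulAut.apply_inv_self, hα])]
    exact hz) hz
  obtain ⟨C⟩ := h.coord S
  obtain ⟨k, hk, -, hkm⟩ := h.card_F_pow C
  have hkm' : k = m := hkm fun e1 => by
    have hq := h.q_four
    have := Nat.pow_lt_pow_right (a := 2 ^ m) (by omega) (by norm_num : 1 < 3)
    rw [pow_one] at this
    omega
  have hπ0 : C.π z ≠ 0 := fun e1 => hz1 (h.ker_triv hp C hz e1)
  have hex : ∀ α : {α : MulAut X // α z = z}, ∃ (u : C.Fˣ) (φ : C.F ≃+* C.F) (j : Fin m),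
      Act C α.1 u φ ∧ ∀ c, φ c = c ^ 2 ^ (j : ℕ) := fun α => by
    obtain ⟨u, φ, hu⟩ := C.semiA (hS _ α.2)
    obtain ⟨j, hj, hj'⟩ := ringAut_pow hk φ
    exact ⟨u, φ, ⟨j, hkm' ▸ hj⟩, hu, hj'⟩
  choose u φ j hu hj using hex
  -- with the same field automorphism two differ by an element of `S`
  have hdiff : ∀ α β, j α = j β → ∃ w ∈ (S : Subgroup X), β.1 = α.1 * MulAut.conj w := by
    intro α β e1
    have hsame : ∀ c, φ α c = φ β c := fun c => by rw [hj, hj, e1]
    have huv : (u α : C.F) = u β := by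
      have h1 := hu α z hz
      have h2 := hu β z hz
      rw [α.2] at h1
      rw [β.2, ← hsame] at h2
      exact mul_right_cancel₀ (fun e2 => hπ0 (by simpa using congrArg (φ α).symm e2)) (h1.symm.trans h2)
    have hfix : (α.1⁻¹ * β.1) • S = S := by rw [mul_smul, hS _ β.2, inv_smul_eq_iff, hS _ α.2]
    obtain ⟨w, hw, hw'⟩ := h.inner_of_triv C hfix fun x hx => by
      have hx' : α.1⁻¹ (β.1 x) ∈ (S : Subgroup X) := by
        rw [← MulAut.mul_apply]
        exact (fix_iff hfix x).mp hx
      have h1 := hu α _ hx'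
      rw [MulAut.apply_inv_self, hu β x hx, ← huv, ← hsame] at h1
      exact ((φ α).injective (mul_left_cancel₀ (u α).ne_zero h1)).symm
    exact ⟨w, hw, by rw [← hw', mul_inv_cancel_left]⟩
  let rep : Fin m → MulAut X := fun i => if hi : ∃ α, j α = i then hi.choose.1 else 1
  have hrep : ∀ α, ∃ w : (S : Subgroup X), α.1 = rep (j α) * MulAut.conj (w : X) := fun α => by
    obtain ⟨w, hw, hw'⟩ := hdiff (⟨α, rfl⟩ : ∃ β, j β = j α).choose α (⟨α, rfl⟩ : ∃ β, j β = j α).choose_spec
    exact ⟨⟨w, hw⟩, by simp only [rep]; rw [dif_pos (⟨α, rfl⟩ : ∃ β, j β = j α)]; exact hw'⟩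
  choose w hw using hrep
  refine (Nat.card_le_card_of_injective (fun α => (j α, w α)) fun α β e1 => Subtype.ext ?_).trans ?_
  · obtain ⟨e2, e3⟩ := Prod.mk.inj e1
    rw [hw α, hw β, e2, e3]
  · rw [Nat.card_prod, h.card_sylow, Nat.card_fin]

/-- The automorphism group of a group with five Sylow 2-subgroups. -/
theorem card_mulAut_dvd {X : Type u} [Group X] [Finite X] [IsSimpleGroup X] (hX : ¬ IsMulCommutative X)
    (h5 : Nat.card (Sylow 2 X) = 5) : Nat.card (MulAut X) ∣ 120 := by
  have h1 := Subgroup.card_dvd_of_injective (MulAction.toPermHom (MulAut X) (Sylow 2 X)) (by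
    refine (injective_iff_map_eq_one _).mpr fun α hα => eq_self_of_fix_all hX fun U => ?_
    exact Equiv.congr_fun hα U)
  rwa [Nat.card_perm, h5] at h1

/-- A subgroup of order six is self-normalising in the group of order sixty. -/
theorem six_self_norm {X : Type u} [Group X] [Finite X] [IsSimpleGroup X] {m e : ℕ} (hF : Facts X m 4 e)
    (h60 : Nat.card X = 60) {H : Subgroup X} (hH : Nat.card H = 6) {n : X}
    (hn : ∀ x, x ∈ H ↔ n * x * n⁻¹ ∈ H) : n ∈ H := by
  classical
  haveI : Fact (Nat.Prime 2) := ⟨Nat.prime_two⟩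
  by_contra hnH
  set K := Subgroup.normalizer (H : Set X)
  have hnK : n ∈ K := Subgroup.mem_normalizer_iff.mpr hn
  haveI : Fact (Nat.Prime 3) := ⟨Nat.prime_three⟩
  obtain ⟨r', hr'⟩ := exists_prime_orderOf_dvd_card' (G := H) 3 (by rw [hH]; norm_num)
  set r : X := (r' : X) with hr
  have hr3 : orderOf r = 3 := (Subgroup.orderOf_coe r').trans hr'
  have hKtop : K ≠ ⊤ := fun e1 => by
    haveI : H.Normal := Subgroup.normalizer_eq_top_iff.mp e1
    rcases IsSimpleGroup.eq_bot_or_eq_top_of_normal H inferInstance with e2 | e2 <;>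
      simp [e2, h60] at hH
  have hK : Nat.card K = 12 := by
    obtain ⟨j, hj⟩ : Nat.card H ∣ Nat.card K := Subgroup.card_dvd_of_le Subgroup.le_normalizer
    have h5 := five_le_index h60 hKtop
    have h1 := K.card_mul_index
    rw [h60] at h1
    have h12 : Nat.card K ≤ 12 := by nlinarith
    have hne : Nat.card K ≠ 6 := fun e1 => hnH (by
      have := Subgroup.eq_of_le_of_card_ge (Subgroup.le_normalizer (H := H)) (by rw [hH]; exact e1.le)
      rw [this]; exact hnK)
    rw [hH] at hj
    have hpos : 0 < Nat.card K := Nat.card_pos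
    omega
  -- the elements of order three of `H` form one subgroup
  have hi : ((Subgroup.zpowers r).subgroupOf H).index = 2 := by
    have h1 := ((Subgroup.zpowers r).subgroupOf H).card_mul_index
    rw [Nat.card_congr (Subgroup.subgroupOfEquivOfLe (Subgroup.zpowers_le.mpr r'.2)).toEquiv, Nat.card_zpowers,
      hr3, hH] at h1
    omega
  have hone : ∀ x ∈ H, x ^ 3 = 1 → x ∈ Subgroup.zpowers r := fun x hx hx3 => by
    have h1 := Subgroup.mem_subgroupOf.mp ((Subgroup.mul_mem_iff_of_index_two hi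
      (a := (⟨x * x, mul_mem hx hx⟩ : H)) (b := ⟨x * x, mul_mem hx hx⟩)).mpr Iff.rfl)
    rwa [Subgroup.coe_mul, show x * x * (x * x) = x ^ 3 * x by simp [pow_succ, mul_assoc], hx3, one_mul] at h1
  -- two involutions of `K` generate a four-group permuting the two generators
  obtain ⟨V, hV⟩ := Sylow.exists_subgroup_card_pow_prime 2 (G := K) (n := 2) (by rw [hK]; norm_num)
  obtain ⟨U, hU⟩ := ((IsPGroup.of_card hV).map K.subtype).exists_le_sylow
  have hsq : ∀ v : V, ((v.1 : X)) * v.1 = 1 := fun v =>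
    hF.sq_eq_one_of_elem (S := U) (by
      rcases hF.kind with ⟨hk, -⟩ | ⟨hk, -⟩ | ⟨hk, -⟩
      · exact hk
      · have := hF.q_four; nlinarith
      · exfalso
        have hq := hF.q_four
        have : (4 : ℕ) ^ 3 ≤ (2 ^ m) ^ 3 := Nat.pow_le_pow_left hq 3
        omega) (hU ⟨v.1, v.2, rfl⟩)
  have hcases : ∀ v : V, (v.1 : X) * r * (v.1 : X)⁻¹ = r ∨ (v.1 : X) * r * (v.1 : X)⁻¹ = r⁻¹ := fun v => by
    have hmem : (v.1 : X) * r * (v.1 : X)⁻¹ ∈ H := (Subgroup.mem_normalizer_iff.mp v.1.2 r).mp r'.2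
    have h1 := hone _ hmem (by rw [conj_pow, ← hr3, pow_orderOf_eq_one, mul_one, mul_inv_cancel])
    rw [mem_zpowers_iff_mem_range_orderOf, hr3] at h1
    simp only [Finset.mem_image, Finset.mem_range] at h1
    obtain ⟨l, hl, hl'⟩ := h1
    interval_cases l
    · exfalso
      rw [pow_zero] at hl'
      rw [conj_eq_one_iff.mp hl'.symm, orderOf_one] at hr3
      omega
    · exact Or.inl (by rw [← hl', pow_one])
    · exact Or.inr (hl'.symm.trans (eq_inv_of_mul_eq_one_left (by rw [← pow_succ, show r ^ (2 + 1) = r ^ orderOf r by rw [hr3], pow_orderOf_eq_one])))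
  obtain ⟨v, hv1, hvr⟩ : ∃ v : V, v ≠ 1 ∧ (v.1 : X) * r * (v.1 : X)⁻¹ = r := by
    by_contra hc
    push Not at hc
    have hinv : ∀ v : V, v ≠ 1 → (v.1 : X) * r * (v.1 : X)⁻¹ = r⁻¹ := fun v hv => (hcases v).resolve_left (hc v hv)
    haveI : Nontrivial V := by
      rw [← Finite.one_lt_card_iff_nontrivial, hV]; norm_num
    obtain ⟨v, hv⟩ := exists_ne (1 : V)
    obtain ⟨w, hw1, hwv⟩ : ∃ w : V, w ≠ 1 ∧ w ≠ v := by
      by_contra hc'
      push Not at hc'
      have hle : Nat.card V ≤ Nat.card Bool := Nat.card_le_card_of_surjective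
        (fun b : Bool => if b then 1 else v) fun w => by
          by_cases hw : w = 1
          · exact ⟨true, hw.symm⟩
          · exact ⟨false, (hc' w hw).symm⟩
      rw [hV, Nat.card_eq_fintype_card, Fintype.card_bool] at hle
      norm_num at hle
    refine hc (v * w) (fun e1 => hwv ?_) ?_
    · rw [← inv_eq_of_mul_eq_one_right e1]
      exact inv_eq_of_mul_eq_one_right (Subtype.ext (Subtype.ext (hsq v)))
    · rw [Subgroup.coe_mul, Subgroup.coe_mul]
      calc (v.1 : X) * w.1 * r * ((v.1 : X) * w.1)⁻¹ = v.1 * ((w.1 : X) * r * (w.1 : X)⁻¹) * (v.1 : X)⁻¹ := by group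
        _ = ((v.1 : X) * r * (v.1 : X)⁻¹)⁻¹ := by rw [hinv w hw1]; group
        _ = r := by rw [hinv v hv, inv_inv]
  obtain ⟨f⟩ := hF.alt_five rfl
  have hr2 := CfsgLib.CyclicInt.alt_five_cent (f (v.1 : X)) (f r) ((map_ne_one_iff f f.injective).mpr fun e1 => hv1 (Subtype.ext (Subtype.ext e1)))
    (by rw [← map_mul, hsq, map_one]) (by rw [← map_mul, ← map_mul, mul_inv_eq_iff_eq_mul.mp hvr])
  rw [← map_mul, ← map_one f] at hr2
  have h2 : orderOf r ∣ 2 := orderOf_dvd_of_pow_eq_one (by rw [pow_two]; exact f.injective hr2)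
  rw [hr3] at h2
  norm_num at h2

variable {G : Type u} {Ω : Type v} [Group G] [MulAction G Ω] [Finite G] [Finite Ω] [FaithfulSMul G Ω]
  {a : Ω} {N : Subgroup G} (h : Pt G a N) (h1 : H1 a N)
include h h1

/-- A member fixing a point is a member there. -/
theorem Pt.fix_at {x : G} (hx : x ∈ cls N) {c : Ω} (hc : x • c = c) : At a N c x := by
  haveI := h.pretrans
  obtain ⟨g, hg⟩ := exists_smul_eq G a c
  exact ⟨g, hg, h1 _ (by simpa using cls_conj hx g⁻¹) (by rw [mul_smul, mul_smul, hg, hc, ← hg, inv_smul_smul])⟩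

theorem Pt.numP_fix {x : G} (hx : x ∈ cls N) : numP a N x = numF Ω x :=
  Nat.card_congr (Equiv.subtypeEquivRight fun _ => ⟨h.at_fix, h.fix_at h1 hx⟩)

/-- A member has no more fixed points than `N` has involutions. -/
theorem Pt.numF_le {x : G} (hx : x ∈ cls N) : numF Ω x ≤ numI N := by
  obtain ⟨b, hb⟩ := h.exists_ne
  have hk := h.key hb hx
  rw [h.numP_fix h1 hx] at hk
  rcases Nat.eq_zero_or_pos (numW N a b) with hw | hw
  · exfalso
    rw [hw, mul_zero, zero_add] at hk
    obtain ⟨y, hy, hyb⟩ := h.not_fix_all hb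
    have hsub : ∀ z : G, z ∈ N → Invol z → z • b = b := fun z hz hzi => by
      let emb : {w : G // (w ∈ N ∧ Invol w) ∧ w • b = b} → {w : G // w ∈ N ∧ Invol w} := fun w => ⟨w.1, w.2.1⟩
      have hinj : Function.Injective emb := fun w w' e1 => Subtype.ext (congrArg Subtype.val e1 :)
      obtain ⟨w, hw'⟩ := (hinj.bijective_of_nat_card_le (le_of_eq hk.symm)).surjective ⟨z, hz, hzi⟩
      have := w.2.2
      rwa [show w.1 = z from congrArg Subtype.val hw'] at this
    have : y ∈ stabilizer G b :=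
      (h.gen.trans ((Subgroup.closure_le _).mpr fun z hz => mem_stabilizer_iff.mpr (hsub z hz.1 hz.2))) hy
    exact hyb (mem_stabilizer_iff.mp this)
  · calc numF Ω x ≤ numF Ω x * numW N a b := Nat.le_mul_of_pos_right _ hw
      _ ≤ numI N := by omega

/-- **The centraliser of an involution in a transitive normal subgroup containing `N`.** -/
theorem Pt.cent_count {M : Subgroup G} [hMn : M.Normal] (hNM : N ≤ M) [IsPretransitive M Ω] {z : M}
    (hz : (z : G) ∈ N) (hzi : Invol (z : G)) :
    Nat.card (Subgroup.centralizer ({z} : Set M)) =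
      numF Ω (z : G) * Nat.card (stabilizer (Subgroup.centralizer ({z} : Set M)) a) := by
  set C := Subgroup.centralizer ({z} : Set M)
  have horb : MulAction.orbit C a = {c : Ω | (z : G) • c = c} := by
    ext c
    constructor
    · rintro ⟨g, rfl⟩
      show (z : G) • ((g : M) : G) • a = ((g : M) : G) • a
      have hc := congrArg Subtype.val (Subgroup.mem_centralizer_singleton_iff.mp g.2)
      simp only [Subgroup.coe_mul] at hc
      rw [← mul_smul, ← hc, mul_smul, h.fix hz]
    · intro hc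
      obtain ⟨k, rfl⟩ := exists_smul_eq M a c
      have hy : (k : G)⁻¹ * z * k ∈ N := h1 _ (by simpa using cls_conj (h.mem_cls hz hzi) (k : G)⁻¹) (by
        rw [mul_smul, mul_smul]
        exact inv_smul_eq_iff.mpr hc)
      obtain ⟨n, hn, hnz⟩ := h.one_class _ hy _ hz (by simpa using hzi.conj (k : G)⁻¹) hzi
      refine ⟨⟨k * ⟨n, hNM hn⟩⁻¹, Subgroup.mem_centralizer_singleton_iff.mpr (Subtype.ext ?_)⟩, ?_⟩
      · show (k : G) * n⁻¹ * z = z * ((k : G) * n⁻¹)
        conv_lhs => rw [← hnz]
        group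
      · show ((k : G) * n⁻¹) • a = (k : G) • a
        rw [mul_smul, h.fix (inv_mem hn)]
  have e1 := Subgroup.card_mul_index (stabilizer C a)
  rw [MulAction.index_stabilizer, horb] at e1
  rw [← e1, mul_comm, numF, ← Nat.card_coe_set_eq]
  rfl

end CfsgLib.RankOnePoint
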