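import Cfsg.Agent.Lib.RankOnePoint.Lines
import Cfsg.Agent.Lib.RankOnePoint.OddTools

/-!
Two fixed points for each member: the torus at a point acts regularly on the members through two others, an
involution inverts it, so it has at most three elements and the degree is six.

Blueprint: `blueprint/S2208.md`, part C.
-/

set_option autoImplicit false
set_option linter.unusedSectionVars false
set_option linter.style.haveILetI false

namespace CfsgLib.RankOnePoint

open MulAction CfsgLib.BinaryCoset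
open scoped Pointwise

universe u v

/-- An element fixing three Sylow subgroups is trivial, for elementary abelian ones. -/
theorem Facts.three_fix {X : Type u} [Group X] [Finite X] [IsSimpleGroup X] {m p e : ℕ} (h : Facts X m p e)
    (hp : p = 2 ^ m) {U V W : Sylow 2 X} (hV : V ≠ U) (hW : W ≠ U) (hne : W ≠ V) {t : X} (htU : t • U = U)
    (htV : t • V = V) (htW : t • W = W) : t = 1 := by
  obtain ⟨s, hs, hsV⟩ := h.move hV hW
  have hs1 : s ≠ 1 := fun e1 => hne (by rw [← hsV, e1, one_smul])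
  have h1 : t * s * t⁻¹ = s := h.move_inj hV (conj_mem_of_fix htU hs) hs (by
    rw [mul_smul, mul_smul, inv_smul_eq_iff.mpr htV.symm, hsV, htW])
  have hd : t ∈ torus U V := mem_torus.mpr ⟨htU, htV⟩
  refine h.eq_one_of_cent hV hd fun s' hs' => h.cent_all hV hd hs hs1 (h.sq_eq_one_of_elem hp hs) ?_ hs'
    (h.sq_eq_one_of_elem hp hs')
  exact mul_inv_eq_iff_eq_mul.mp h1

/-- A faithful group of order at least 360 on six points. -/
theorem six_points {G : Type u} {Ω : Type v} [Group G] [MulAction G Ω] [Finite G] [Finite Ω] [FaithfulSMul G Ω]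
    (hn : Nat.card Ω = 6) (hG : 360 ≤ Nat.card G) :
    Nonempty (G ≃* ↥(alternatingGroup (Fin 6))) ∨ Nonempty (G ≃* Equiv.Perm (Fin 6)) := by
  let f : G →* Equiv.Perm (Fin 6) :=
    (Finite.equivFinOfCardEq hn).permCongrHom.toMonoidHom.comp (MulAction.toPermHom G Ω)
  have hinj : Function.Injective f :=
    (Finite.equivFinOfCardEq hn).permCongrHom.injective.comp MulAction.toPerm_injective
  have h1 := f.range.card_mul_index
  rw [← Nat.card_congr (MonoidHom.ofInjective hinj).toEquiv, Nat.card_perm, Nat.card_fin] at h1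
  simp only [Nat.factorial] at h1
  have h2 : f.range.index ≤ 2 := by
    by_contra h3
    have := Nat.mul_le_mul hG (Nat.succ_le_of_lt (not_le.mp h3))
    omega
  have h0 : f.range.index ≠ 0 := Subgroup.index_ne_zero_of_finite
  by_cases h3 : f.range.index = 1
  · exact Or.inr ⟨MulEquiv.ofBijective f ⟨hinj, MonoidHom.range_eq_top.mp (Subgroup.index_eq_one.mp h3)⟩⟩
  · exact Or.inl ⟨(MonoidHom.ofInjective hinj).trans
      (MulEquiv.subgroupCongr (Equiv.Perm.eq_alternatingGroup_of_index_eq_two (by omega)))⟩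

variable {G : Type u} {Ω : Type v} [Group G] [MulAction G Ω] [Finite G] [Finite Ω] [FaithfulSMul G Ω]
  {a : Ω} {N : Subgroup G} (h : Pt G a N) [IsSimpleGroup N] {m p e : ℕ} (hF : Facts N m p e)
include h hF

/-- With two fixed points for each member, `q` is at most four. -/
theorem Pt.f_two_q (h1 : H1 a N) (hev : ¬ Ev a N) (hp : p = 2 ^ m) (hf : ∀ x ∈ cls N, numF Ω x = 2) :
    2 ^ m ≤ 4 := by
  classical
  haveI := h.pretrans
  -- lines
  have hline2 : ∀ (S : Sylow 2 N) (c d : Ω), c ∈ (line S : Set Ω) → c ≠ a → d ∈ (line S : Set Ω) → d ≠ a → c = d := by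
    intro S c d hc hca hd hda
    obtain ⟨z, hz, hz1, hz2⟩ := h.exists_invol_sylow hF S
    have hzc := h.mem_cls z.2 (h.invol_of hF hz1 hz2)
    have h2 : (line S : Set Ω).ncard = 2 := by
      rw [← Nat.card_coe_set_eq, h.card_line hF hev S hzc, hf _ hzc]
    obtain ⟨u, v, -, huv⟩ := Set.ncard_eq_two.mp h2
    have ha := h.mem_line hF S
    rw [huv] at hc hd ha
    simp only [Set.mem_insert_iff, Set.mem_singleton_iff] at hc hd ha
    grind
  have hlsmul : ∀ (n : N) (S : Sylow 2 N) (c : Ω), c ∈ (line S : Set Ω) → (n : G) • c ∈ (line (n • S) : Set Ω) := by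
    intro n S c hc y hy hy2
    have h2 := hc (n⁻¹ * y * n) (CfsgLib.CyclicInt.mem_smul_sylow.mp hy)
      (by rw [show n⁻¹ * y * n * (n⁻¹ * y * n) = n⁻¹ * (y * y) * n by group, hy2, mul_one, inv_mul_cancel])
    simp only [Subgroup.coe_mul, InvMemClass.coe_inv, mul_smul, inv_smul_eq_iff] at h2
    exact h2
  have hne : ∀ (n : N) (c : Ω), c ≠ a → (n : G) • c ≠ a := fun n c hc e1 => hc (by
    rw [← inv_smul_smul (n : G) c, e1, inv_smul_eq_iff, h.fix n.2])
  have hS_fix : ∀ (n : N) (S : Sylow 2 N) (c : Ω), c ∈ (line S : Set Ω) → c ≠ a →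
      ((n : G) • c = c ↔ n • S = S) := by
    intro n S c hc hca
    refine ⟨fun e1 => h.line_unique hF hev hca (e1 ▸ hlsmul n S c hc) hc, fun e1 => ?_⟩
    exact hline2 S _ c (e1 ▸ hlsmul n S c hc) (hne n c hca) hc hca
  have hthree : ∀ y ∈ cls N, ∀ u v w : Ω, u ≠ v → u ≠ w → v ≠ w →
      y • u = u → y • v = v → y • w = w → False := by
    intro y hy u v w huv huw hvw hu hv hw
    have hsub : ({u, v, w} : Set Ω) ⊆ fixedBy Ω y := by simp [Set.insert_subset_iff, hu, hv, hw]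
    have h3 := Set.ncard_le_ncard hsub
    rw [Set.ncard_eq_three.mpr ⟨u, v, w, huv, huw, hvw, rfl⟩, ← Nat.card_coe_set_eq,
      show Nat.card (fixedBy Ω y) = numF Ω y from rfl, hf y hy] at h3
    omega
  -- an involution and two Sylow subgroups exchanged by it
  obtain ⟨S0⟩ : Nonempty (Sylow 2 N) := inferInstance
  obtain ⟨x, hx, hx1, hx2⟩ := h.exists_invol_sylow hF S0
  have hq := hF.q_four
  obtain ⟨V, hV⟩ : ∃ V : Sylow 2 N, V ≠ S0 := by
    haveI : Nontrivial (Sylow 2 N) := by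
      rw [← Finite.one_lt_card_iff_nontrivial, hF.card_points]
      omega
    exact _root_.exists_ne S0
  set U := x • V with hU
  have hUS : U ≠ S0 := fun e1 => hV (by
    rw [hU, ← smul_eq_self hx] at e1
    exact smul_left_cancel x e1)
  have hUV : U ≠ V := fun e1 => hx1 (hF.eq_one_of_fix hV hx e1)
  have hxU : x • U = V := by rw [hU, ← mul_smul, hx2, one_smul]
  have hxinv : x⁻¹ = x := inv_eq_of_mul_eq_one_right hx2
  obtain ⟨b, hb, hbV⟩ := h.line_second hF hev V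
  set c := (x : G) • b with hc
  have hca : c ≠ a := hne x b hb
  have hcU : c ∈ (line U : Set Ω) := hlsmul x V b hbV
  have hcb : c ≠ b := fun e1 => hUV (h.line_unique hF hev hca hcU (e1 ▸ hbV))
  have hxc : (x : G) • c = b := by
    rw [hc, ← mul_smul, ← Subgroup.coe_mul, hx2, Subgroup.coe_one, one_smul]
  -- the torus
  set T := torus V U
  have hTb : ∀ t ∈ T, (t : G) • b = b := fun t ht => (hS_fix t V b hbV hb).mpr (mem_torus.mp ht).1
  have hTc : ∀ t ∈ T, (t : G) • c = c := fun t ht => (hS_fix t U c hcU hca).mpr (mem_torus.mp ht).2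
  have hTinv : ∀ t ∈ T, x * t * x⁻¹ * (x * t⁻¹ * x⁻¹) = 1 := fun t _ => by group
  have hxT : ∀ t ∈ T, x * t * x⁻¹ ∈ T := fun t ht => by
    obtain ⟨e1, e2⟩ := mem_torus.mp ht
    exact mem_torus.mpr ⟨by rw [hxinv, mul_smul, mul_smul, ← hU, e2, hxU],
      by rw [hxinv, mul_smul, mul_smul, hxU, e1, ← hU]⟩
  have hTcard : Nat.card T = 2 ^ m - 1 := by
    have he : e = 1 := by
      rcases hF.kind with ⟨-, he⟩ | ⟨-, -, he⟩ | ⟨hk, -⟩
      · exact he
      · exact he
      · exfalso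
        have := Nat.pow_lt_pow_right (a := 2 ^ m) (by omega) (by norm_num : 1 < 3)
        rw [pow_one] at this
        omega
    rw [hF.card_torus hUV, he, mul_one]
  -- the involution inverts the torus
  have hinvert : ∀ u ∈ T, x * u * x⁻¹ = u⁻¹ := by
    let φ : T → T := fun t => ⟨x * t * x⁻¹ * (t : N)⁻¹, mul_mem (hxT t t.2) (inv_mem t.2)⟩
    have hφ : Function.Injective φ := by
      intro t t' e1
      have e2 : x * (t : N) * x⁻¹ * (t : N)⁻¹ = x * t' * x⁻¹ * (t' : N)⁻¹ := congrArg Subtype.val e1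
      have hcomm := hF.torus_comm' hUV t.2 t'.2
      have ht : (t' : N)⁻¹ * t ∈ T := mul_mem (inv_mem t'.2) t.2
      have e3 : x * ((t' : N)⁻¹ * t) * x⁻¹ = (t' : N)⁻¹ * t :=
        calc x * ((t' : N)⁻¹ * t) * x⁻¹
            = (x * t' * x⁻¹)⁻¹ * (x * t * x⁻¹ * (t : N)⁻¹) * t := by group
          _ = (x * t' * x⁻¹)⁻¹ * (x * t' * x⁻¹ * (t' : N)⁻¹) * t := by rw [e2]
          _ = _ := by group
      obtain ⟨hd1, hd2⟩ := mem_torus.mp ht
      have hd0 : ((t' : N)⁻¹ * t) • S0 = S0 := hF.eq_of_mem hx1 (by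
        have h2 := CfsgLib.CyclicInt.conj_mem_smul_sylow (g := (t' : N)⁻¹ * t) hx
        rwa [show ((t' : N)⁻¹ * t) * x * ((t' : N)⁻¹ * t)⁻¹ = x by
          rw [← mul_inv_eq_iff_eq_mul.mp e3]; group] at h2) hx
      have := hF.three_fix hp hUV (Ne.symm hV) (Ne.symm hUS) hd1 hd2 hd0
      exact Subtype.ext (inv_mul_eq_one.mp this).symm
    intro u hu
    obtain ⟨t, ht⟩ := (Finite.injective_iff_surjective.mp hφ) ⟨u, hu⟩
    have e1 : x * (t : N) * x⁻¹ * (t : N)⁻¹ = u := congrArg Subtype.val ht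
    rw [← e1]
    calc x * (x * (t : N) * x⁻¹ * (t : N)⁻¹) * x⁻¹
        = x * x * t * (x⁻¹ * ((t : N)⁻¹ * x⁻¹)) := by group
      _ = (x * (t : N) * x⁻¹ * (t : N)⁻¹)⁻¹ := by rw [hx2, one_mul]; simp [mul_assoc, hxinv]
  -- the members fixing `b` and `c`
  obtain ⟨g, hg⟩ := exists_smul_eq G a b
  have hc' : g⁻¹ • c ≠ a := fun e1 => hcb (by rw [← hg, ← e1, smul_inv_smul])
  obtain ⟨S', hS', hone⟩ := h.nev_one hF hev hc'
  let φ : N →* G := (MulAut.conj g).toMonoidHom.comp N.subtype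
  have hφi : Function.Injective φ := (MulAut.conj g).injective.comp N.subtype_injective
  set B : Subgroup G := (S' : Subgroup N).map φ
  have hBc : ∀ y ∈ B, ∀ z ∈ B, y * z = z * y := by
    rintro _ ⟨y, hy, rfl⟩ _ ⟨z, hz, rfl⟩
    rw [← map_mul, ← map_mul, hF.central hy (hF.sq_eq_one_of_elem hp hy) hz]
  have hB2 : ∀ y ∈ B, y * y = 1 := by
    rintro _ ⟨y, hy, rfl⟩
    rw [← map_mul, hF.sq_eq_one_of_elem hp hy, map_one]
  have hBmem : ∀ y ∈ B, y ≠ 1 → y ∈ cls N ∧ y • b = b ∧ y • c = c := by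
    rintro _ ⟨y, hy, rfl⟩ hy1
    refine ⟨cls_conj (h.mem_cls y.2 (h.invol_of hF (fun e1 => hy1 (by rw [e1, map_one]))
      (hF.sq_eq_one_of_elem hp hy))) g, ?_, ?_⟩
    · show (g * (y : G) * g⁻¹) • b = b
      rw [← hg, fix_conj, h.fix y.2]
    · show (g * (y : G) * g⁻¹) • c = c
      have h2 := hS' y hy
      rw [mul_smul, mul_smul, h2, smul_inv_smul]
  have hmemB : ∀ y ∈ cls N, y • b = b → y • c = c → y ∈ B := by
    intro y hy hyb hyc
    have hyN : g⁻¹ * y * g ∈ N := (h.at_iff hg).mp (h.fix_at h1 hy hyb)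
    refine ⟨⟨_, hyN⟩, hone ⟨_, hyN⟩ (by simpa using hy.1.conj g⁻¹) ?_, ?_⟩
    · show (g⁻¹ * y * g) • g⁻¹ • c = g⁻¹ • c
      rw [mul_smul, mul_smul, smul_inv_smul, hyc]
    · show g * (g⁻¹ * y * g) * g⁻¹ = y
      group
  have hconj : ∀ k : G, (k⁻¹ • b = b ∧ k⁻¹ • c = c ∨ k⁻¹ • b = c ∧ k⁻¹ • c = b) →
      ∀ y ∈ B, k * y * k⁻¹ ∈ B := by
    intro k hk y hy
    rcases eq_or_ne y 1 with rfl | hy1
    · simp
    obtain ⟨hyc', hyb, hycc⟩ := hBmem y hy hy1
    refine hmemB _ (cls_conj hyc' k) ?_ ?_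
    · rcases hk with ⟨e1, -⟩ | ⟨e1, -⟩ <;> rw [mul_smul, mul_smul, e1] <;>
        first
          | rw [hyb, ← inv_smul_eq_iff.mp e1]
          | rw [hycc, ← inv_smul_eq_iff.mp e1]
    · rcases hk with ⟨-, e2⟩ | ⟨-, e2⟩ <;> rw [mul_smul, mul_smul, e2] <;>
        first
          | rw [hyb, ← inv_smul_eq_iff.mp e2]
          | rw [hycc, ← inv_smul_eq_iff.mp e2]
  -- the action of the torus on them
  obtain ⟨τ, τdef⟩ : ∃ τ : N → G → G, ∀ t w, τ t w = (t : G) * w * (t : G)⁻¹ := ⟨_, fun _ _ => rfl⟩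
  have τ_mem : ∀ t ∈ T, ∀ w ∈ B, τ t w ∈ B := fun t ht w hw => τdef t w ▸ hconj t (Or.inl
    ⟨inv_smul_eq_iff.mpr (hTb t ht).symm, inv_smul_eq_iff.mpr (hTc t ht).symm⟩) w hw
  have τ_hom : ∀ t w w', τ t (w * w') = τ t w * τ t w' := fun t w w' => by simp only [τdef]; group
  have τ_comp : ∀ t t' w, τ (t * t') w = τ t (τ t' w) := fun t t' w => by
    simp only [τdef, Subgroup.coe_mul]; group
  have hsr : ∀ t ∈ T, ∀ w ∈ B, w ≠ 1 → τ t w = w → t = 1 := by
    intro t ht w hw hw1 htw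
    by_contra ht1
    rw [τdef] at htw
    obtain ⟨hwc, hwb, hwcc⟩ := hBmem w hw hw1
    have hwa : w • a ≠ a := fun e1 => hthree w hwc a b c hb.symm hca.symm hcb.symm e1 hwb hwcc
    have htwa : (t : G) • w • a = w • a := by
      rw [← mul_smul, mul_inv_eq_iff_eq_mul.mp htw, mul_smul, h.fix t.2]
    obtain ⟨W, hW, -⟩ := h.nev_one hF hev hwa
    have hWl : w • a ∈ (line W : Set Ω) := fun y hy _ => hW y hy
    have hWV : W ≠ V := fun e1 => by
      have := hline2 V _ b (e1 ▸ hWl) hwa hbV hb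
      exact hb.symm (smul_left_cancel w (this.trans hwb.symm))
    have hWU : W ≠ U := fun e1 => by
      have := hline2 U _ c (e1 ▸ hWl) hwa hcU hca
      exact hca.symm (smul_left_cancel w (this.trans hwcc.symm))
    exact ht1 (hF.three_fix hp hUV hWV hWU (mem_torus.mp ht).1 (mem_torus.mp ht).2
      ((hS_fix t W _ hWl hwa).mp htwa))
  have hBcard : Nat.card B = 2 ^ m := by
    rw [← Nat.card_congr ((S' : Subgroup N).equivMapOfInjective φ hφi).toEquiv, hF.card_sylow S', hp]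
  obtain ⟨z0, hz0, hz01⟩ : ∃ z0 ∈ B, z0 ≠ 1 := by
    by_contra hc0
    push Not at hc0
    have hle : Nat.card B ≤ 1 := Finite.card_le_one_iff_subsingleton.mpr
      ⟨fun y z => Subtype.ext (by rw [hc0 y y.2, hc0 z z.2])⟩
    omega
  have τ_one : ∀ t w, τ t w = 1 → w = 1 := fun t w e1 => conj_eq_one_iff.mp ((τdef t w).symm.trans e1)
  have hsurj : ∀ w ∈ B, w ≠ 1 → ∃ t ∈ T, τ t z0 = w := by
    let ψ : T → {w : B // w ≠ 1} := fun t => ⟨⟨τ t z0, τ_mem t t.2 z0 hz0⟩,
      fun e1 => hz01 (τ_one t z0 (congrArg Subtype.val e1))⟩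
    have hψ : Function.Injective ψ := fun t t' e1 => by
      have e2 : τ t z0 = τ t' z0 := congrArg (fun w : {w : B // w ≠ 1} => ((w : B) : G)) e1
      refine Subtype.ext (inv_mul_eq_one.mp (hsr ((t' : N)⁻¹ * t) (mul_mem (inv_mem t'.2) t.2) z0 hz0 hz01 ?_)).symm
      rw [τ_comp, e2, ← τ_comp, inv_mul_cancel]
      simp [τdef]
    have hb' := hψ.bijective_of_nat_card_le (by rw [card_ne (1 : B), hBcard, hTcard])
    intro w hw hw1
    obtain ⟨t, ht⟩ := hb'.surjective ⟨⟨w, hw⟩, fun e1 => hw1 (congrArg Subtype.val e1)⟩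
    exact ⟨t, t.2, congrArg (fun w : {w : B // w ≠ 1} => ((w : B) : G)) ht⟩
  -- conjugation by the involution
  have hX : ∀ w ∈ B, (x : G) * w * (x : G)⁻¹ ∈ B := hconj x (Or.inr (by
    rw [← InvMemClass.coe_inv, hxinv]
    exact ⟨rfl, hxc⟩))
  have hXτ : ∀ t ∈ T, ∀ w, (x : G) * τ t w * (x : G)⁻¹ = τ t⁻¹ ((x : G) * w * (x : G)⁻¹) := fun t ht w => by
    rw [← hinvert t ht]
    simp only [τdef, Subgroup.coe_mul, InvMemClass.coe_inv]
    group
  -- the square of a torus element is one plus it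
  have hquad : ∀ t ∈ T, t ≠ 1 → ∀ w ∈ B, τ t (τ t w) = τ t w * w := by
    intro t ht ht1 w hw
    have hne1 : τ t z0 * z0 ≠ 1 := fun e1 => ht1 (hsr t ht z0 hz0 hz01 (by
      rw [mul_eq_one_iff_eq_inv.mp e1, inv_eq_of_mul_eq_one_right (hB2 z0 hz0)]))
    obtain ⟨μ, hμ, hμz⟩ := hsurj _ (mul_mem (τ_mem t ht z0 hz0) hz0) hne1
    have hall : ∀ v ∈ B, τ μ v = τ t v * v := by
      intro v hv
      rcases eq_or_ne v 1 with rfl | hv1
      · simp [τdef]
      obtain ⟨ν, hν, rfl⟩ := hsurj v hv hv1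
      rw [← τ_comp, hF.torus_comm' hUV hμ hν, τ_comp, hμz, τ_hom, ← τ_comp, ← hF.torus_comm' hUV ht hν, τ_comp]
    have hall' : ∀ v ∈ B, τ μ⁻¹ v = τ t⁻¹ v * v := by
      intro v hv
      have hxx : (x : G) * ((x : G) * v * (x : G)⁻¹) * (x : G)⁻¹ = v := by
        rw [show (x : G) * ((x : G) * v * (x : G)⁻¹) * (x : G)⁻¹ = ((x * x : N) : G) * v * ((x * x : N) : G)⁻¹ by
          simp only [Subgroup.coe_mul]; group, hx2]
        simp
      have h2 := congrArg (fun u => (x : G) * u * (x : G)⁻¹) (hall _ (hX v hv))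
      simp only [hXτ μ hμ, hxx] at h2
      rw [h2, show ∀ y z : G, (x : G) * (y * z) * (x : G)⁻¹ = ((x : G) * y * (x : G)⁻¹) * ((x : G) * z * (x : G)⁻¹)
        from fun y z => by group, hXτ t ht, hxx]
    have htw := τ_mem t ht w hw
    have hti := τ_mem t⁻¹ (inv_mem ht) w hw
    have hid : ∀ v, τ t (τ t⁻¹ v) = v := fun v => by rw [← τ_comp, mul_inv_cancel]; simp [τdef]
    have hμid : τ μ (τ μ⁻¹ w) = w := by rw [← τ_comp, mul_inv_cancel]; simp [τdef]
    rw [hall' w hw, hall _ (mul_mem hti hw), τ_hom, hid] at hμid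
    have e2 : τ t w = τ t⁻¹ w * w := by
      calc τ t w = τ t w * (τ t⁻¹ w * w) * (τ t⁻¹ w * w) := by rw [mul_assoc, hB2 _ (mul_mem hti hw), mul_one]
        _ = w * (w * τ t w * (τ t⁻¹ w * w)) * (τ t⁻¹ w * w) := by rw [← mul_assoc w, ← mul_assoc w, hB2 w hw, one_mul]
        _ = w * w * (τ t⁻¹ w * w) := by rw [hμid]
        _ = _ := by rw [hB2 w hw, one_mul]
    conv_lhs => rw [e2, τ_hom, hid, hBc w hw _ htw]
  -- at most three elements
  by_contra hq4
  obtain ⟨t, ht, ht1⟩ : ∃ t ∈ T, t ≠ 1 := by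
    by_contra hc0
    push Not at hc0
    have hle : Nat.card T ≤ 1 := Finite.card_le_one_iff_subsingleton.mpr
      ⟨fun y z => Subtype.ext (by rw [hc0 y y.2, hc0 z z.2])⟩
    omega
  obtain ⟨t', ht', ht'1, htt, htt'⟩ : ∃ t' ∈ T, t' ≠ 1 ∧ t' ≠ t ∧ t * t' ≠ 1 := by
    by_contra hc0
    push Not at hc0
    have hle := Set.ncard_le_ncard (s := (T : Set N)) (t := ({1, t, t⁻¹} : Set N)) fun u hu => by
      by_cases hu1 : u = 1
      · exact Or.inl hu1
      by_cases hut : u = t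
      · exact Or.inr (Or.inl hut)
      exact Or.inr (Or.inr (inv_eq_of_mul_eq_one_right (hc0 u hu hu1 hut)).symm)
    have h3 : ({1, t, t⁻¹} : Set N).ncard ≤ 3 :=
      (Set.ncard_insert_le _ _).trans (Nat.add_le_add_right ((Set.ncard_insert_le _ _).trans (by simp)) 1)
    rw [← Nat.card_coe_set_eq, show Nat.card (T : Set N) = Nat.card T from rfl, hTcard] at hle
    omega
  have hu : τ t' z0 ∈ B := τ_mem t' ht' z0 hz0
  have e1 := hquad (t * t') (mul_mem ht ht') htt' z0 hz0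
  have e2 : τ (t * t') (τ (t * t') z0) = τ t (τ t (τ t' (τ t' z0))) := by
    rw [← τ_comp, ← τ_comp, ← τ_comp, ← τ_comp]
    congr 1
    have := hF.torus_comm' hUV ht ht'
    calc t * t' * (t * t') = t * (t' * t) * t' := by group
      _ = t * (t * t') * t' := by rw [this]
      _ = _ := by group
  rw [e2, hquad t' ht' ht'1 z0 hz0, τ_hom, τ_hom, hquad t ht ht1 _ hu, hquad t ht ht1 z0 hz0, τ_comp, mul_assoc,
    mul_right_inj] at e1
  -- so the two agree on `z0`
  have e3 : τ t' z0 * τ t z0 = 1 := by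
    have := congrArg (· * z0) e1
    simpa [mul_assoc, hB2 z0 hz0] using this
  have e4 : τ t z0 = τ t' z0 := by
    rw [eq_inv_of_mul_eq_one_right e3, inv_eq_of_mul_eq_one_right (hB2 _ hu)]
  refine htt (inv_mul_eq_one.mp (hsr ((t' : N)⁻¹ * t) (mul_mem (inv_mem ht') ht) z0 hz0 hz01 ?_))
  rw [τ_comp, e4, ← τ_comp, inv_mul_cancel]
  simp [τdef]

/-- **Two fixed points: the degree is six.** -/
theorem Pt.f_two (h1 : H1 a N) (hev : ¬ Ev a N) (hp : p = 2 ^ m) (hf : ∀ x ∈ cls N, numF Ω x = 2) :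
    m = 2 ∧ Nat.card Ω = 6 ∧
      (Nonempty (G ≃* ↥(alternatingGroup (Fin 6))) ∨ Nonempty (G ≃* Equiv.Perm (Fin 6))) := by
  have hq := h.f_two_q hF h1 hev hp hf
  have hm : m = 2 := by
    have := hF.two_le
    by_contra hne
    have h8 : 2 ^ 3 ≤ 2 ^ m := Nat.pow_le_pow_right two_pos (by omega)
    omega
  obtain ⟨x, hx, hxi⟩ := h.exists_invol
  have hxc := h.mem_cls hx hxi
  have hn := h.nev_n hF hev hxc
  rw [hf x hxc, hp, hm] at hn
  have hn6 : Nat.card Ω = 6 := by omega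
  refine ⟨hm, hn6, six_points hn6 ?_⟩
  haveI := h.pretrans
  have hN : 60 ≤ Nat.card N := by
    rw [h.card_N hF, hp, hm]
    have := hF.e_pos
    calc 60 = (2 ^ 2 + 1) * (2 ^ 2 * ((2 ^ 2 - 1) * 1)) := by norm_num
      _ ≤ _ := by gcongr; omega
  have hle : Nat.card N ≤ Nat.card (stabilizer G a) :=
    Nat.card_le_card_of_injective _ (Subgroup.inclusion_injective h.le)
  have h2 := (stabilizer G a).card_mul_index
  rw [MulAction.index_stabilizer_of_transitive G a, hn6] at h2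
  omega

end CfsgLib.RankOnePoint
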