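import Cfsg.Agent.Lib.RankOnePoint.EvenSwap
import Cfsg.Agent.Lib.RankOnePoint.EvenTwo
import Cfsg.Agent.Lib.RankOnePoint.EvenPlane

/-!
The even degree: six points, or a regular normal subgroup.

Blueprint: `blueprint/S2208.md`, part C.
-/

set_option autoImplicit false
set_option linter.unusedSectionVars false
set_option linter.style.haveILetI false

namespace CfsgLib.RankOnePoint

open MulAction CfsgLib.BinaryCoset
open scoped Pointwise

universe u v

variable {G : Type u} {Ω : Type v} [Group G] [MulAction G Ω] [Finite G] [Finite Ω] [FaithfulSMul G Ω]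
  {a : Ω} {N : Subgroup G} (h : Pt G a N) [IsSimpleGroup N] {m p e : ℕ} (hF : Facts N m p e) (h1 : H1 a N)
  (hev : ¬ Ev a N) (hn : Even (Nat.card Ω))
include h hF h1 hev hn

/-- With non-abelian Sylow subgroups the centraliser of a swapper holds the elements of square one. -/
theorem Pt.q_le_numF (hp : p ≠ 2 ^ m) {x : G} (hx : x ∈ cls N) : 2 ^ m ≤ numF Ω x := by
  obtain ⟨S⟩ : Nonempty (Sylow 2 N) := inferInstance
  obtain ⟨b, hb, hbS⟩ := h.line_second hF hev S
  have hk := h.nev_key hF hev hb hx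
  obtain ⟨⟨y, hy, hya⟩⟩ : Nonempty {y : G // y ∈ cls N ∧ y • a = b} := (Nat.card_pos_iff.mp (by
    show 0 < numW N a b
    rcases Nat.eq_zero_or_pos (numW N a b) with h0 | h0
    · rw [h0, mul_zero] at hk
      have := hF.q_four
      have := hF.q_le_p
      exact absurd hk.symm (Nat.mul_pos (by omega) (by omega)).ne'
    · exact h0)).1
  obtain ⟨θ, hθ2, hθ⟩ := h.swap_aut hF h1 hev hn hb hbS hy hya
  rw [← h.numF_eq hy hx, ← hF.card_sq_one S]
  refine le_trans ?_ (h.swap_cent_le hF h1 hev hb hbS hy hya)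
  refine Nat.card_le_card_of_injective (fun z => ⟨⟨z.1, z.2.1⟩, ?_⟩)
    fun z w e1 => Subtype.ext (congrArg (fun r => ((r.1 : (S : Subgroup N)) : N)) e1)
  have h4 := hθ ⟨z.1, z.2.1⟩
  rw [hF.fix_omega hp hθ2 (z := ⟨z.1, z.2.1⟩) (Subtype.ext z.2.2)] at h4
  conv_rhs => rw [h4]
  rw [mul_assoc, hy.1.2, mul_one]

/-- **An even degree.** -/
theorem Pt.even_degree :
    (Nat.card Ω = 6 ∧ (Nonempty (G ≃* ↥(alternatingGroup (Fin 6))) ∨ Nonempty (G ≃* Equiv.Perm (Fin 6))) ∧ p = 4) ∨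
      HasRegularNormal G Ω := by
  obtain ⟨x0, hx0, hxi0⟩ := h.exists_invol
  have hxc := h.mem_cls hx0 hxi0
  have hall : ∀ {k : ℕ}, numF Ω x0 = k → ∀ x ∈ cls N, numF Ω x = k := fun e1 x hx =>
    (h.numF_eq hx hxc).trans e1
  have hq := hF.q_four
  rcases h.f_cases hF h1 hev hn hxc with h2 | hfp | ⟨hne, hfq⟩ | ⟨hp3, hfq⟩
  · by_cases hp : p = 2 ^ m
    · obtain ⟨hm, hn6, hG⟩ := h.f_two hF h1 hev hp (hall h2)
      exact Or.inl ⟨hn6, hG, by rw [hp, hm]; rfl⟩
    · exfalso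
      have := h.q_le_numF hF h1 hev hn hp hxc
      omega
  · exact Or.inr (h.f_p hF h1 hev hn (hall hfp))
  · exfalso
    rcases hF.kind_ne hne with ⟨hp2, -⟩ | ⟨hp3, -⟩
    · exact h.not_f_sz hF h1 hev hn hp2 (hall hfq)
    · exact h.not_f_q hF h1 hev hn hp3 (hall hfq)
  · exact (h.not_f_q2 hF h1 hev hn hp3 (hall hfq)).elim

end CfsgLib.RankOnePoint
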