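import Cfsg.Agent.Lib.RankOnePoint.FactsBase
import Cfsg.Agent.Lib.UnitarySylowAut

/-!
The standard Sylow 2-subgroup of `PSU₃(q)`, `q` even, with torus and coordinates.

Blueprint: `blueprint/S2208.md`.
-/

set_option autoImplicit false
set_option linter.unusedSectionVars false
set_option linter.style.haveILetI false

namespace CfsgLib.RankOnePoint

open MulAction CfsgLib.PSUBorel CfsgLib.PSU3Min CfsgLib.BinaryCoset CfsgLib.UnitarySylowAut Matrix
open scoped Pointwise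

variable {F : Type} [Field F] [Fintype F] (c : Conj F) [CharP F 2]

/-- Coordinates on the radical. -/
def ugModel : Model c ↥(UG c) where
  κ x := (x.1.1.1 0 1, x.1.1.1 0 2)
  inj := fun x y h => by
    have h1 : x.1.1.1 0 1 = y.1.1.1 0 1 := congrArg Prod.fst h
    have h2 : x.1.1.1 0 2 = y.1.1.1 0 2 := congrArg Prod.snd h
    refine Subtype.ext (SUs_ext c (Matrix.ext fun i j => ?_))
    fin_cases i <;> fin_cases j
    · exact (UU_diag c x.2 0).trans (UU_diag c y.2 0).symm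
    · exact h1
    · exact h2
    · exact (UU_below c x.2 (show (0 : Fin 3) < 1 by decide)).trans
        (UU_below c y.2 (show (0 : Fin 3) < 1 by decide)).symm
    · exact (UU_diag c x.2 1).trans (UU_diag c y.2 1).symm
    · exact ((UG_rel c x.2).1.trans (congrArg (fun t => -c.σ t) h1)).trans (UG_rel c y.2).1.symm
    · exact (UU_below c x.2 (show (0 : Fin 3) < 2 by decide)).trans
        (UU_below c y.2 (show (0 : Fin 3) < 2 by decide)).symm
    · exact (UU_below c x.2 (show (1 : Fin 3) < 2 by decide)).trans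
        (UU_below c y.2 (show (1 : Fin 3) < 2 by decide)).symm
    · exact (UU_diag c x.2 2).trans (UU_diag c y.2 2).symm
  mul x y := by
    refine Prod.ext ?_ ?_
    · show (x.1 * y.1).1.1 0 1 = _
      rw [mul01 c (UG_le c y.2), UU_diag c x.2, UU_diag c y.2]
      show _ = x.1.1.1 0 1 + y.1.1.1 0 1
      ring
    · show (x.1 * y.1).1.1 0 2 = _
      rw [mul02, UU_diag c x.2, UU_diag c y.2, (UG_rel c y.2).1]
      show _ = y.1.1.1 0 2 - x.1.1.1 0 1 * c.σ (y.1.1.1 0 1) + x.1.1.1 0 2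
      ring
  range a b := by
    constructor
    · rintro ⟨x, hx⟩
      rw [Prod.mk.injEq] at hx
      rw [← hx.1, ← hx.2]
      exact (UG_rel c x.2).2
    · intro hb
      refine ⟨⟨r3 c a b hb, ?_⟩, rfl⟩
      refine ⟨fun i j hij => ?_, fun i j hij => ?_⟩
      · show m3 c.σ a b i j = 0
        fin_cases i <;> fin_cases j <;> first | rfl | (exfalso; simp at hij)
      · show m3 c.σ a b i j = (1 : Matrix (Fin 3) (Fin 3) F) i j
        fin_cases i <;> fin_cases j <;> first | rfl | (exfalso; simp at hij)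

/-- An element whose image normalises the image of the radical lies in the Borel subgroup. -/
theorem mem_BG_of_conj {g : SUs c 3} {u : SUs c 3} (hu : u ∈ UG c) (hu1 : u ≠ 1)
    (h : proj c (g⁻¹ * u * g) ∈ (UG c).map (proj c)) : g ∈ BG c := by
  obtain ⟨v, hv, hve⟩ := h
  have hz : v⁻¹ * (g⁻¹ * u * g) ∈ Subgroup.center (SUs c 3) := (proj_eq_one c).mp (by
    rw [map_mul, map_inv, hve, inv_mul_cancel])
  have hconj : g⁻¹ * u * g = v := by
    refine (inv_mul_eq_one.mp (eq_one_of_two_center c hz ?_)).symm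
    obtain ⟨k, hk⟩ := two_of_UG c hu
    obtain ⟨m, hm⟩ := two_of_UG c (inv_mem hv)
    refine ⟨m + k, ?_⟩
    have hcm : Commute v⁻¹ (g⁻¹ * u * g) := by
      have h := Subgroup.mem_center_iff.mp hz v⁻¹
      exact mul_left_cancel (a := v⁻¹) (by simpa [mul_assoc] using h.symm) |> fun e => e.symm
    rw [hcm.mul_pow, pow_add, pow_mul, hm, one_pow, one_mul, mul_comm, pow_mul,
      show g⁻¹ * u * g = g⁻¹ * u * g⁻¹⁻¹ by rw [inv_inv], conj_pow, hk, mul_one, mul_inv_cancel, one_pow]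
  exact ti c hu hu1 (hconj ▸ hv)

theorem exists_pre_psu {m : ℕ} (hq : c.q = 2 ^ m) :
    ∃ (e : ℕ) (T : Sylow 2 (SUs c 3 ⧸ Subgroup.center (SUs c 3))),
      (e = 2 ^ m + 1 ∨ 3 * e = 2 ^ m + 1) ∧ Pre T m ((2 ^ m) ^ 3) e := by
  classical
  haveI : Fact (Nat.Prime 2) := ⟨Nat.prime_two⟩
  obtain ⟨T, hT, hTc, hTZ⟩ := exists_sylow_model c
  obtain ⟨z, hzdef⟩ : ∃ z, z = Nat.card (Subgroup.center (SUs c 3)) := ⟨_, rfl⟩
  obtain ⟨hz3, hzq⟩ := card_center c
  rw [← hzdef] at hz3 hzq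
  obtain ⟨e, he⟩ := hzq
  rw [hq] at he
  have hz : z = 1 ∨ z = 3 := (Nat.dvd_prime Nat.prime_three).mp hz3
  refine ⟨e, T, by rcases hz with rfl | rfl <;> omega, ?_⟩
  -- the model on `T`
  have hmap : ∀ u : ↥(UG c), proj c u.1 ∈ (T : Subgroup (SUs c 3 ⧸ Subgroup.center (SUs c 3))) := fun u => by
    rw [hT]; exact Subgroup.mem_map_of_mem _ u.2
  let eT : ↥(UG c) ≃* ↥(T : Subgroup (SUs c 3 ⧸ Subgroup.center (SUs c 3))) :=
    MulEquiv.ofBijective (MonoidHom.mk' (fun u => ⟨proj c u.1, hmap u⟩) fun u v => Subtype.ext (map_mul _ _ _))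
      ⟨fun u v h => Subtype.ext (proj_inj_UG c u.2 v.2 (congrArg Subtype.val h)), fun x => by
        obtain ⟨x, hx⟩ := x
        rw [hT] at hx
        obtain ⟨u, hu, rfl⟩ := hx
        exact ⟨⟨u, hu⟩, rfl⟩⟩
  let M : Model c ↥(T : Subgroup (SUs c 3 ⧸ Subgroup.center (SUs c 3))) :=
    { κ := fun x => (ugModel c).κ (eT.symm x)
      inj := (ugModel c).inj.comp eT.symm.injective
      mul := fun x y => by rw [map_mul]; exact (ugModel c).mul _ _
      range := fun a b => (eT.symm.surjective.exists (p := fun y => (ugModel c).κ y = (a, b))).symm.trans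
        ((ugModel c).range a b) }
  let π : (SUs c 3 ⧸ Subgroup.center (SUs c 3)) → F := fun x =>
    if h : x ∈ (T : Subgroup (SUs c 3 ⧸ Subgroup.center (SUs c 3))) then (M.κ ⟨x, h⟩).1 else 0
  have hπ : ∀ x : ↥(T : Subgroup (SUs c 3 ⧸ Subgroup.center (SUs c 3))), π x.1 = (M.κ x).1 := fun x =>
    dif_pos x.2
  obtain ⟨ξ, hξ⟩ := IsCyclic.exists_monoid_generator (α := Fˣ)
  have hG : Nat.card (SUs c 3 ⧸ Subgroup.center (SUs c 3)) =
      (2 ^ m) ^ 3 * ((2 ^ m - 1) * e * ((2 ^ m) ^ 3 + 1)) := by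
    have h := card_G c
    rw [Subgroup.card_eq_card_quotient_mul_card_subgroup (Subgroup.center (SUs c 3)), ← hzdef, hq] at h
    have hz0 : 0 < z := by rcases hz with rfl | rfl <;> omega
    refine Nat.eq_of_mul_eq_mul_right hz0 (h.trans ?_)
    rw [show (2 ^ m) ^ 2 - 1 = (2 ^ m - 1) * (z * e) by
      rw [← he]
      refine Nat.sub_eq_of_eq_add ?_
      obtain ⟨r, hr⟩ := Nat.exists_eq_add_of_le (Nat.one_le_two_pow (n := m))
      rw [hr, Nat.add_sub_cancel_left]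
      ring]
    ring
  obtain ⟨u0, hu0, hu01⟩ : ∃ u ∈ UG c, u ≠ 1 := by
    obtain ⟨x, hx⟩ := (ugModel c).lift 1
    exact ⟨x.1, x.2, fun h => one_ne_zero (hx.symm.trans (by
      rw [show x = 1 from Subtype.ext h, (ugModel c).one]))⟩
  have hconj : ∀ g ∈ BG c, proj c g • T = T := fun g hg => smul_eq_of_conj fun y hy => by
    rw [hT] at hy ⊢
    obtain ⟨u, hu, rfl⟩ := hy
    rw [← map_inv, ← map_mul, ← map_mul]
    exact Subgroup.mem_map_of_mem _ (conj_UG c hg hu)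
  have hsemiS : ∀ θ : MulAut ↥(T : Subgroup (SUs c 3 ⧸ Subgroup.center (SUs c 3))),
      ∃ (u : Fˣ) (φ : F ≃+* F), ∀ x : ↥(T : Subgroup (SUs c 3 ⧸ Subgroup.center (SUs c 3))),
        π (θ x).1 = u * φ (π x.1) := fun θ => by
    obtain ⟨u, φ, hu⟩ := M.semilinear θ
    exact ⟨u, φ, fun x => by rw [hπ, hπ]; exact hu x⟩
  refine ⟨hTc.trans (by rw [hq]), hG, ?_, ⟨proj c (dg c ξ), hconj _ (dg_mem c ξ), fun x hx => ?_⟩, ⟨{
    F := F
    π := π
    card := ?_
    hom := fun x hx y hy => ?_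
    surj := fun v => ?_
    ker := fun x hx => ?_
    semi := fun α hα => semi_of_semiS hsemiS α hα
    semiS := fun _ θ => hsemiS θ
    norm := fun _ x hx y hy => ?_ }⟩⟩
  · rw [← hq, ← hTZ]
    exact Nat.card_congr
      { toFun := fun x => ⟨⟨x.1, x.2.1⟩, Subtype.ext x.2.2⟩
        invFun := fun x => ⟨x.1.1, x.1.2, congrArg Subtype.val x.2⟩
        left_inv := fun _ => rfl
        right_inv := fun _ => rfl }
  · obtain ⟨g, rfl⟩ := QuotientGroup.mk'_surjective _ x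
    have hgB : g ∈ BG c := by
      refine mem_BG_of_conj c hu0 hu01 ?_
      have h := (smul_eq_iff_conj.mp hx (proj c (g⁻¹ * u0 * g))).mpr ?_
      · rw [hT] at h; exact h
      · rw [hT]
        refine ⟨u0, hu0, ?_⟩
        show proj c u0 = proj c g * proj c (g⁻¹ * u0 * g) * (proj c g)⁻¹
        rw [← map_inv, ← map_mul, ← map_mul]
        congr 1
        group
    obtain ⟨k, hk⟩ := Submonoid.mem_powers_iff _ _ |>.mp (hξ (corner c ⟨g, hgB⟩))
    refine ⟨k, ?_⟩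
    have h1 : corner c ((⟨g, hgB⟩ : BG c)⁻¹ * ⟨dg c ξ, dg_mem c ξ⟩ ^ k) = 1 := by
      rw [map_mul, map_inv, map_pow, show corner c ⟨dg c ξ, dg_mem c ξ⟩ = ξ from
        Units.ext (by simp [corner, dg]), hk, inv_mul_cancel]
    rw [← MonoidHom.mem_ker, corner_ker, Subgroup.mem_subgroupOf] at h1
    rw [hT]
    exact ⟨_, h1, by simp⟩
  · rw [if_pos rfl, c.card, hq]
  · rw [hπ ⟨x, hx⟩, hπ ⟨y, hy⟩, show π (x * y) = (M.κ (⟨x, hx⟩ * ⟨y, hy⟩)).1 from hπ ⟨x * y, mul_mem hx hy⟩,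
      M.mul]
  · obtain ⟨x, hx⟩ := M.lift v
    exact ⟨x.1, x.2, (hπ x).trans hx⟩
  · rw [hπ ⟨x, hx⟩]
    constructor
    · intro h
      have hmem := M.mem ⟨x, hx⟩
      rw [h, zero_mul, add_zero] at hmem
      obtain ⟨a, ha⟩ := c.exists_norm (CharTwo.add_eq_zero.1 hmem).symm
      obtain ⟨y, hy⟩ := M.lift a
      refine ⟨y.1, y.2, congrArg Subtype.val (show y * y = ⟨x, hx⟩ from M.inj ?_)⟩
      rw [M.sq, hy]
      exact Prod.ext h.symm ha
    · rintro ⟨y, hy, rfl⟩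
      exact (congrArg Prod.fst (M.sq ⟨y, hy⟩) :)
  · rw [hπ ⟨x, hx⟩, hπ ⟨y, hy⟩, ← hq, ← c.hσ, ← c.hσ]
    constructor
    · intro h
      have h' := congrArg M.κ (show (⟨x, hx⟩ * ⟨x, hx⟩ : ↥(T : Subgroup (SUs c 3 ⧸ Subgroup.center (SUs c 3)))) =
        ⟨y, hy⟩ * ⟨y, hy⟩ from Subtype.ext h)
      rw [M.sq, M.sq] at h'
      exact congrArg Prod.snd h'
    · intro h
      refine congrArg Subtype.val (show (⟨x, hx⟩ * ⟨x, hx⟩ : ↥(T : Subgroup (SUs c 3 ⧸ Subgroup.center (SUs c 3)))) =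
        ⟨y, hy⟩ * ⟨y, hy⟩ from M.inj ?_)
      rw [M.sq, M.sq, h]

end CfsgLib.RankOnePoint
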