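import Cfsg.Agent.Lib.RankOnePoint.FactsBase
import Cfsg.Agent.Lib.Suzuki.Sylow
import Cfsg.Agent.Lib.Suzuki.SylowAut
import Cfsg.Agent.Lib.Suzuki.Torus

/-!
The standard Sylow 2-subgroup of the Suzuki group with torus and coordinates.

Blueprint: `blueprint/S2208.md`.
-/

set_option autoImplicit false
set_option linter.unusedSectionVars false
set_option linter.style.haveILetI false

namespace CfsgLib.RankOnePoint

open MulAction CfsgLib.Suzuki Cfsg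
open scoped Pointwise

theorem exists_pre_sz {F : Type} [Field F] [Fintype F] {r : ℕ} (hr : 1 ≤ r)
    (hF : Fintype.card F = 2 ^ (2 * r + 1)) :
    ∃ T : Sylow 2 ↥(Cfsg.Sz F r), Pre T (2 * r + 1) ((2 ^ (2 * r + 1)) ^ 2) 1 := by
  classical
  haveI : Fact (Nat.Prime 2) := ⟨Nat.prime_two⟩
  haveI := charTwo hF
  set T := Usyl hF hr with hTdef
  have hT : (T : Subgroup ↥(Cfsg.Sz F r)) = U hF := coe_Usyl hF hr
  have hmem : ∀ g, g ∈ (T : Subgroup ↥(Cfsg.Sz F r)) ↔ ∃ a b, g = uS hF a b := fun g => by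
    rw [hT]; exact ⟨fun ⟨a, b, h⟩ => ⟨a, b, h⟩, fun ⟨a, b, h⟩ => ⟨a, b, h⟩⟩
  have hsq : ∀ a b, uS hF a b * uS hF a b = uS hF 0 (th r a * a) := uS_sq hF
  obtain ⟨ξ, hξ⟩ := IsCyclic.exists_monoid_generator (α := Fˣ)
  have hpow : ∀ k : ℕ, dS hF ξ ^ k = dS hF (ξ ^ k) := fun k => by
    induction k with
    | zero => rw [pow_zero, pow_zero, dS_one]
    | succ k ih => rw [pow_succ, pow_succ, ih, dS_mul]
  have key : ∀ θ : MulAut ↥(U hF), ∃ (c : Fˣ) (φ : F ≃+* F),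
      ∀ x : ↥(U hF), coA (θ x).1 = c * φ (coA x.1) := fun θ => by
    obtain ⟨g, c, i, hβ⟩ := aut_form hF hr θ
    refine ⟨c, frob hF i, fun x => ?_⟩
    rw [hβ, MulAut.mul_apply]
    conv_lhs => rw [uU_coords hF x, kap_uU, gam_uU, coA_uU]
    rfl
  refine ⟨T, ⟨?_, ?_, ?_, ⟨dS hF ξ, ?_, fun g hg => ?_⟩, ⟨{
    F := F
    char := inferInstance
    π := coA
    card := ?_
    hom := ?_
    surj := fun v => ⟨uS hF v 0, (hmem _).mpr ⟨_, _, rfl⟩, coA_uS hF v 0⟩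
    ker := ?_
    semi := ?_
    semiS := fun _ θ => ?_
    norm := fun h => ?_ }⟩⟩⟩
  · rw [hT, card_U]
  · rw [card_Sz hF hr]; ring
  · rw [← hF, ← Nat.card_eq_fintype_card]
    refine (Nat.card_congr (Equiv.ofBijective (fun b : F => (⟨uS hF 0 b, (hmem _).mpr ⟨0, b, rfl⟩, by
      rw [hsq, mul_zero, uS_zero]⟩ : {x // x ∈ (T : Subgroup ↥(Cfsg.Sz F r)) ∧ x * x = 1}))
      ⟨fun s t e => (uS_inj hF (congrArg Subtype.val e)).2, ?_⟩)).symm
    rintro ⟨x, hx, hx2⟩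
    obtain ⟨a, b, rfl⟩ := (hmem _).mp hx
    rw [hsq, ← uS_zero hF] at hx2
    have ha : a = 0 := (mul_eq_zero.mp (uS_inj hF hx2).2).elim (fun h => th_eq_zero_iff.mp h) id
    subst ha
    exact ⟨b, rfl⟩
  · refine smul_eq_of_conj fun y hy => ?_
    obtain ⟨a, b, rfl⟩ := (hmem _).mp hy
    exact (hmem _).mpr ⟨_, _, dS_uS hF ξ a b⟩
  · have hn : g ∈ Subgroup.normalizer (U hF : Set ↥(Cfsg.Sz F r)) := by
      rw [← hT]; exact CfsgLib.CyclicInt.smul_eq_iff_normalizer.mp hg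
    rw [normalizer_U hF hr] at hn
    obtain ⟨a, b, t, rfl⟩ := (mem_stabInf_iff hF hr).mp (MulAction.mem_stabilizer_iff.mp hn)
    obtain ⟨k, rfl⟩ := Submonoid.mem_powers_iff _ _ |>.mp (hξ t)
    refine ⟨k, (hmem _).mpr ?_⟩
    rw [hpow, show (uS hF a b * dS hF (ξ ^ k))⁻¹ * dS hF (ξ ^ k) =
      dS hF (ξ ^ k)⁻¹ * (uS hF a b)⁻¹ * (dS hF (ξ ^ k)⁻¹)⁻¹ by rw [← dS_inv]; group, uS_inv, dS_uS]
    exact ⟨_, _, rfl⟩
  · have h1 : ((2 : ℕ) ^ (2 * r + 1)) ^ 2 ≠ (2 ^ (2 * r + 1)) ^ 3 := fun h =>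
      absurd (Nat.pow_right_injective (Nat.one_lt_two_pow (by omega)) h) (by omega)
    rw [if_neg h1, hF]
  · intro x hx y hy
    obtain ⟨a, b, rfl⟩ := (hmem _).mp hx
    obtain ⟨c, d, rfl⟩ := (hmem _).mp hy
    rw [uS_mul, coA_uS, coA_uS, coA_uS]
  · intro x hx
    obtain ⟨a, b, rfl⟩ := (hmem _).mp hx
    rw [coA_uS]
    constructor
    · rintro rfl
      rcases eq_or_ne b 0 with rfl | hb
      · exact ⟨1, one_mem _, by rw [one_mul, uS_zero]⟩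
      · obtain ⟨t, ht⟩ := th_mul_surj hF hb
        exact ⟨uS hF (t : F) 0, (hmem _).mpr ⟨_, _, rfl⟩, by rw [hsq, ht]⟩
    · rintro ⟨y, hy, e⟩
      obtain ⟨c, d, rfl⟩ := (hmem _).mp hy
      rw [hsq] at e
      exact (uS_inj hF e).1.symm
  · exact fun α hα => semi_of_semiS (fun θ => key θ) α hα
  · exact key θ
  · intro x hx y hy
    exact absurd (Nat.pow_right_injective (Nat.one_lt_two_pow (by omega)) h) (by omega)

end CfsgLib.RankOnePoint
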