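import Cfsg.Agent.Lib.RankOnePoint.FactsSL
import Cfsg.Agent.Lib.RankOnePoint.FactsSz
import Cfsg.Agent.Lib.RankOnePoint.FactsPSU
import Cfsg.Agent.Lib.Suzuki.Lie

/-!
The three families satisfy the facts used on the normal subgroup.

Blueprint: `blueprint/S2208.md`.
-/

set_option autoImplicit false
set_option linter.unusedSectionVars false
set_option linter.style.haveILetI false

namespace CfsgLib.RankOnePoint

open MulAction CfsgLib.BinaryCoset CfsgLib.CyclicInt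
open scoped Pointwise

universe u

theorem Fam.toFacts {X : Type u} [Group X] [Finite X] (h : Fam X) : ∃ m p e, Facts X m p e := by
  haveI : Fact (Nat.Prime 2) := ⟨Nat.prime_two⟩
  obtain ⟨hs, hX, hTI⟩ := h.facts
  haveI := hs
  obtain ⟨S⟩ : Nonempty (Sylow 2 X) := inferInstance
  obtain ⟨t, c⟩ := exists_ctx hX hTI S
  obtain ⟨F, iF, iFF, m, hF, hm, h⟩ := h
  have h4 : 4 ≤ 2 ^ m := le_trans (by norm_num) (Nat.pow_le_pow_right two_pos hm)
  rcases h with ⟨⟨e⟩⟩ | ⟨hodd, ⟨e⟩⟩ | ⟨K, iK, iKF, hK, ⟨e⟩⟩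
  · obtain ⟨e'⟩ := CfsgLib.SmallSylow.sl_mulEquiv_psl hF
    let E := e.trans e'.symm
    obtain ⟨T, P⟩ := exists_pre_sl hm hF
    exact ⟨m, 2 ^ m, 1, P.facts E hs hX hTI hm (c.good_sl (le_trans one_le_two hm) hF E).1.1 (Or.inl ⟨rfl, rfl⟩)
      fun hp => alt_of_card hs hX hTI (fun S => by
        obtain ⟨e', he'⟩ := exists_equiv_sylow E S T
        exact (Nat.card_congr (e'.toEquiv.subtypeEquiv fun x => he' x)).trans P.card_T) hp⟩
  · have hodd' := hodd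
    obtain ⟨r, rfl⟩ := hodd
    have hr : 1 ≤ r := by omega
    rw [show (2 * r + 1 + 1) / 2 = r + 1 by omega] at e
    obtain ⟨T, P⟩ := exists_pre_sz hr hF
    refine ⟨2 * r + 1, _, 1, P.facts (e.trans (CfsgLib.Suzuki.lieEquiv hF hr).symm) hs hX hTI hm
      (c.good_sz ⟨F, iF, iFF, r, hr, hF, ⟨e⟩⟩).1 (Or.inr (Or.inl ⟨rfl, hodd', rfl⟩)) fun hp => ?_⟩
    have := Nat.pow_le_pow_left h4 2
    omega
  · obtain ⟨-, cj, iC, hq, ⟨e'⟩⟩ := ti_psu hm hK e
    haveI := iC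
    obtain ⟨ee, T, hee, P⟩ := exists_pre_psu cj hq
    refine ⟨m, _, ee, P.facts e' hs hX hTI hm ((centSq_model cj).of_equiv e') (Or.inr (Or.inr ⟨rfl, hee⟩))
      fun hp => ?_⟩
    have := Nat.pow_le_pow_left h4 3
    omega

end CfsgLib.RankOnePoint
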