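import Cfsg.Agent.Lib.RankOnePoint.Lines

/-!
Sylow subgroups of `N` fixing second points: a member fixing the point lies in `N`.

Blueprint: `blueprint/S2208.md`, part A, the case not Ev.
-/

set_option autoImplicit false
set_option linter.unusedSectionVars false
set_option linter.style.haveILetI false

namespace CfsgLib.RankOnePoint

open MulAction CfsgLib.BinaryCoset
open scoped Pointwise

universe u v

/-- The last count: the members with one line do not divide all. -/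
theorem nev_arith {q K f f0 n J M m : ℕ} (hq : q = 2 * (K + 1)) (hqm : q = 2 ^ m) (hK : 1 ≤ K) (hf : 2 ≤ f)
    (hf0 : 1 ≤ f0) (hfo : Odd f) (hn : n = (q + 1) * (f - 1) + 1)
    (h1 : (q + 1) * (q - 1) * (f0 - 1) = (n - 1) * K) (h2 : f0 ∣ q * (q - 1))
    (h4 : J * f0 = n * ((q + 1) * (q - 1))) (hM : M * f0 = f * (q - 1)) (hMJ : M ∣ J) : False := by
  have hq1 : q - 1 = 2 * K + 1 := by omega
  rw [hq1] at h1 h2 h4 hM
  have h1' : (2 * K + 1) * (f0 - 1) = (f - 1) * K := by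
    rw [hn, Nat.add_sub_cancel, mul_assoc, mul_assoc] at h1
    exact Nat.eq_of_mul_eq_mul_left (Nat.succ_pos q) h1
  -- the common factor
  obtain ⟨t, hf0t, hft⟩ : ∃ t : ℕ, f0 - 1 = t * K ∧ f - 1 = t * (2 * K + 1) := by
    have hle : 2 * (f0 - 1) ≤ f - 1 := by
      refine Nat.le_of_mul_le_mul_left ?_ (show 0 < 2 * K + 1 by omega)
      rw [mul_left_comm, h1']
      nlinarith
    have hd : (2 * K + 1) * (f - 1 - 2 * (f0 - 1)) = f - 1 := by
      rw [Nat.mul_sub, mul_left_comm, h1', show (2 * K + 1) * (f - 1) = 2 * ((f - 1) * K) + (f - 1) by ring,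
        Nat.add_sub_cancel_left]
    refine ⟨f - 1 - 2 * (f0 - 1), ?_, by rw [mul_comm]; exact hd.symm⟩
    refine Nat.eq_of_mul_eq_mul_left (show 0 < 2 * K + 1 by omega) ?_
    rw [h1', ← mul_assoc, hd]
  have hte : Even t := by
    have hev : Even (f - 1) := by obtain ⟨r, hr⟩ := hfo; exact ⟨r, by omega⟩
    rw [hft, Nat.even_mul] at hev
    exact hev.resolve_right fun e => by obtain ⟨r, hr⟩ := e; omega
  have ht2 : 2 ≤ t := by
    obtain ⟨r, hr⟩ := hte
    rcases Nat.eq_zero_or_pos t with ht | ht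
    · rw [ht, zero_mul] at hft; omega
    · omega
  have hf0o : Odd f0 := by
    obtain ⟨r, hr⟩ := hte
    exact ⟨r * K, by rw [hr, add_mul] at hf0t; omega⟩
  have h2' : f0 ∣ 2 * K + 1 := by
    rw [hqm] at h2
    exact ((Nat.coprime_two_right.mpr hf0o).pow_right m).dvd_of_dvd_mul_left h2
  have ht : t = 2 := by
    have := Nat.le_of_dvd (by omega) h2'
    by_contra hne
    have h3 : 3 * K ≤ t * K := Nat.mul_le_mul_right K (by omega)
    omega
  subst ht
  have hf0v : f0 = 2 * K + 1 := by omega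
  subst hf0v
  have hMf : M = f := Nat.eq_of_mul_eq_mul_right (by omega) hM
  subst hMf
  have hJ : J = n * (q + 1) := Nat.eq_of_mul_eq_mul_right (show 0 < 2 * K + 1 by omega) (by rw [h4, mul_assoc])
  have hf4 : M = 4 * K + 3 := by omega
  rw [hJ, hn, show M - 1 = 4 * K + 2 by omega, hq, hf4] at hMJ
  have h3 : 4 * K + 3 ∣ 4 * (((2 * (K + 1) + 1) * (4 * K + 2) + 1) * (2 * (K + 1) + 1)) + 3 :=
    ⟨16 * K ^ 2 + 44 * K + 29, by ring⟩
  have := Nat.le_of_dvd (by norm_num) ((Nat.dvd_add_right (Dvd.dvd.mul_left hMJ 4)).mp h3)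
  omega

variable {G : Type u} {Ω : Type v} [Group G] [MulAction G Ω] [Finite G] [Finite Ω] [FaithfulSMul G Ω]
  {a : Ω} {N : Subgroup G} (h : Pt G a N) [IsSimpleGroup N] {m p e : ℕ} (hF : Facts N m p e)
include h hF

/-- A second point of a member outside `N` fixing the point: half of the involutions there are members there. -/
theorem Pt.nev_half (hev : ¬ Ev a N) {b : Ω} (hb : b ≠ a) {y : N} (hyi : Invol (y : G)) (hyb : (y : G) • b = b)
    (hny : ¬ At a N b (y : G)) : 2 * (numK a N b + 1) = 2 ^ m := by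
  obtain ⟨S, hS, hone⟩ := h.nev_one hF hev hb
  rw [← (h.half_counts hF hb hone hyi hyb hny).1, h.nev_ux hF hev hb hS]

/-- **The fixed points of a member fixing the point form a line.** -/
theorem Pt.nev_line (hev : ¬ Ev a N) {x : G} (hx : x ∈ cls N) (hxa : x • a = a) :
    ∃ S : Sylow 2 N, fixedBy Ω x = line S := by
  by_cases hxN : x ∈ N
  · obtain ⟨S, hS⟩ := h.invol_sylow (y := ⟨x, hxN⟩) (Subtype.ext hx.1.2)
    exact ⟨S, h.fix_line hF hev (z := ⟨x, hxN⟩) hS hx.1⟩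
  obtain ⟨hi, k, hk⟩ := id hx
  set b := k • a
  have hxb : At a N b x := ⟨k, rfl, hk⟩
  have hb : b ≠ a := fun e1 => hxN (h.at_base.mp (by rw [e1] at hxb; exact hxb))
  obtain ⟨g, hab, hba⟩ := h.exists_swap hb
  obtain ⟨S, hS, hone⟩ := h.nev_one hF hev hb
  set y0 : N := ⟨g⁻¹ * x * g, (h.at_swap hab).mp hxb⟩
  have hy0i : Invol (y0 : G) := by simpa [y0] using hi.conj g⁻¹
  have hy0b : (y0 : G) • b = b := h.swap_fix' hba hxa
  have hny : ¬ At a N b (y0 : G) := fun e1 => hxN ((h.at_swap_conj hab hba).mp e1)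
  have hK := h.nev_half hF hev hb hy0i hy0b hny
  have hq := hF.q_four
  obtain ⟨⟨y1, ⟨hy1, hy1i⟩, hy1at⟩⟩ : Nonempty {z : G // (z ∈ N ∧ Invol z) ∧ At a N b z} :=
    (Nat.card_pos_iff.mp (show 0 < numK a N b by omega)).1
  set y2 : N := ⟨g⁻¹ * y1 * g, (h.at_swap hab).mp hy1at⟩
  have hy2i : Invol (y2 : G) := by simpa [y2] using hy1i.conj g⁻¹
  have hy2b : (y2 : G) • b = b := h.swap_fix' hba (h.fix hy1)
  refine ⟨S, ?_⟩
  have e1 : fixedBy Ω (y0 : G) = fixedBy Ω (y2 : G) :=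
    (h.fix_line hF hev (hone y0 hy0i hy0b) hy0i).trans (h.fix_line hF hev (hone y2 hy2i hy2b) hy2i).symm
  rw [← h.fix_line hF hev (z := ⟨y1, hy1⟩) (hone ⟨y1, hy1⟩ hy1i (h.at_fix hy1at)) hy1i]
  ext c
  have h1 : ∀ z : G, (g⁻¹ * z * g) • g⁻¹ • c = g⁻¹ • c ↔ z • c = c := fun z => by
    simp [mul_smul]
  exact (h1 x).symm.trans ((Set.ext_iff.mp e1 (g⁻¹ • c)).trans (h1 y1))

/-- Commutators of a Sylow subgroup fixing a second point are members there. -/
theorem Pt.nev_elem (hev : ¬ Ev a N) {b : Ω} (hb : b ≠ a) {y : N} (hyi : Invol (y : G)) (hyb : (y : G) • b = b)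
    (hny : ¬ At a N b (y : G)) : p = 2 ^ m := by
  by_contra hp
  haveI := Fact.mk Nat.prime_two
  obtain ⟨S, hS, hone⟩ := h.nev_one hF hev hb
  obtain ⟨U, hU⟩ := two_le_sylow hF S
  obtain ⟨C⟩ := hF.coord S
  have hy1 : y ≠ 1 := fun e1 => hyi.1 (by rw [e1]; rfl)
  -- `y` is a commutator
  obtain ⟨s, hs, t, ht, hst⟩ : ∃ s ∈ (S : Subgroup N), ∃ t ∈ (S : Subgroup N), y = s * t * s⁻¹ * t⁻¹ := by
    obtain ⟨s, hs, t, ht, hne⟩ : ∃ s ∈ (S : Subgroup N), ∃ t ∈ (S : Subgroup N), s * t * s⁻¹ * t⁻¹ ≠ 1 := by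
      by_contra hc
      push Not at hc
      exact hF.comm_false hp fun s hs t ht => mul_inv_eq_iff_eq_mul.mp (by
        have := hc s hs t ht
        calc s * t * s⁻¹ = s * t * s⁻¹ * t⁻¹ * t := by group
          _ = t := by rw [this, one_mul])
    have hcS : s * t * s⁻¹ * t⁻¹ ∈ (S : Subgroup N) :=
      mul_mem (mul_mem (mul_mem hs ht) (inv_mem hs)) (inv_mem ht)
    have hc2 : s * t * s⁻¹ * t⁻¹ * (s * t * s⁻¹ * t⁻¹) = 1 := hF.ker_sq C hcS (by
      rw [C.hom _ (mul_mem (mul_mem hs ht) (inv_mem hs)) _ (inv_mem ht), C.map_inv ht, C.map_conj hs ht,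
        CharTwo.add_self_eq_zero])
    obtain ⟨d, hd, hdy⟩ := hF.torus_trans hU hcS hne hc2 (hone y hyi hyb) hy1 (Subtype.ext hyi.2)
    exact ⟨d * s * d⁻¹, conj_mem_of_fix (mem_torus.mp hd).1 hs, d * t * d⁻¹, conj_mem_of_fix (mem_torus.mp hd).1 ht,
      hdy.symm.trans (by group)⟩
  -- its automorphism at the other point is inner
  obtain ⟨g, hab, -⟩ := h.exists_swap hb
  let φ : (S : Subgroup N) →* MulAut N :=
    h.act.comp
      { toFun := fun w => ⟨g⁻¹ * (w : N) * g, mem_stabilizer_iff.mpr (h.swap_fix hab (hS w w.2))⟩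
        map_one' := Subtype.ext (by simp)
        map_mul' := fun w w' => Subtype.ext (by simp [mul_assoc]) }
  obtain ⟨S0, hS0⟩ := h.fix_sylow hF (P := φ.range) (S.2.of_surjective φ.rangeRestrict φ.rangeRestrict_surjective)
  have hin := hF.comm_inner (S := S0) (P := φ.range) (S.2.of_surjective φ.rangeRestrict φ.rangeRestrict_surjective)
    hS0 ⟨⟨s, hs⟩, rfl⟩ ⟨⟨t, ht⟩, rfl⟩
  rw [← map_inv φ, ← map_inv φ, ← map_mul φ, ← map_mul φ, ← map_mul φ] at hin
  refine h.outer_of_not_at hF hab (h.mem_cls y.2 hyi) hyb hny ?_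
  convert hin using 1
  refine congrArg h.act (Subtype.ext ?_)
  show g⁻¹ * (y : G) * g = g⁻¹ * _ * g
  rw [hst]
  rfl

omit h hF in
/-- An involutive fixed-point-free permutation has an even domain. -/
theorem even_card_of_invol {T : Type*} [Finite T] (σ : Equiv.Perm T) (h2 : ∀ x, σ (σ x) = x)
    (hfix : ∀ x, σ x ≠ x) : Even (Nat.card T) := by
  classical
  haveI := Fintype.ofFinite T
  haveI := Fact.mk Nat.prime_two
  have h0 : σ.supportᶜ.card = 0 := by
    rw [Finset.card_eq_zero, Finset.eq_empty_iff_forall_notMem]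
    intro x hx
    rw [Finset.mem_compl, Equiv.Perm.notMem_support] at hx
    exact hfix x hx
  have h1 := Equiv.Perm.card_compl_support_modEq (p := 2) (n := 1) (σ := σ) (by
    rw [pow_one, pow_two]
    exact Equiv.ext h2)
  rw [h0] at h1
  rw [even_iff_two_dvd, Nat.card_eq_fintype_card]
  exact Nat.modEq_zero_iff_dvd.mp h1.symm

/-- **With Sylow subgroups fixing second points a member fixing the point lies in `N`.** -/
theorem Pt.nev_h1 (hev : ¬ Ev a N) : H1 a N := by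
  classical
  intro x hx hxa
  by_contra hxN
  haveI := Fact.mk Nat.prime_two
  obtain ⟨b, hb, hxb, y, hy, hyi, hyb, hny⟩ := h.exists_not_at hF hx hxa hxN
  have hp := h.nev_elem hF hev hb (y := ⟨y, hy⟩) hyi hyb hny
  have hK := h.nev_half hF hev hb (y := ⟨y, hy⟩) hyi hyb hny
  obtain ⟨S, hS⟩ := h.nev_line hF hev hx hxa
  set α := h.act ⟨x, mem_stabilizer_iff.mpr hxa⟩
  have hα2 : α * α = 1 := h.act_invol hxa hx.1.2
  have hin : ¬ Inn α := fun hi => hxN (h.inner_mem hF hx hxa hi)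
  -- a second line at the point invariant under `x`
  obtain ⟨V, hVS, hαV⟩ : ∃ V : Sylow 2 N, V ≠ S ∧ α • V = V := by
    obtain ⟨S0, hS0⟩ := h.fix_sylow hF (zpowers_two' hα2)
    have hαS0 := hS0 α (Subgroup.mem_zpowers α)
    obtain ⟨V, hV, hαV⟩ := hF.linear_second hp hαS0 hα2 hin
    by_cases e1 : S0 = S
    · exact ⟨V, e1 ▸ hV, hαV⟩
    · exact ⟨S0, e1, hαS0⟩
  have hxx : ∀ c : Ω, x • x • c = c := fun c => by rw [← mul_smul, hx.1.2, one_smul]
  have hinv : ∀ c, c ∈ (line V : Set Ω) → x • c ∈ (line V : Set Ω) := fun c hc t ht ht2 => by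
    have h1 := hc (α t) ((fix_iff hαV t).mp ht) (by rw [← map_mul, ht2, map_one])
    rw [show ((α t : N) : G) = x * t * x⁻¹ from h.act_apply _ t, inv_eq_of_mul_eq_one_right hx.1.2, mul_smul,
      mul_smul] at h1
    have h2 := congrArg (x • ·) h1
    simp only [hxx] at h2
    exact h2
  have hfo : Odd (numF Ω x) := by
    rw [← h.card_line hF hev V hx]
    let T := {c : (line V : Set Ω) // c.1 ≠ a}
    let σ : Equiv.Perm T := Function.Involutive.toPerm
      (fun c => ⟨⟨x • c.1.1, hinv _ c.1.2⟩, fun e1 => c.2 (by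
        have := congrArg (x • ·) e1
        simpa [hxx, hxa] using this)⟩)
      (fun c => Subtype.ext (Subtype.ext (hxx _)))
    have hev' : Even (Nat.card T) := even_card_of_invol σ (fun c => Subtype.ext (Subtype.ext (hxx _))) fun c e1 =>
      c.2 (by_contra fun hca => hVS (h.line_unique hF hev hca c.1.2 (hS ▸
        (congrArg (fun d : T => d.1.1) e1 : x • c.1.1 = c.1.1))))
    have e : Nat.card (line V : Set Ω) = Nat.card T + 1 := by
      rw [← Nat.card_congr (Equiv.sumCompl fun c : (line V : Set Ω) => c.1 ≠ a), Nat.card_sum]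
      refine congrArg (Nat.card T + ·) (Nat.card_eq_one_iff_unique.mpr ⟨⟨fun c d => Subtype.ext (Subtype.ext ?_)⟩,
        ⟨⟨⟨a, h.mem_line hF V⟩, not_not.mpr rfl⟩⟩⟩)
      rw [not_not.mp c.2, not_not.mp d.2]
    rw [e]
    exact hev'.add_one
  have hline : ∀ z ∈ cls N, z • a = a → ∃ T : Sylow 2 N, fixedBy Ω z = line T := fun z hz hza =>
    h.nev_line hF hev hz hza
  have h2 : numP a N x ∣ 2 ^ m * (2 ^ m - 1) := ⟨numW N a b, by rw [h.nev_key hF hev hb hx, hp]⟩
  have hn := h.nev_n hF hev hx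
  have h1 := h.card_at hb hx
  have h4 := h.card_cls hx
  rw [h.numI_val hF, hp] at h1 h4
  rw [hp] at hn
  have hq := hF.q_four
  have hn1 : 1 ≤ Nat.card Ω := Nat.card_pos_iff.mpr ⟨⟨a⟩, inferInstance⟩
  exact nev_arith (f := numF Ω x) hK.symm rfl (by omega) (h.two_le_numF hF hev hx)
    (Nat.card_pos_iff.mpr ⟨⟨b, hxb⟩, inferInstance⟩) hfo (by omega) h1 h2 h4
    (h.card_same_fix hF hev hline hx) (h.same_fix_dvd hF hev hx)

end CfsgLib.RankOnePoint
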