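import Cfsg.Agent.Lib.RankOnePoint.EvCase
import Cfsg.Agent.Lib.RankOnePoint.NevCase

/-!
Members fixing the point lie in `N`.

Blueprint: `blueprint/S2208.md`, part A.
-/

set_option autoImplicit false
set_option linter.unusedSectionVars false

namespace CfsgLib.RankOnePoint

open MulAction

universe u v

variable {G : Type u} {Ω : Type v} [Group G] [MulAction G Ω] [Finite G] [Finite Ω] [FaithfulSMul G Ω]
  {a : Ω} {N : Subgroup G} (h : Pt G a N) [IsSimpleGroup N] {m p e : ℕ} (hF : Facts N m p e)
include h hF

/-- **Members fixing the point lie in `N`.** -/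
theorem Pt.h1 : H1 a N := by
  by_cases hev : Ev a N
  · exact h.ev_h1 hF hev
  · exact h.nev_h1 hF hev

end CfsgLib.RankOnePoint
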