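import Cfsg.Agent.Lib.RankOnePoint.Count

/-!
Members fixing `a` outside `N` do not induce inner automorphisms of `N`: the parity of the degree, and the fixed
points in the orbits when the two-point stabilisers contain Sylow 2-subgroups of `N`.
-/

set_option autoImplicit false
set_option linter.unusedSectionVars false

namespace CfsgLib.RankOnePoint

open MulAction

universe u v

variable {G : Type u} {Ω : Type v} [Group G] [MulAction G Ω]

/-- The facts on `N` used here. -/
structure RN (N : Subgroup G) : Prop where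
  ti : ∀ (S T : Sylow 2 N) (x : N), x ≠ 1 → x ∈ (S : Subgroup N) → x ∈ (T : Subgroup N) → S = T
  card_sylow : ∀ S : Sylow 2 N, Nat.card (Sylow 2 N) = Nat.card (S : Subgroup N) + 1
  two_sylow : ∀ (S T : Sylow 2 N), S ≠ T → (S : Subgroup N) ⊔ (T : Subgroup N) = ⊤

/-- `S` fixes the point. -/
def SFix {N : Subgroup G} (S : Sylow 2 N) (b : Ω) : Prop := ∀ s ∈ (S : Subgroup N), (s : G) • b = b

/-- No Sylow 2-subgroup of `N` fixes a second point. -/
def Ev (a : Ω) (N : Subgroup G) : Prop := ∀ (S : Sylow 2 N) (b : Ω), SFix S b → b = a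

theorem odd_inv_card [Finite G] (N : Subgroup G) {z : G} (hz : z ∈ N) (hzi : Invol z) : Odd (numI N) := by
  classical
  haveI : Fintype N := Fintype.ofFinite N
  haveI : Fact (Nat.Prime 2) := ⟨Nat.prime_two⟩
  have h := Equiv.Perm.card_compl_support_modEq (p := 2) (n := 1) (σ := Equiv.inv N) (by
    rw [pow_one, pow_two]
    exact Equiv.ext fun y => inv_inv y)
  have heven : 2 ∣ Fintype.card N := by
    rw [← Nat.card_eq_fintype_card, ← orderOf_eq_prime (x := z) (p := 2) (by rw [pow_two]; exact hzi.2) hzi.1]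
    exact Subgroup.orderOf_dvd_natCard N hz
  have hset : Subtype.val '' ((Equiv.inv N).supportᶜ : Set N) = insert 1 {y : G | y ∈ N ∧ Invol y} := by
    ext y
    constructor
    · rintro ⟨y, hy, rfl⟩
      rw [Set.mem_compl_iff, Finset.mem_coe, Equiv.Perm.notMem_support] at hy
      rcases eq_or_ne (y : G) 1 with e | e
      · exact Or.inl e
      · refine Or.inr ⟨y.2, e, ?_⟩
        have h1 : (y : G)⁻¹ = y := congrArg Subtype.val hy
        nth_rewrite 1 [← h1]
        rw [inv_mul_cancel]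
    · rintro (rfl | ⟨hyN, hy⟩)
      · exact ⟨1, by simp, rfl⟩
      · refine ⟨⟨y, hyN⟩, ?_, rfl⟩
        rw [Set.mem_compl_iff, Finset.mem_coe, Equiv.Perm.notMem_support]
        exact Subtype.ext (inv_eq_of_mul_eq_one_right hy.2)
  have hcard : (Equiv.inv N).supportᶜ.card = numI N + 1 := by
    rw [← Set.ncard_coe_finset, Finset.coe_compl, ← Set.ncard_image_of_injective _ Subtype.val_injective, hset,
      Set.ncard_insert_of_notMem (fun e => e.2.1 rfl)]
    rfl
  rw [hcard] at h
  have h' : numI N + 1 ≡ 0 [MOD 2] := h.trans (Nat.modEq_zero_iff_dvd.mpr heven)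
  rw [Nat.odd_iff]
  have := h'
  unfold Nat.ModEq at this
  omega

variable {a : Ω} {N : Subgroup G} (h : Pt G a N)
include h

theorem Pt.not_fix_all [FaithfulSMul G Ω] {b : Ω} (hb : b ≠ a) : ∃ x ∈ N, x • b ≠ b := by
  by_contra hc
  push Not at hc
  obtain ⟨z, hz, hzi⟩ := h.exists_invol
  refine hzi.1 (eq_of_smul_eq_smul (α := Ω) fun d => ?_)
  rw [one_smul]
  by_cases hd : d = a
  · rw [hd, h.fix hz]
  obtain ⟨g, hga, rfl⟩ := h.trans a b a d (Ne.symm hb) (Ne.symm hd)
  have := hc _ (h.conj g⁻¹ (inv_mem (mem_stabilizer_iff.mpr hga)) z hz)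
  rwa [inv_inv, mul_smul, mul_smul, inv_smul_eq_iff] at this

/-- When some Sylow subgroup of `N` fixes a second point, every second point has one. -/
theorem Pt.sfix_of_not_ev [Finite G] (hev : ¬ Ev a N) {b : Ω} (hb : b ≠ a) : ∃ S : Sylow 2 N, SFix S b := by
  haveI : Fact (Nat.Prime 2) := ⟨Nat.prime_two⟩
  rw [Ev] at hev
  push Not at hev
  obtain ⟨S, c, hS, hc⟩ := hev
  obtain ⟨g, hga, rfl⟩ := h.trans a c a b (Ne.symm hc) (Ne.symm hb)
  let e : N →* N :=
    { toFun := fun x => ⟨g * x * g⁻¹, h.conj g (mem_stabilizer_iff.mpr hga) x x.2⟩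
      map_one' := Subtype.ext (by simp)
      map_mul' := fun x y => Subtype.ext (by simp [mul_assoc]) }
  have he : Function.Injective e := fun x y hxy => by
    have := congrArg Subtype.val hxy
    exact Subtype.ext (by simpa [e] using this)
  obtain ⟨T, hT⟩ := (S.2.map e).exists_le_sylow
  have hTeq : (S : Subgroup N).map e = (T : Subgroup N) := Subgroup.eq_of_le_of_card_ge hT (by
    rw [Subgroup.card_map_of_injective he]; exact le_of_eq (Nat.card_congr (T.equiv S).toEquiv))
  refine ⟨T, fun s hs => ?_⟩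
  rw [← hTeq] at hs
  obtain ⟨x, hx, rfl⟩ := hs
  show (g * (x : G) * g⁻¹) • g • c = g • c
  rw [mul_smul, inv_smul_smul, mul_smul, hS x hx]

/-- With no Sylow subgroup fixing a second point the degree is odd. -/
theorem Pt.ev_odd [Finite G] [Finite Ω] (hev : Ev a N) : Odd (Nat.card Ω) := by
  haveI : Fact (Nat.Prime 2) := ⟨Nat.prime_two⟩
  obtain ⟨S⟩ : Nonempty (Sylow 2 N) := inferInstance
  set P := (S : Subgroup N).map N.subtype
  have hP : IsPGroup 2 P := S.2.map _
  have hfix : MulAction.fixedPoints P Ω = {a} := by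
    ext b
    refine ⟨fun hb => hev S b fun s hs => hb ⟨s, Subgroup.mem_map_of_mem _ hs⟩, ?_⟩
    rintro rfl ⟨_, s, -, rfl⟩
    exact h.fix s.2
  have := hP.card_modEq_card_fixedPoints Ω
  rw [show Nat.card (MulAction.fixedPoints P Ω) = 1 by rw [hfix]; simp] at this
  rw [Nat.odd_iff]
  exact this

variable [Finite G] [Finite Ω] [FaithfulSMul G Ω]

/-- With no Sylow subgroup fixing a second point a member has an odd number of points. -/
theorem Pt.ev_numP (hev : Ev a N) {z : G} (hz : z ∈ cls N) : Odd (numP a N z) := by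
  obtain ⟨b, hb⟩ := h.exists_ne
  obtain ⟨x, hx, hxi⟩ := h.exists_invol
  have he := h.card_at hb hz
  have hP : 1 ≤ numP a N z := by
    obtain ⟨hi, g, hg⟩ := hz
    exact Nat.card_pos_iff.mpr ⟨⟨g • a, g, rfl, hg⟩, inferInstance⟩
  obtain ⟨k, hk⟩ := h.ev_odd hev
  have h2 : 2 ∣ numI N * (numP a N z - 1) := ⟨k * numK a N b, by rw [he, hk, Nat.add_sub_cancel]; ring⟩
  have hodd := odd_inv_card N hx hxi
  rcases Nat.prime_two.dvd_mul.mp h2 with h3 | h3
  · exact absurd h3 (by rw [← even_iff_two_dvd]; exact Nat.not_even_iff_odd.mpr hodd)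
  · rw [Nat.odd_iff]; omega

/-- **No member outside `N` at `a` centralises a Sylow subgroup, when none fixes a second point.** -/
theorem Pt.ev_cent (hev : Ev a N) {x : G} (hx : x ∈ cls N) (hxN : x ∉ N) (S : Sylow 2 N)
    (hc : ∀ s ∈ (S : Subgroup N), (s : G) * x = x * s) : False := by
  haveI : Fact (Nat.Prime 2) := ⟨Nat.prime_two⟩
  set P := (S : Subgroup N).map N.subtype
  have hmem : ∀ s : P, ∀ p : Ω, At a N p x → At a N ((s : G) • p) x := fun s p hp => by
    obtain ⟨t, ht, hts⟩ := s.2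
    have hc' : (s : G) * x = x * s := by rw [← hts]; exact hc t ht
    have := hp.conj (s : G)
    rwa [hc', mul_inv_cancel_right] at this
  letI : MulAction P {p : Ω // At a N p x} :=
    { smul := fun s p => ⟨(s : G) • p.1, hmem s p.1 p.2⟩
      one_smul := fun p => Subtype.ext (one_smul G p.1)
      mul_smul := fun s t p => Subtype.ext (mul_smul (s : G) (t : G) p.1) }
  have hodd : ¬ 2 ∣ Nat.card {p : Ω // At a N p x} := by
    rw [← even_iff_two_dvd, Nat.not_even_iff_odd]; exact h.ev_numP hev hx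
  obtain ⟨p, hp⟩ := (S.2.map N.subtype).nonempty_fixed_point_of_prime_not_dvd_card {p : Ω // At a N p x} hodd
  have hpa : p.1 = a := hev S p.1 fun s hs => congrArg Subtype.val (hp ⟨s, Subgroup.mem_map_of_mem _ hs⟩)
  have hp2 : At a N p.1 x := p.2
  rw [hpa] at hp2
  exact hxN (h.at_base.mp hp2)

variable (hN : RN N)
include hN

/-- Elements of `N` fixing a point fixed by a Sylow subgroup normalise it. -/
theorem Pt.sfix_normal {S : Sylow 2 N} {b : Ω} (hb : b ≠ a) (hS : SFix S b) {n : N} (hn : (n : G) • b = b) :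
    n • S = S := by
  haveI : Fact (Nat.Prime 2) := ⟨Nat.prime_two⟩
  by_contra hne
  obtain ⟨y, hy, hyb⟩ := h.not_fix_all hb
  let A : Subgroup N := (stabilizer G b).subgroupOf N
  have h1 : (S : Subgroup N) ≤ A := fun s hs => Subgroup.mem_subgroupOf.mpr (hS s hs)
  have h2 : ((n • S : Sylow 2 N) : Subgroup N) ≤ A := fun s hs => by
    rw [Sylow.coe_subgroup_smul, Subgroup.mem_pointwise_smul_iff_inv_smul_mem] at hs
    have hs' := h1 hs
    have hnA : n ∈ A := Subgroup.mem_subgroupOf.mpr hn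
    have := mul_mem (mul_mem hnA hs') (inv_mem hnA)
    simpa [MulAut.smul_def, mul_assoc] using this
  have h3 : (⊤ : Subgroup N) ≤ A := (hN.two_sylow _ _ hne).ge.trans (sup_le h2 h1)
  exact hyb (mem_stabilizer_iff.mp (Subgroup.mem_subgroupOf.mp (h3 (Subgroup.mem_top (⟨y, hy⟩ : N)))))

/-- **No member outside `N` at `a` is an element of `N` times one centralising `N`, when Sylow subgroups fix
second points.** -/
theorem Pt.nev_inner (hev : ¬ Ev a N) {x s : G} (hx : x ∈ cls N) (hxa : x • a = a) (hxN : x ∉ N) (hs : s ∈ N)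
    (hsi : Invol s) (hc : ∀ n ∈ N, (s * x) * n = n * (s * x)) : False := by
  classical
  haveI : Fact (Nat.Prime 2) := ⟨Nat.prime_two⟩
  set c := s * x with hcdef
  have hxs : x = s * c := by rw [hcdef, ← mul_assoc, hsi.2, one_mul]
  have hcs : c * s = s * c := hc s hs
  have hcc : c * c = 1 := by
    have h1 : x * x = s * s * (c * c) := by
      rw [hxs, mul_assoc, ← mul_assoc c, hcs]; simp [mul_assoc]
    rw [hx.1.2, hsi.2, one_mul] at h1
    exact h1.symm
  -- points other than `a` fixed by `x` are fixed by `c`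
  have key : ∀ p : Ω, p ≠ a → x • p = p → c • p = p := by
    intro p hpa hp
    obtain ⟨S, hS⟩ := h.sfix_of_not_ev hev hpa
    have hcp : c • p = s • p := by rw [hcdef, mul_smul, hp]
    set n : N := ⟨s, hs⟩
    have hS' : SFix S ((n : G) • p) := fun t ht => by
      show (t : G) • s • p = s • p
      rw [← hcp, ← mul_smul, ← hc t t.2, mul_smul, hS t ht]
    -- `s` normalises `S`, so lies in it
    have hnorm : n • S = S := by
      by_contra hne
      obtain ⟨y, hy, hyb⟩ := h.not_fix_all hpa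
      let A : Subgroup N := (stabilizer G p).subgroupOf N
      have h1 : (S : Subgroup N) ≤ A := fun t ht => Subgroup.mem_subgroupOf.mpr (hS t ht)
      have h2 : ((n • S : Sylow 2 N) : Subgroup N) ≤ A := fun t ht => by
        rw [Sylow.coe_subgroup_smul, Subgroup.mem_pointwise_smul_iff_inv_smul_mem] at ht
        have h' := hS' _ ht
        refine Subgroup.mem_subgroupOf.mpr (mem_stabilizer_iff.mpr ?_)
        have hss : s • s • p = p := by rw [← mul_smul, hsi.2, one_smul]
        simpa [MulAut.smul_def, mul_smul, inv_smul_eq_iff, n, hss] using h'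
      have h3 : (⊤ : Subgroup N) ≤ A := (hN.two_sylow _ _ hne).ge.trans (sup_le h2 h1)
      exact hyb (mem_stabilizer_iff.mp (Subgroup.mem_subgroupOf.mp (h3 (Subgroup.mem_top (⟨y, hy⟩ : N)))))
    have hmem : n ∈ (S : Subgroup N) := by
      have hn2 : IsPGroup 2 (Subgroup.zpowers n) := by
        refine IsPGroup.of_card (n := 1) ?_
        rw [Nat.card_zpowers, pow_one]
        exact orderOf_eq_prime (by rw [pow_two]; exact Subtype.ext hsi.2) fun e => hsi.1 (congrArg Subtype.val e)
      have hle : Subgroup.zpowers n ⊔ (S : Subgroup N) = (S : Subgroup N) :=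
        S.is_maximal' (hn2.to_sup_of_normal_right' S.2 (Subgroup.zpowers_le.mpr (Sylow.smul_eq_iff_mem_normalizer.mp hnorm)))
          le_sup_right
      exact hle.le (Subgroup.mem_sup_left (Subgroup.mem_zpowers n))
    rw [hcp]
    exact hS n hmem
  -- so they are the points fixed by `s`
  have hF : numF Ω x = numF Ω s := h.numF_eq hx (h.mem_cls hs hsi)
  have hsub : {p : Ω | x • p = p} ⊆ {p : Ω | s • p = p} := fun p hp => by
    by_cases hpa : p = a
    · rw [Set.mem_ofPred_eq, hpa]; exact h.fix hs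
    · have h1 := key p hpa hp
      rw [Set.mem_ofPred_eq] at hp ⊢
      rwa [hxs, mul_smul, h1] at hp
  have heq : {p : Ω | x • p = p} = {p : Ω | s • p = p} := Set.eq_of_subset_of_ncard_le hsub (by
    rw [show ({p : Ω | x • p = p}).ncard = numF Ω x from (Nat.card_coe_set_eq _).symm, hF]
    exact le_of_eq (Nat.card_coe_set_eq _).symm)
  refine hxN ?_
  set n0 : N := ⟨s, hs⟩
  have hc1 : c = 1 := eq_of_smul_eq_smul (α := Ω) fun d => by
    rw [one_smul]
    by_cases hd : d = a
    · rw [hd, hcdef, mul_smul, hxa, h.fix hs]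
    obtain ⟨S, hS⟩ := h.sfix_of_not_ev hev hd
    obtain ⟨w, hwS, hw⟩ : ∃ w ∈ (S : Subgroup N), Invol (w : G) := by
      obtain ⟨w, hw⟩ := exists_prime_orderOf_dvd_card' (G := (S : Subgroup N)) 2 (S.dvd_card_of_dvd_card (by
        rw [← orderOf_eq_prime (x := n0) (p := 2) (by rw [pow_two]; exact Subtype.ext hsi.2)
          fun e => hsi.1 (congrArg Subtype.val e)]
        exact orderOf_dvd_natCard n0))
      have hw2 := pow_orderOf_eq_one w
      rw [hw, pow_two] at hw2
      refine ⟨w, w.2, fun e => ?_, congrArg (fun v : (S : Subgroup N) => ((v : N) : G)) hw2⟩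
      rw [show w = 1 from Subtype.ext (Subtype.ext e), orderOf_one] at hw
      omega
    obtain ⟨m, hm, hms⟩ := h.one_class _ w.2 _ hs hw hsi
    have hfix : s • m • d = m • d := by rw [← hms, mul_smul, inv_smul_smul, mul_smul, hS w hwS]
    have hmd : m • d ≠ a := fun e => hd (by rw [← inv_smul_smul m d, e]; exact h.fix (inv_mem hm))
    have hx' : x • m • d = m • d := (Set.ext_iff.mp heq (m • d)).mpr hfix
    have := key _ hmd hx'
    rwa [← mul_smul, hc m hm, mul_smul, smul_left_cancel_iff] at this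
  rw [hxs, hc1, mul_one]
  exact hs

omit [FaithfulSMul G Ω] hN h in
/-- An element of square one normalising a Sylow subgroup lies in it. -/
theorem mem_of_norm {S : Sylow 2 N} {n : N} (hn : n * n = 1) (h' : n • S = S) : n ∈ (S : Subgroup N) := by
  haveI : Fact (Nat.Prime 2) := ⟨Nat.prime_two⟩
  have hp : IsPGroup 2 (Subgroup.zpowers n) := by
    intro g
    obtain ⟨k, hk⟩ := Subgroup.mem_zpowers_iff.mp g.2
    refine ⟨1, Subtype.ext ?_⟩
    rw [pow_one, SubmonoidClass.coe_pow, ← hk, OneMemClass.coe_one, pow_two, ← (Commute.refl n).mul_zpow, hn,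
      one_zpow]
  have hle : Subgroup.zpowers n ⊔ (S : Subgroup N) = (S : Subgroup N) :=
    S.is_maximal' (hp.to_sup_of_normal_right' S.2
      (Subgroup.zpowers_le.mpr (Sylow.smul_eq_iff_mem_normalizer.mp h'))) le_sup_right
  exact hle.le (Subgroup.mem_sup_left (Subgroup.mem_zpowers n))

omit [FaithfulSMul G Ω] in
/-- The involutions are the Sylow subgroups times the involutions of one. -/
theorem Pt.numI_eq (S : Sylow 2 N) :
    numI N = Nat.card (Sylow 2 N) * Nat.card {w : N // w ∈ (S : Subgroup N) ∧ Invol (w : G)} := by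
  classical
  haveI : Fact (Nat.Prime 2) := ⟨Nat.prime_two⟩
  rw [← card_prod_fibre (fun (T : Sylow 2 N) (w : {x : G // x ∈ N ∧ Invol x}) =>
    (⟨w.1, w.2.1⟩ : N) ∈ (T : Subgroup N)) (c := Nat.card {w : N // w ∈ (S : Subgroup N) ∧ Invol (w : G)})
    (fun T => ?_)]
  · refine Nat.card_congr (Equiv.ofBijective (fun z => z.1.2) ⟨fun z z' e => ?_, fun w => ?_⟩).symm
    · obtain ⟨⟨T, w⟩, hz⟩ := z
      obtain ⟨⟨T', w'⟩, hz'⟩ := z'
      simp only at e
      subst e
      have := hN.ti T T' _ (fun e => w.2.2.1 (congrArg Subtype.val e)) hz hz'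
      subst this
      rfl
    · set n : N := ⟨w.1, w.2.1⟩
      have hp : IsPGroup 2 (Subgroup.zpowers n) := by
        intro g
        obtain ⟨k, hk⟩ := Subgroup.mem_zpowers_iff.mp g.2
        refine ⟨1, Subtype.ext ?_⟩
        rw [pow_one, SubmonoidClass.coe_pow, ← hk, OneMemClass.coe_one, pow_two, ← (Commute.refl n).mul_zpow,
          show n * n = 1 from Subtype.ext w.2.2.2, one_zpow]
      obtain ⟨T, hT⟩ := hp.exists_le_sylow
      exact ⟨⟨(T, w), hT (Subgroup.mem_zpowers n)⟩, rfl⟩
  · obtain ⟨g, rfl⟩ := exists_smul_eq N S T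
    refine Nat.card_congr
      { toFun := fun w => ⟨g⁻¹ * ⟨w.1.1, w.1.2.1⟩ * g, ?_, by simpa using w.1.2.2.conj (g : G)⁻¹⟩
        invFun := fun w => ⟨⟨(g : G) * w.1 * (g : G)⁻¹,
          mul_mem (mul_mem g.2 w.1.2) (inv_mem g.2), w.2.2.conj _⟩, ?_⟩
        left_inv := fun w => Subtype.ext (Subtype.ext (by simp [mul_assoc]))
        right_inv := fun w => Subtype.ext (Subtype.ext (by simp [mul_assoc])) }
    · have := w.2
      simp only [Sylow.coe_subgroup_smul, Subgroup.mem_pointwise_smul_iff_inv_smul_mem] at this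
      simpa [MulAut.smul_def] using this
    · simp only [Sylow.coe_subgroup_smul, Subgroup.mem_pointwise_smul_iff_inv_smul_mem]
      convert w.2.1 using 1
      exact Subtype.ext (by simp [MulAut.smul_def, mul_assoc])

/-- **No member outside `N` at `a` centralises `N`.** -/
theorem Pt.nev_triv (hev : ¬ Ev a N) {x : G} (hx : x ∈ cls N) (hxN : x ∉ N)
    (hc : ∀ n ∈ N, x * n = n * x) : False := by
  classical
  haveI : Fact (Nat.Prime 2) := ⟨Nat.prime_two⟩
  obtain ⟨b, hb⟩ := h.exists_ne
  obtain ⟨S₁, hS₁⟩ := h.sfix_of_not_ev hev hb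
  obtain ⟨z₀, hz₀, hz₀i⟩ := h.exists_invol
  set m := Nat.card {w : N // w ∈ (S₁ : Subgroup N) ∧ Invol (w : G)}
  have hI : numI N = Nat.card (Sylow 2 N) * m := h.numI_eq hN S₁
  have hX : numX N b = m := Nat.card_congr
    { toFun := fun w => ⟨⟨w.1, w.2.1.1⟩, mem_of_norm (Subtype.ext w.2.1.2.2)
        (h.sfix_normal hN hb hS₁ w.2.2), w.2.1.2⟩
      invFun := fun w => ⟨w.1, ⟨w.1.2, w.2.2⟩, hS₁ w.1 w.2.1⟩
      left_inv := fun _ => rfl
      right_inv := fun _ => rfl }
  have hm : 0 < m ∧ m ≤ Nat.card (S₁ : Subgroup N) := by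
    refine ⟨Nat.pos_of_ne_zero fun e => ?_, Nat.card_le_card_of_injective
      (fun w => (⟨w.1, w.2.1⟩ : (S₁ : Subgroup N))) fun w w' e => Subtype.ext (congrArg (fun v : (S₁ : Subgroup N) => (v : N)) e)⟩
    rw [e, mul_zero] at hI
    obtain ⟨k, hk⟩ := odd_inv_card N hz₀ hz₀i
    omega
  -- the points of `x` form orbits whose sizes are multiples of the number of Sylow subgroups
  let A := {p : Ω // At a N p x}
  have hne : ∀ p : A, p.1 ≠ a := fun p e => hxN (by
    have hp : At a N p.1 x := p.2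
    rw [e] at hp
    exact h.at_base.mp hp)
  have hex : ∀ p : A, ∃ S : Sylow 2 N, SFix S p.1 := fun p => h.sfix_of_not_ev hev (hne p)
  have huniq : ∀ (p : A) (S T : Sylow 2 N), SFix S p.1 → SFix T p.1 → S = T := by
    intro p S T hS hT
    by_contra hST
    obtain ⟨y, hy, hyb⟩ := h.not_fix_all (hne p)
    have h3 : (⊤ : Subgroup N) ≤ (stabilizer G p.1).subgroupOf N := (hN.two_sylow _ _ hST).ge.trans
      (sup_le (fun t ht => Subgroup.mem_subgroupOf.mpr (hS t ht)) fun t ht => Subgroup.mem_subgroupOf.mpr (hT t ht))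
    exact hyb (mem_stabilizer_iff.mp (Subgroup.mem_subgroupOf.mp (h3 (Subgroup.mem_top (⟨y, hy⟩ : N)))))
  have hfib : ∀ S T : Sylow 2 N, Nat.card {p : A // SFix S p.1} = Nat.card {p : A // SFix T p.1} := by
    intro S T
    obtain ⟨g, rfl⟩ := exists_smul_eq N S T
    have hmv : ∀ (g : N) (p : Ω), At a N p x → At a N ((g : G) • p) x := fun g p hp => by
      have := hp.conj (g : G)
      rwa [← hc g g.2, mul_inv_cancel_right] at this
    have hsf : ∀ (g : N) (S : Sylow 2 N) (p : Ω), SFix S p → SFix (g • S) ((g : G) • p) := fun g S p hp t ht => by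
      rw [Sylow.coe_subgroup_smul, Subgroup.mem_pointwise_smul_iff_inv_smul_mem] at ht
      have h' := hp _ ht
      simpa [MulAut.smul_def, mul_smul, inv_smul_eq_iff] using h'
    exact Nat.card_congr
      { toFun := fun p => ⟨⟨(g : G) • p.1.1, hmv g _ p.1.2⟩, hsf g S _ p.2⟩
        invFun := fun p => ⟨⟨((g⁻¹ : N) : G) • p.1.1, hmv g⁻¹ _ p.1.2⟩, by
          simpa [inv_smul_smul] using hsf g⁻¹ (g • S) _ p.2⟩
        left_inv := fun p => Subtype.ext (Subtype.ext (by simp))
        right_inv := fun p => Subtype.ext (Subtype.ext (by simp)) }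
  have hdvd : Nat.card (Sylow 2 N) ∣ numP a N x := by
    have e1 := card_prod_fibre (fun (S : Sylow 2 N) (p : A) => SFix S p.1) (fun S => hfib S S₁)
    refine ⟨Nat.card {p : A // SFix S₁ p.1}, e1 ▸ ?_⟩
    exact (Nat.card_congr (Equiv.ofBijective (fun z : {z : Sylow 2 N × A // SFix z.1 z.2.1} => z.1.2)
      ⟨fun z z' e => Subtype.ext (Prod.ext (huniq _ _ _ z.2 (by rw [show z.1.2 = z'.1.2 from e]; exact z'.2)) e),
        fun p => ⟨⟨((hex p).choose, p), (hex p).choose_spec⟩, rfl⟩⟩)).symm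
  have hk := h.key hb hx
  rw [hI, hX] at hk
  have h2 : Nat.card (Sylow 2 N) ∣ m := (Nat.dvd_add_right (hdvd.mul_right _)).mp (hk ▸ dvd_mul_right _ _)
  have := Nat.le_of_dvd hm.1 h2
  have := hN.card_sylow S₁
  omega

end CfsgLib.RankOnePoint
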