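import Cfsg.Agent.Lib.BinaryCoset.Families
import Cfsg.Agent.Lib.RankOnePoint.Inner
import Cfsg.Agent.S1162

/-!
The three families of rank one groups in characteristic two satisfy the standing hypotheses.

Blueprint: `blueprint/S2208.md`.
-/

set_option autoImplicit false
set_option linter.unusedSectionVars false
set_option linter.style.haveILetI false

namespace CfsgLib.RankOnePoint

open MulAction CfsgLib.CyclicInt CfsgLib.BinaryCoset
open scoped Pointwise

universe u v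

/-- The three families, in the form used by the statement. -/
def Fam (N : Type u) [Group N] : Prop :=
  ∃ (F : Type) (_ : Field F) (_ : Fintype F) (m : ℕ), Fintype.card F = 2 ^ m ∧ 2 ≤ m ∧
    (Nonempty (N ≃* Matrix.ProjectiveSpecialLinearGroup (Fin 2) F) ∨
      (Odd m ∧ Nonempty (N ≃* ↥(Cfsg.Lie.Sz F (2 ^ ((m + 1) / 2))))) ∨
      (∃ (K : Type) (_ : Field K) (_ : Fintype K), Fintype.card K = (2 ^ m) ^ 2 ∧
        Nonempty (N ≃* Cfsg.PSU 3 K (2 ^ m))))

variable {X : Type u} [Group X] [Finite X]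

/-- A simple group of order divisible by four is not commutative. -/
theorem not_comm_of_four_dvd [IsSimpleGroup X] (h : 4 ∣ Nat.card X) : ¬ IsMulCommutative X := by
  intro hc
  letI : CommGroup X := { ‹Group X› with mul_comm := hc.is_comm.comm }
  have hp : (Nat.card X).Prime := IsSimpleGroup.prime_card
  rcases (Nat.dvd_prime hp).mp h with e | e
  · omega
  · rw [← e] at hp
    norm_num at hp

/-- Simplicity and the trivial intersection property. -/
theorem Fam.facts (h : Fam X) : IsSimpleGroup X ∧ ¬ IsMulCommutative X ∧ TI X := by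
  haveI : Fact (Nat.Prime 2) := ⟨Nat.prime_two⟩
  obtain ⟨F, iF, iFF, m, hF, hm, h⟩ := h
  have h4 : 4 ≤ 2 ^ m := le_trans (by norm_num) (Nat.pow_le_pow_right two_pos hm)
  rcases h with ⟨⟨e⟩⟩ | ⟨hodd, ⟨e⟩⟩ | ⟨K, iK, iKF, hK, ⟨e⟩⟩
  · haveI : IsSimpleGroup (Matrix.ProjectiveSpecialLinearGroup (Fin 2) F) :=
      Matrix.ProjectiveSpecialLinearGroup.rank_two_simple (by rw [Nat.card_eq_fintype_card, hF]; exact h4)
    haveI := e.isSimpleGroup
    obtain ⟨e'⟩ := CfsgLib.SmallSylow.sl_mulEquiv_psl hF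
    refine ⟨inferInstance, not_comm_of_four_dvd ?_, ti_sl hF (e.trans e'.symm)⟩
    rw [Nat.card_congr (e.trans e'.symm).toEquiv, SLCard.card_SL_two, hF]
    exact dvd_mul_of_dvd_left (show 2 ^ 2 ∣ 2 ^ m from pow_dvd_pow 2 hm) _
  · obtain ⟨r, rfl⟩ := hodd
    have hr : 1 ≤ r := by omega
    rw [show (2 * r + 1 + 1) / 2 = r + 1 by omega] at e
    haveI := Cfsg.Agent.S1162.result hr hF
    haveI := e.isSimpleGroup
    refine ⟨inferInstance, not_comm_of_four_dvd ?_, ti_sz ⟨F, iF, iFF, r, hr, hF, ⟨e⟩⟩⟩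
    rw [Nat.card_congr e.toEquiv, (Cfsg.Agent.S1163.result hr hF).1]
    exact dvd_mul_of_dvd_left (dvd_mul_of_dvd_left
      ((show 2 ^ 2 ∣ 2 ^ (2 * r + 1) from pow_dvd_pow 2 hm).trans (dvd_pow_self _ two_ne_zero)) _) _
  · haveI : IsSimpleGroup (Cfsg.PSU 3 K (2 ^ m)) :=
      Cfsg.Agent.S0283.result hK 3 le_rfl fun h => by omega
    haveI := e.isSimpleGroup
    obtain ⟨hTI, cj, iC, hq, ⟨e'⟩⟩ := ti_psu hm hK e
    haveI := iC
    refine ⟨inferInstance, not_comm_of_four_dvd ?_, hTI⟩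
    obtain ⟨T, -, hT, -⟩ := exists_sylow_model cj
    obtain ⟨S⟩ : Nonempty (Sylow 2 X) := inferInstance
    have hS := (card_sq_one_sylow e' S T).1.trans hT
    refine dvd_trans ?_ (Subgroup.card_subgroup_dvd_card (S : Subgroup X))
    rw [show Nat.card ↥(S : Subgroup X) = cj.q ^ 3 from hS, hq]
    exact (show 2 ^ 2 ∣ 2 ^ m from pow_dvd_pow 2 hm).trans (dvd_pow_self _ three_ne_zero)

variable [IsSimpleGroup X]

/-- The structural facts on a simple group with TI Sylow 2-subgroups. -/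
theorem two_sylow_of_ctx (hX : ¬ IsMulCommutative X) (hTI : TI X) {S T : Sylow 2 X} (hne : S ≠ T) :
    (S : Subgroup X) ⊔ (T : Subgroup X) = ⊤ := by
  haveI : Fact (Nat.Prime 2) := ⟨Nat.prime_two⟩
  obtain ⟨t, c⟩ := exists_ctx hX hTI S
  set L := (S : Subgroup X) ⊔ (T : Subgroup X)
  have key : ∀ U : Sylow 2 X, (U : Subgroup X) ≤ L := by
    intro U
    by_cases hU : U = S
    · rw [hU]; exact le_sup_left
    obtain ⟨u, hu, huU⟩ := CfsgLib.RankOne.exists_Q_ta c.setup hU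
    obtain ⟨w, hw, hwT⟩ := CfsgLib.RankOne.exists_Q_ta c.setup (Ne.symm hne)
    have e : (u * w⁻¹) • T = U := by rw [mul_smul, ← hwT, inv_smul_smul, huU]
    intro x hx
    rw [← e] at hx
    have h1 := mem_smul_sylow.mp hx
    have hg : u * w⁻¹ ∈ L := le_sup_left (a := (S : Subgroup X)) (mul_mem hu (inv_mem hw))
    have := mul_mem (mul_mem hg (le_sup_right (a := (S : Subgroup X)) h1)) (inv_mem hg)
    simpa [mul_assoc] using this
  rw [eq_top_iff]
  intro x _
  have htop : Subgroup.normalClosure ((S : Subgroup X) : Set X) = ⊤ :=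
    (IsSimpleGroup.eq_bot_or_eq_top_of_normal _ inferInstance).resolve_left fun e => by
      obtain ⟨z, hz, hz2⟩ := c.exists_inv_Z
      exact hz2.1 (Subgroup.mem_bot.mp (e ▸ Subgroup.subset_normalClosure (c.Z_le hz)))
  have hle : Subgroup.normalClosure ((S : Subgroup X) : Set X) ≤ L := by
    refine Subgroup.closure_le _ |>.mpr fun y hy => ?_
    obtain ⟨s, hs, hc⟩ := Group.mem_conjugatesOfSet_iff.mp hy
    obtain ⟨g, rfl⟩ := isConj_iff.mp hc
    exact key (g • S) (conj_mem_smul_sylow hs)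
  exact hle (htop ▸ Subgroup.mem_top x)

theorem ctx_card_sylow (hX : ¬ IsMulCommutative X) (hTI : TI X) (S : Sylow 2 X) :
    Nat.card (Sylow 2 X) = Nat.card (S : Subgroup X) + 1 := by
  obtain ⟨t, c⟩ := exists_ctx hX hTI S
  exact CfsgLib.RankOne.card_points c.setup

variable {G : Type u} {Ω : Type v} [Group G] [Finite G] [MulAction G Ω]

omit [IsSimpleGroup X] in
/-- The facts on `N` used by the counting. -/
theorem rn_of_fam {N : Subgroup G} (hN : Fam N) : RN N := by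
  obtain ⟨hs, hX, hTI⟩ := hN.facts
  haveI := hs
  exact ⟨fun S T x hx hS hT => ti_eq_of_mem hTI hx hS hT, ctx_card_sylow hX hTI,
    fun S T h => two_sylow_of_ctx hX hTI h⟩

/-- The standing hypotheses hold. -/
theorem pt_of_fam [Finite Ω] (h2 : IsMultiplyPretransitive G Ω 2) {a : Ω} {N : Subgroup G}
    (hle : N ≤ stabilizer G a) (hconj : ∀ g ∈ stabilizer G a, ∀ n ∈ N, g * n * g⁻¹ ∈ N) (hN : Fam N) :
    Pt G a N := by
  haveI : Fact (Nat.Prime 2) := ⟨Nat.prime_two⟩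
  obtain ⟨hs, hX, hTI⟩ := hN.facts
  haveI := hs
  obtain ⟨S⟩ : Nonempty (Sylow 2 N) := inferInstance
  obtain ⟨t, c⟩ := exists_ctx hX hTI S
  have hinv : ∀ x : N, Invol (x : G) → x ≠ 1 ∧ x * x = 1 := fun x hx =>
    ⟨fun e => hx.1 (by rw [e]; rfl), Subtype.ext hx.2⟩
  refine ⟨fun x y x' y' hxy hxy' => is_two_pretransitive_iff.mp h2 hxy hxy', hle, hconj,
    fun hsol => hX (IsSimpleGroup.comm_iff_isSolvable.mpr hsol |> fun h => ⟨⟨h⟩⟩), ?_, ?_, ?_⟩
  · intro x hx y hy hxi hyi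
    obtain ⟨g, hg⟩ := CfsgLib.RankOne.invol_conj c.setup (hinv ⟨x, hx⟩ hxi).1 (hinv ⟨x, hx⟩ hxi).2
      (hinv ⟨y, hy⟩ hyi).1 (hinv ⟨y, hy⟩ hyi).2
    exact ⟨g, g.2, congrArg Subtype.val hg⟩
  · set C := (Subgroup.closure {x : G | x ∈ N ∧ Invol x}).subgroupOf N
    haveI : C.Normal := ⟨fun n hn g => Subgroup.mem_subgroupOf.mpr (by
      have h1 := Subgroup.mem_subgroupOf.mp hn
      have h2 : (Subgroup.closure {x : G | x ∈ N ∧ Invol x}).map (MulAut.conj (g : G)).toMonoidHom ≤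
          Subgroup.closure {x : G | x ∈ N ∧ Invol x} := by
        rw [MonoidHom.map_closure]
        refine Subgroup.closure_mono ?_
        rintro _ ⟨x, ⟨hx, hxi⟩, rfl⟩
        exact ⟨mul_mem (mul_mem g.2 hx) (inv_mem g.2), hxi.conj _⟩
      exact h2 ⟨_, h1, rfl⟩)⟩
    have hC : C = ⊤ := (IsSimpleGroup.eq_bot_or_eq_top_of_normal C inferInstance).resolve_left fun e => by
      obtain ⟨z, hz, hz2⟩ := c.exists_inv_Z
      exact hz2.1 (Subgroup.mem_bot.mp (e ▸ Subgroup.mem_subgroupOf.mpr (Subgroup.subset_closure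
        ⟨z.2, fun e' => hz2.1 (Subtype.ext e'), congrArg Subtype.val hz2.2⟩)))
    exact Subgroup.subgroupOf_eq_top.mp hC
  · haveI : Fintype c.Z := Fintype.ofFinite _
    have h3 := c.three_le
    rw [Nat.card_eq_fintype_card] at h3
    obtain ⟨x, hx, y, hy, hxy⟩ : ∃ x : c.Z, x ≠ 1 ∧ ∃ y : c.Z, y ≠ 1 ∧ x ≠ y := by
      classical
      have : 2 ≤ ((Finset.univ : Finset c.Z).erase 1).card := by
        rw [Finset.card_erase_of_mem (Finset.mem_univ _), Finset.card_univ]; omega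
      obtain ⟨x, hx, y, hy, hxy⟩ := Finset.one_lt_card.mp this
      exact ⟨x, Finset.ne_of_mem_erase hx, y, Finset.ne_of_mem_erase hy, hxy⟩
    have hi : ∀ z : c.Z, z ≠ 1 → Invol ((z : N) : G) := fun z hz =>
      ⟨fun e => hz (Subtype.ext (Subtype.ext e)), congrArg Subtype.val (c.mem_Z.mp z.2).2⟩
    exact ⟨_, (x : N).2, _, (y : N).2, hi x hx, hi y hy,
      fun e => hxy (Subtype.ext (Subtype.ext e)),
      congrArg Subtype.val (c.central (c.Z_le x.2) (c.mem_Z.mp x.2).2 (c.Z_le y.2))⟩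

end CfsgLib.RankOnePoint
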