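import Cfsg.Agent.Lib.PSL2Klein

/-!
`PSL₂` in odd characteristic: a four-group is centralised by no non-trivial element of odd order, and the centraliser
of an involution is small.

Blueprint: `blueprint/S2208.md`, part B.
-/

set_option autoImplicit false
set_option linter.unusedSectionVars false
set_option linter.style.haveILetI false

namespace CfsgLib.RankOnePoint

open Matrix CfsgLib.PSL2Klein
open CfsgLib.PSL2 (mk)

variable {F : Type*} [Field F] [Fintype F]

local notation "SL2" => Matrix.SpecialLinearGroup (Fin 2) F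
local notation "PSL" => Matrix.ProjectiveSpecialLinearGroup (Fin 2) F

theorem psl_lift (x : PSL) : ∃ g : SL2, mk g = x := QuotientGroup.mk'_surjective _ x

theorem sl_lift_comm {g k : SL2} (h : Commute (mk k : PSL) (mk g)) : k * g = g * k ∨ k * g = -g * k := by
  have h1 : (mk (g * k) : PSL) = mk (k * g) := by rw [map_mul, map_mul]; exact h.eq.symm
  rcases mk_eq_iff.mp h1 with e | e
  · exact Or.inl e
  · exact Or.inr (by rw [e, neg_mul])

/-- An element of odd order commuting with two commuting involutions is trivial. -/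
theorem psl_four_cent (h2 : (2 : F) ≠ 0) {b c x : PSL} (hb1 : b ≠ 1) (hb : b * b = 1) (hc1 : c ≠ 1) (hc : c * c = 1)
    (hbc : b ≠ c) (hcm : Commute c b) (hxb : Commute x b) (hxc : Commute x c) (hx : Odd (orderOf x)) : x = 1 := by
  obtain ⟨g, rfl⟩ := psl_lift b
  obtain ⟨u, rfl⟩ := psl_lift c
  obtain ⟨k, rfl⟩ := psl_lift x
  have hg := (invol_iff h2).mp ⟨hb1, hb⟩
  have hu := (invol_iff h2).mp ⟨hc1, hc⟩
  have hug : u * g = -g * u := (sl_lift_comm hcm).resolve_left fun e => by
    rcases eq_or_eq_neg h2 hg hu e with e1 | e1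
    · exact hbc (mk_eq_iff.mpr (Or.inl e1))
    · exact hbc (mk_eq_iff.mpr (Or.inr e1))
  have key : ∀ w : SL2, Commute (mk k : PSL) (mk w) → k * w = w * k := by
    intro w hw
    refine (sl_lift_comm hw).resolve_right fun e => ?_
    obtain ⟨r, hr⟩ := hx
    have h4 : ∀ j : ℕ, k ^ (2 * j + 1) * w = -w * k ^ (2 * j + 1) := by
      intro j
      induction j with
      | zero => simpa using e
      | succ j ih =>
        have hkk : k * k * w = w * (k * k) := by
          rw [mul_assoc, e, neg_mul, mul_neg, ← mul_assoc, e, neg_mul, neg_mul, neg_neg, mul_assoc]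
        rw [show 2 * (j + 1) + 1 = 2 + (2 * j + 1) by ring, pow_add, mul_assoc, ih, pow_two, ← mul_assoc, mul_neg,
          hkk, neg_mul, neg_mul, mul_assoc]
    have h5 := h4 r
    rw [← hr] at h5
    have h6 : (mk (1 : SL2) : PSL) = mk (k ^ orderOf (mk k : PSL)) := by
      rw [map_one, map_pow, pow_orderOf_eq_one]
    rcases mk_eq_iff.mp h6 with e1 | e1 <;> rw [e1] at h5
    · exact not_anti_of_comm h2 (show (1 : SL2) * w = w * 1 by rw [one_mul, mul_one])
        (show (1 : SL2) * w = -w * 1 from h5)
    · exact not_anti_of_comm h2 (show (-1 : SL2) * w = w * -1 by rw [neg_one_mul, mul_neg, mul_one]) h5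
  have hkg := key g hxb
  have hku := key u hxc
  have htr : (k * g).1.trace = 0 := trace_of_anti h2 (g := u) (by
    rw [mul_assoc, show g * u = -(u * g) by rw [hug, neg_mul, neg_neg], mul_neg, ← mul_assoc, hku, neg_mul,
      mul_assoc])
  rw [← map_one (mk : SL2 →* PSL), mk_eq_iff]
  rcases eq_or_eq_neg h2 hg htr (by rw [mul_assoc, ← mul_assoc g, ← hkg, mul_assoc]) with e | e
  · exact Or.inl (mul_right_cancel (e.trans (one_mul g).symm)).symm
  · exact Or.inr (by rw [mul_right_cancel (e.trans (neg_one_mul g).symm), neg_neg])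

/-- The centraliser of an involution has at most `q + 1` elements. -/
theorem psl_cent_le (h2 : (2 : F) ≠ 0) {b : PSL} (hb1 : b ≠ 1) (hb : b * b = 1) :
    Nat.card (Subgroup.centralizer ({b} : Set PSL)) ≤ Fintype.card F + 1 := by
  classical
  obtain ⟨g, rfl⟩ := psl_lift b
  have hg := (invol_iff h2).mp ⟨hb1, hb⟩
  have h1 : Nat.card (Subgroup.centralizer ({g} : Set SL2)) ≤ Fintype.card F + 1 := by
    rcases Nat.lt_or_ge (Fintype.card F % 4) 3 with h4 | h4
    · have ho : Fintype.card F % 2 = 1 := FiniteField.odd_card_of_char_ne_two fun e => h2 (by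
        haveI : CharP F 2 := e ▸ ringChar.charP F
        exact CharTwo.two_eq_zero)
      rw [card_centralizer_one h2 hg (by omega)]; omega
    · rw [card_centralizer_three h2 hg (by omega)]
  set C := Subgroup.centralizer ({mk g} : Set PSL)
  have hone : (1 : SL2) ≠ -1 := fun e => not_anti_of_comm h2 (rfl : (1 : SL2) * 1 = 1 * 1) (by
    show (1 : SL2) * 1 = -1 * 1
    rw [← e])
  let P : Subgroup SL2 := C.comap (mk : SL2 →* PSL)
  have h3 : Nat.card P ≤ 2 * Nat.card (Subgroup.centralizer ({g} : Set SL2)) := by
    rw [← card_normalizer h2 hg]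
    exact Nat.card_le_card_of_injective
      (fun k => ⟨k.1, sl_lift_comm (show Commute (mk k.1 : PSL) (mk g) from
        Subgroup.mem_centralizer_singleton_iff.mp k.2)⟩)
      fun k k' e => Subtype.ext (congrArg Subtype.val e :)
  have h4 : 2 * Nat.card C ≤ Nat.card P := by
    have hs : ∀ c : C, ∃ k : P, mk k.1 = c.1 := fun c => by
      obtain ⟨k, hk⟩ := psl_lift c.1
      exact ⟨⟨k, show mk k ∈ C from hk ▸ c.2⟩, hk⟩
    choose s hs using hs
    have hn : ∀ c : C, -(s c).1 ∈ P := fun c => show mk (-(s c).1) ∈ C from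
      (mk_eq_iff.mpr (Or.inr (neg_neg _).symm) : (mk (-(s c).1) : PSL) = mk (s c).1) ▸ (s c).2
    have hm : ∀ c : C, (mk (-(s c).1) : PSL) = c.1 := fun c =>
      (mk_eq_iff.mpr (Or.inr (neg_neg _).symm)).trans (hs c)
    rw [show 2 * Nat.card C = Nat.card (C × Bool) by
      rw [Nat.card_prod, Nat.card_eq_fintype_card (α := Bool), Fintype.card_bool, mul_comm]]
    refine Nat.card_le_card_of_injective (fun z : C × Bool => if z.2 then s z.1 else ⟨_, hn z.1⟩) ?_
    rintro ⟨c, β⟩ ⟨c', β'⟩ e
    have e' := congrArg Subtype.val e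
    have hc : c = c' := Subtype.ext (by
      have := congrArg (fun k : SL2 => (mk k : PSL)) e'
      cases β <;> cases β' <;> simp only [Bool.false_eq_true, if_false, if_true] at this <;>
        first
          | exact (hm c).symm.trans (this.trans (hm c'))
          | exact (hs c).symm.trans (this.trans (hm c'))
          | exact (hm c).symm.trans (this.trans (hs c'))
          | exact (hs c).symm.trans (this.trans (hs c')))
    subst hc
    have hne : (s c).1 ≠ -(s c).1 := fun e1 => hone (by
      have := congrArg ((s c).1⁻¹ * ·) e1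
      simpa using this)
    cases β <;> cases β' <;> simp only [Bool.false_eq_true, if_false, if_true] at e' <;>
      first
        | rfl
        | exact absurd e' hne
        | exact absurd e'.symm hne
  omega

end CfsgLib.RankOnePoint
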