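import Cfsg.Agent.Lib.RankOnePoint.AtPoint
import Cfsg.Agent.Lib.Basic
import Cfsg.Agent.Lib.Elementary
import Cfsg.Agent.Lib.Bender.ConsReduce
import Cfsg.Agent.S0215
import Cfsg.Agent.S2775

/-!
Odd degree: by Glauberman's and Goldschmidt's theorems a minimal normal subgroup is regular, or simple, containing
`N`, with all its involutions members, and a Goldschmidt group.

Blueprint: `blueprint/S2208.md`, part B.
-/

set_option autoImplicit false
set_option linter.unusedSectionVars false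
set_option linter.style.haveILetI false

namespace CfsgLib.RankOnePoint

open MulAction Cfsg
open scoped Pointwise commutatorElement

universe u v

/-- A 2-subgroup of a subgroup of odd index lies in a Sylow subgroup inside the latter. -/
theorem exists_sylow_between {Γ : Type*} [Group Γ] [Finite Γ] {D Q : Subgroup Γ} (hD : Odd D.index)
    (hQD : Q ≤ D) (hQ : IsPGroup 2 Q) : ∃ P : Sylow 2 Γ, Q ≤ (P : Subgroup Γ) ∧ (P : Subgroup Γ) ≤ D := by
  haveI := Fact.mk Nat.prime_two
  obtain ⟨P0, hP0⟩ := (hQ.comap_of_injective D.subtype D.subtype_injective).exists_le_sylow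
  have hi : ¬ 2 ∣ ((P0 : Subgroup D).map D.subtype).index := by
    rw [Subgroup.index_map_subtype]
    intro hd
    rcases Nat.prime_two.dvd_mul.mp hd with e | e
    · exact P0.not_dvd_index e
    · exact Nat.not_even_iff_odd.mpr hD (even_iff_two_dvd.mpr e)
  refine ⟨(P0.2.map D.subtype).toSylow hi, fun x hx => ?_, fun x hx => ?_⟩
  · exact ⟨⟨x, hQD hx⟩, hP0 hx, rfl⟩
  · obtain ⟨y, -, rfl⟩ := hx
    exact y.2

variable {G : Type u} {Ω : Type v} [Group G] [MulAction G Ω] [Finite G] [Finite Ω] [FaithfulSMul G Ω]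
  {a : Ω} {N : Subgroup G} (h : Pt G a N)
include h

/-- A commutative normal subgroup is regular. -/
theorem Pt.regular_of_comm {M : Subgroup G} [hMn : M.Normal] (hM : M ≠ ⊥)
    (hc : ∀ x ∈ M, ∀ y ∈ M, x * y = y * x) : HasRegularNormal G Ω := by
  haveI := h.normal_trans hM
  refine ⟨M, hMn, fun x y => ?_, fun x r hr hx => eq_of_smul_eq_smul (α := Ω) fun y => ?_⟩
  · obtain ⟨k, hk⟩ := exists_smul_eq M x y
    exact ⟨k, k.2, hk⟩
  · obtain ⟨k, rfl⟩ := exists_smul_eq M x y
    rw [one_smul]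
    show r • (k : G) • x = (k : G) • x
    rw [← mul_smul, hc r hr k k.2, mul_smul, hx]

variable [IsSimpleGroup N] {m p e : ℕ} (hF : Facts N m p e) (h1 : H1 a N) (hn : Odd (Nat.card Ω))
include hF h1 hn

/-- A non-commutative minimal normal subgroup contains `N`. -/
theorem Pt.odd_le {M : Subgroup G} [hMn : M.Normal] (hM : M ≠ ⊥) (hcore : pPrimeCore 2 M = ⊥) : N ≤ M := by
  haveI := Fact.mk Nat.prime_two
  rcases IsSimpleGroup.eq_bot_or_eq_top_of_normal (M.subgroupOf N) inferInstance with hMN | hMN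
  swap
  · exact fun x hx => Subgroup.mem_subgroupOf.mp (hMN ▸ Subgroup.mem_top (⟨x, hx⟩ : N))
  exfalso
  obtain ⟨z, hz, hzi⟩ := h.exists_invol
  set H := M ⊔ Subgroup.zpowers z with hH
  have hzH : z ∈ H := Subgroup.mem_sup_right (Subgroup.mem_zpowers z)
  haveI := h.normal_trans hM
  haveI : IsPretransitive H Ω := ⟨fun x y => by
    obtain ⟨k, hk⟩ := exists_smul_eq M x y
    exact ⟨⟨k, Subgroup.mem_sup_left k.2⟩, hk⟩⟩
  set u : H := ⟨z, hzH⟩
  have hu2 : orderOf u = 2 := orderOf_eq_prime (by rw [pow_two]; exact Subtype.ext hzi.2)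
    fun e1 => hzi.1 (congrArg Subtype.val e1 :)
  obtain ⟨P, huP, hPD⟩ := exists_sylow_between (D := stabilizer H a) (Q := Subgroup.zpowers u)
    (by rw [index_stabilizer_of_transitive]; exact hn) (Subgroup.zpowers_le.mpr (mem_stabilizer_iff.mpr (h.fix hz)))
    (IsPGroup.of_card (n := 1) (by rw [Nat.card_zpowers, hu2, pow_one]))
  -- commutators with `z` lie in `M`
  have hcm : ∀ g ∈ H, g * z * g⁻¹ * z⁻¹ ∈ M := by
    intro g hg
    have hle : H ≤ (Subgroup.centralizer {QuotientGroup.mk' M z}).comap (QuotientGroup.mk' M) := by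
      refine sup_le (fun k hk => ?_) (Subgroup.zpowers_le.mpr (Subgroup.mem_centralizer_singleton_iff.mpr rfl))
      show QuotientGroup.mk' M k ∈ Subgroup.centralizer {QuotientGroup.mk' M z}
      rw [show QuotientGroup.mk' M k = 1 from (QuotientGroup.eq_one_iff k).mpr hk]
      exact one_mem _
    rw [← QuotientGroup.eq_one_iff (N := M)]
    show QuotientGroup.mk' M (g * z * g⁻¹ * z⁻¹) = 1
    rw [map_mul, map_mul, map_mul, map_inv, map_inv, Subgroup.mem_centralizer_singleton_iff.mp (hle hg),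
      mul_inv_cancel_right, mul_inv_cancel]
  have hiso : ∀ g : H, g * u * g⁻¹ ∈ P → g * u * g⁻¹ = u := by
    intro g hg
    have hfix : ((g : G) * z * (g : G)⁻¹) • a = a := mem_stabilizer_iff.mp (hPD hg)
    have hgN : (g : G) * z * (g : G)⁻¹ ∈ N := h1 _ (cls_conj (h.mem_cls hz hzi) g) hfix
    have h2 : (⟨_, mul_mem hgN (inv_mem hz)⟩ : N) ∈ M.subgroupOf N := Subgroup.mem_subgroupOf.mpr (hcm g g.2)
    rw [hMN, Subgroup.mem_bot] at h2
    exact Subtype.ext (mul_inv_eq_one.mp (congrArg Subtype.val h2 :))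
  obtain ⟨O, hOn, hOo, hO⟩ := Cfsg.Agent.S0215.result P u hu2 (huP (Subgroup.mem_zpowers u)) hiso
  -- the odd subgroup meets `M` trivially
  have hOM : ∀ x ∈ O.map H.subtype, x ∈ M → x = 1 := by
    haveI : ((O.map H.subtype ⊓ M).subgroupOf M).Normal := ⟨fun x hx g => by
      obtain ⟨⟨w, hw, hwx⟩, hxM⟩ := Subgroup.mem_subgroupOf.mp hx
      refine Subgroup.mem_subgroupOf.mpr ⟨⟨_, hOn.conj_mem w hw ⟨g, Subgroup.mem_sup_left g.2⟩, ?_⟩,
        (inferInstance : M.Normal).conj_mem _ hxM g⟩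
      rw [show ((g * x * g⁻¹ : M) : G) = g * x * (g : G)⁻¹ from rfl, ← show H.subtype w = (x : G) from hwx]; rfl⟩
    have hle : (O.map H.subtype ⊓ M).subgroupOf M ≤ pPrimeCore 2 M := CfsgLib.le_pPrimeCore (by
      rw [Nat.card_congr (Subgroup.subgroupOfEquivOfLe inf_le_right).toEquiv]
      refine Nat.coprime_two_right.mpr (hOo.of_dvd_nat ?_)
      rw [← Subgroup.card_map_of_injective (K := O) H.subtype_injective]
      exact Subgroup.card_dvd_of_le inf_le_left)
    intro x hx hxM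
    have h2 := hle (show (⟨x, hxM⟩ : M) ∈ _ from Subgroup.mem_subgroupOf.mpr ⟨hx, hxM⟩)
    rw [hcore, Subgroup.mem_bot] at h2
    exact congrArg Subtype.val h2
  -- so `z` centralises a transitive subgroup
  refine hzi.1 (eq_of_smul_eq_smul (α := Ω) fun c => ?_)
  obtain ⟨k, rfl⟩ := exists_smul_eq M a c
  have hk := hOM (z * k * z⁻¹ * (k : G)⁻¹)
    ⟨_, hO ⟨k, Subgroup.mem_sup_left k.2⟩, rfl⟩ (mul_mem (hMn.conj_mem _ k.2 z) (inv_mem k.2))
  rw [mul_inv_eq_one, mul_inv_eq_iff_eq_mul] at hk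
  rw [one_smul]
  show z • (k : G) • a = (k : G) • a
  rw [← mul_smul, hk, mul_smul, h.fix hz]

/-- **Odd degree: a regular normal subgroup, or a simple normal Goldschmidt group with members for involutions.** -/
theorem Pt.odd_reduce : HasRegularNormal G Ω ∨ ∃ M : Subgroup G, M.Normal ∧ N ≤ M ∧ IsSimpleGroup M ∧
    ¬ IsMulCommutative M ∧ (∀ x ∈ M, Invol x → x ∈ cls N) ∧
    ∃ (L : Type u) (_ : Group L), IsGoldschmidtGroup L ∧ Nonempty (M ≃* L) := by
  classical
  haveI := Fact.mk Nat.prime_two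
  haveI := h.pretrans
  obtain ⟨z, hz, hzi⟩ := h.exists_invol
  haveI : Nontrivial G := ⟨z, 1, hzi.1⟩
  obtain ⟨M, hMn, -, hM0, hmin⟩ := CfsgLib.exists_minimal_normal (N := (⊤ : Subgroup G)) top_ne_bot
  haveI := hMn
  haveI : Nontrivial M := (Subgroup.nontrivial_iff_ne_bot M).mpr hM0
  by_cases hc : ∀ x ∈ M, ∀ y ∈ M, x * y = y * x
  · exact Or.inl (h.regular_of_comm hM0 hc)
  -- characteristic subgroups of `M`
  have hchar : ∀ C : Subgroup M, C.Characteristic → C = ⊥ ∨ C = ⊤ := by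
    intro C hC
    haveI := hC
    rcases hmin (C.map M.subtype) inferInstance (Subgroup.map_subtype_le C) with e1 | e1
    · exact Or.inl ((Subgroup.map_eq_bot_iff_of_injective C M.subtype_injective).mp e1)
    · refine Or.inr (top_le_iff.mp fun x _ => ?_)
      obtain ⟨y, hy, hyx⟩ := e1.ge x.2
      exact Subtype.ext hyx ▸ hy
  have hperf : commutator M = ⊤ := (hchar _ inferInstance).resolve_left fun e1 => hc fun x hx y hy => by
    have h2 : ⁅(⟨x, hx⟩ : M), ⟨y, hy⟩⁆ ∈ commutator M :=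
      Subgroup.commutator_mem_commutator (Subgroup.mem_top _) (Subgroup.mem_top _)
    rw [e1, Subgroup.mem_bot, commutatorElement_eq_one_iff_mul_comm] at h2
    exact congrArg Subtype.val h2
  have hns : ¬ Group.IsSolvable M := fun hs =>
    (Group.IsSolvable.commutator_lt_top_of_nontrivial M).ne hperf
  have hcore : pPrimeCore 2 M = ⊥ := (hchar _ inferInstance).resolve_right fun e1 => hns (by
    refine CfsgLib.Bender.solvable_of_odd ?_
    have h2 := CfsgLib.card_pPrimeCore_coprime (G := M) 2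
    rw [e1, Subgroup.card_top] at h2
    exact Nat.coprime_two_right.mp h2)
  have hcent : Subgroup.center M = ⊥ := (hchar _ inferInstance).resolve_right fun e1 => hc fun x hx y hy => by
    have h2 : (⟨x, hx⟩ : M) ∈ Subgroup.center M := e1 ▸ Subgroup.mem_top _
    exact (congrArg Subtype.val (Subgroup.mem_center_iff.mp h2 ⟨y, hy⟩) :).symm
  have hNM := h.odd_le hF h1 hn hM0 hcore
  -- the strongly closed subgroup
  obtain ⟨S, hS⟩ := h.invol_sylow (y := ⟨z, hz⟩) (Subtype.ext hzi.2)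
  let Z0 : Subgroup N :=
    { carrier := {y | y ∈ (S : Subgroup N) ∧ y * y = 1}
      one_mem' := ⟨one_mem _, one_mul 1⟩
      mul_mem' := fun {x y} hx hy => ⟨mul_mem hx.1 hy.1, by
        rw [show x * y * (x * y) = x * (y * x) * y by group, ← hF.central hx.1 hx.2 hy.1,
          show x * (x * y) * y = x * x * (y * y) by group, hx.2, hy.2, one_mul]⟩
      inv_mem' := fun {x} hx => by
        rw [inv_eq_of_mul_eq_one_right hx.2]
        exact hx }
  set A := Z0.map N.subtype with hA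
  have hAN : A ≤ N := Subgroup.map_subtype_le Z0
  obtain ⟨T, hST, hTa⟩ := exists_sylow_between (D := stabilizer G a) (Q := (S : Subgroup N).map N.subtype)
    (by rw [index_stabilizer_of_transitive]; exact hn) ((Subgroup.map_subtype_le _).trans h.le) (S.2.map _)
  have hTN : (T : Subgroup G).subgroupOf N = (S : Subgroup N) :=
    S.is_maximal' (T.2.comap_of_injective N.subtype N.subtype_injective)
      fun s hs => Subgroup.mem_subgroupOf.mpr (hST ⟨s, hs, rfl⟩)
  have hsc : IsStronglyClosed A (T : Subgroup G) := by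
    refine ⟨(Subgroup.map_mono (show Z0 ≤ (S : Subgroup N) from fun y hy => hy.1)).trans hST, ?_⟩
    rintro x ⟨y, hy, rfl⟩ g hg
    rcases eq_or_ne y 1 with rfl | hy1
    · simpa using one_mem A
    have hfix : (g * (y : G) * g⁻¹) • a = a := mem_stabilizer_iff.mp (hTa hg)
    have hyi := h.invol_of hF hy1 hy.2
    have hgN : g * (y : G) * g⁻¹ ∈ N := h1 _ (cls_conj (h.mem_cls y.2 hyi) g) hfix
    exact ⟨⟨_, hgN⟩, ⟨hTN ▸ Subgroup.mem_subgroupOf.mpr hg, Subtype.ext (hyi.conj g).2⟩, rfl⟩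
  have hAc : IsMulCommutative A := by
    refine ⟨⟨?_⟩⟩
    rintro ⟨_, x, hx, rfl⟩ ⟨_, y, hy, rfl⟩
    exact Subtype.ext (congrArg Subtype.val (hF.central hx.1 hx.2 hy.1) :)
  have hK : M = Subgroup.normalClosure (A : Set G) := by
    refine ((hmin _ inferInstance (Subgroup.normalClosure_le_normal fun x hx => hNM (hAN hx))).resolve_left
      fun e1 => ?_).symm
    have h2 : z ∈ Subgroup.normalClosure (A : Set G) :=
      Subgroup.subset_normalClosure ⟨⟨z, hz⟩, ⟨hS, Subtype.ext hzi.2⟩, rfl⟩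
    rw [e1, Subgroup.mem_bot] at h2
    exact hzi.1 h2
  obtain ⟨-, hO2, ⟨T', -, hT'⟩, ι, iι, L, iL, hL, ⟨φ0⟩⟩ := Cfsg.Agent.S2775.result T A hAc hsc M hK ↥M
    (MonoidHom.id ↥M) Function.surjective_id (by rw [hcore]; exact MonoidHom.ker_id)
  rw [Subgroup.map_id] at hT'
  -- involutions of `M` are conjugate into `A`
  have hinv : ∀ x : M, x ≠ 1 → x * x = 1 → ∃ g : M, g * x * g⁻¹ ∈ A.subgroupOf M := by
    intro x _ hx
    obtain ⟨U, hU⟩ := (IsPGroup.of_card (p := 2) (G := ↥(pCore 2 ↥M ⊔ Subgroup.zpowers x)) (n := _)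
      (Classical.choose_spec (IsPGroup.iff_card.mp
        ((CfsgLib.isPGroup_pCore (G := ↥M) 2).to_sup_of_normal_left' (zpowers_two' hx)
          (Subgroup.normalizer_eq_top (H := pCore 2 ↥M) ▸ le_top))))).exists_le_sylow
    obtain ⟨g, hg⟩ := exists_smul_eq M U T'
    refine ⟨g, hT' ▸ Subgroup.mem_sup_right (Subgroup.subset_closure ⟨?_, ?_⟩)⟩
    · rw [← hg]
      exact CfsgLib.CyclicInt.conj_mem_smul_sylow (hU (Subgroup.mem_sup_right (Subgroup.mem_zpowers x)))
    · rw [pow_two, show g * x * g⁻¹ * (g * x * g⁻¹) = g * (x * x) * g⁻¹ by group, hx, mul_one, mul_inv_cancel]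
  have hcls : ∀ x ∈ M, Invol x → x ∈ cls N := by
    intro x hx hxi
    obtain ⟨g, hg⟩ := hinv ⟨x, hx⟩ (fun e1 => hxi.1 (congrArg Subtype.val e1)) (Subtype.ext hxi.2)
    exact ⟨hxi, (g : G)⁻¹, by simpa using hAN (Subgroup.mem_subgroupOf.mp hg)⟩
  -- `M` is the product
  have hc0 : Subgroup.center ↥(commutator M) = ⊥ := by
    rw [Subgroup.eq_bot_iff_forall]
    intro x hx
    have h2 : (x : M) ∈ Subgroup.center M := Subgroup.mem_center_iff.mpr fun y =>
      congrArg Subtype.val (Subgroup.mem_center_iff.mp hx ⟨y, hperf ▸ Subgroup.mem_top y⟩)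
    rw [hcent, Subgroup.mem_bot] at h2
    exact Subtype.ext h2
  let φ : M ≃* ((i : ι) → L i) := (Subgroup.topEquiv.symm.trans (MulEquiv.subgroupCongr hperf.symm)).trans
    (((QuotientGroup.quotientMulEquivOfEq hc0).trans QuotientGroup.quotientBot).symm.trans φ0)
  haveI hLfin : ∀ i, Finite (L i) := fun i => by
    haveI : Finite ((i : ι) → L i) := Finite.of_equiv M φ.toEquiv
    exact Finite.of_injective (MonoidHom.mulSingle L i) (Pi.mulSingle_injective i)
  -- each factor contains `N`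
  have hle : ∀ i, ∀ x : N, ∀ j, j ≠ i → φ ⟨x, hNM x.2⟩ j = 1 := by
    intro i
    obtain ⟨hsim, hnc, -⟩ := hL i
    haveI := hsim
    obtain ⟨w, hw⟩ : ∃ w : L i, orderOf w = 2 := by
      haveI := hLfin i
      refine exists_prime_orderOf_dvd_card' 2 ?_
      by_contra hd
      have hs := CfsgLib.Bender.solvable_of_odd (G := L i) (Nat.odd_iff.mpr (by omega))
      exact hnc ⟨⟨fun x y => IsSimpleGroup.comm_iff_isSolvable.mpr hs x y⟩⟩
    let R : Subgroup M := (MonoidHom.mulSingle L i).range.comap φ.toMonoidHom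
    have hRm : ∀ x : M, x ∈ R → ∀ j, j ≠ i → φ x j = 1 := by
      rintro x ⟨l, hl⟩ j hj
      rw [show φ x = Pi.mulSingle i l from hl.symm, Pi.mulSingle_eq_of_ne hj]
    have hRn : ∀ x ∈ R, ∀ g : M, g * x * g⁻¹ ∈ R := by
      intro x hx g
      refine ⟨φ g i * φ x i * (φ g i)⁻¹, funext fun j => ?_⟩
      show Pi.mulSingle i (φ g i * φ x i * (φ g i)⁻¹) j = φ (g * x * g⁻¹) j
      rw [map_mul, map_mul, map_inv]
      by_cases hj : j = i
      · subst hj; simp
      · simp [hj, hRm x hx j hj]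
    set y : M := φ.symm (Pi.mulSingle i w)
    have hyR : y ∈ R := ⟨w, by simp [y]⟩
    have hw1 : w ≠ 1 := fun e1 => by rw [e1, orderOf_one] at hw; omega
    have hy1 : y ≠ 1 := fun e1 => hw1 (by
      have := congrArg φ e1
      rw [MulEquiv.apply_symm_apply, map_one] at this
      simpa using congrFun this i)
    have hy2 : y * y = 1 := by
      rw [← map_mul, ← Pi.mulSingle_mul, ← pow_two, ← hw, pow_orderOf_eq_one, Pi.mulSingle_one, map_one]
    obtain ⟨g, hg⟩ := hinv y hy1 hy2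
    set R' : Subgroup N := R.comap (Subgroup.inclusion hNM) with hR'
    haveI : R'.Normal := ⟨fun x hx n => by
      show Subgroup.inclusion hNM (n * x * n⁻¹) ∈ R
      rw [map_mul, map_mul, map_inv]
      exact hRn _ hx _⟩
    have htop : R' = ⊤ := (IsSimpleGroup.eq_bot_or_eq_top_of_normal R' inferInstance).resolve_left fun e1 => by
      have h2 : (⟨_, hAN (Subgroup.mem_subgroupOf.mp hg)⟩ : N) ∈ R' := hRn y hyR g
      rw [e1, Subgroup.mem_bot] at h2
      exact hy1 (conj_eq_one_iff.mp (Subtype.ext (congrArg Subtype.val h2 :)))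
    intro x j hj
    exact hRm _ (show Subgroup.inclusion hNM x ∈ R from (htop ▸ Subgroup.mem_top x : x ∈ R')) j hj
  haveI : Subsingleton ι := ⟨fun i j => by
    by_contra hij
    refine hzi.1 (congrArg Subtype.val (φ.injective (show φ ⟨z, hNM hz⟩ = φ 1 from funext fun k => ?_)) :)
    rw [map_one, Pi.one_apply]
    by_cases hk : k = i
    · exact hle j ⟨z, hz⟩ k (by rw [hk]; exact hij)
    · exact hle i ⟨z, hz⟩ k hk⟩
  obtain ⟨i⟩ : Nonempty ι := by
    by_contra he
    rw [not_nonempty_iff] at he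
    exact hzi.1 (congrArg Subtype.val (φ.injective (Subsingleton.elim (φ ⟨z, hNM hz⟩) (φ 1))) :)
  haveI : Unique ι := uniqueOfSubsingleton i
  obtain ⟨hsim, hnc, hG⟩ := hL default
  haveI := hsim
  let ψ : M ≃* L default := φ.trans (MulEquiv.piUnique L)
  exact Or.inr ⟨M, hMn, hNM, ψ.isSimpleGroup, fun hM' => hc fun x hx y hy =>
    congrArg Subtype.val (hM'.is_comm.comm ⟨x, hx⟩ ⟨y, hy⟩), hcls, L default, iL default, hG, ⟨ψ⟩⟩

end CfsgLib.RankOnePoint
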