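import Cfsg.Agent.Lib.RankOnePoint.OddEleven
import Cfsg.Agent.Lib.RankOnePoint.OddPSL
import Cfsg.Agent.Lib.RankOnePoint.OddReduce
import Cfsg.Agent.Lib.RankOnePoint.Model
import Cfsg.Agent.Lib.GoldschmidtS3.Ree
import Cfsg.Agent.Lib.PSL2Platonic
import Cfsg.Agent.S2131
import Cfsg.Agent.Lib.StemSylow.J1

/-!
Odd degree: the Goldschmidt groups.  Rank one groups of characteristic two, groups of Ree type and Janko's group are
impossible; `PSL₂(r)` leaves `r = 11` on eleven points.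

Blueprint: `blueprint/S2208.md`, part B.
-/

set_option autoImplicit false
set_option linter.unusedSectionVars false
set_option linter.style.haveILetI false

namespace CfsgLib.RankOnePoint

open MulAction Cfsg CfsgLib.BinaryCoset
open scoped Pointwise

universe u v

theorem a4_klein : ∃ b c : alternatingGroup (Fin 4), b * b = 1 ∧ b ≠ 1 ∧ c * c = 1 ∧ c ≠ 1 ∧ b ≠ c ∧
    b * c = c * b := by decide +kernel

theorem a5_klein : ∃ b c : alternatingGroup (Fin 5), b * b = 1 ∧ b ≠ 1 ∧ c * c = 1 ∧ c ≠ 1 ∧ b ≠ c ∧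
    b * c = c * b := by
  refine ⟨⟨Equiv.swap 0 1 * Equiv.swap 2 3, Equiv.Perm.mem_alternatingGroup.mpr (by decide)⟩,
    ⟨Equiv.swap 0 2 * Equiv.swap 1 3, Equiv.Perm.mem_alternatingGroup.mpr (by decide)⟩, ?_⟩
  decide

theorem psl_klein {F : Type*} [Field F] [Fintype F] (h2 : (2 : F) ≠ 0) :
    ∃ b c : Matrix.ProjectiveSpecialLinearGroup (Fin 2) F, b * b = 1 ∧ b ≠ 1 ∧ c * c = 1 ∧ c ≠ 1 ∧ b ≠ c ∧
      b * c = c * b := by
  obtain ⟨H, ⟨f⟩⟩ := PSL2Platonic.exists_A4 (F := F) h2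
  obtain ⟨b, c, h1, h2', h3, h4, h5, h6⟩ := a4_klein
  let g := H.subtype.comp f.symm.toMonoidHom
  have hg : Function.Injective g := H.subtype_injective.comp f.symm.injective
  exact ⟨g b, g c, by rw [← map_mul, h1, map_one], (map_ne_one_iff g hg).mpr h2', by rw [← map_mul, h3, map_one],
    (map_ne_one_iff g hg).mpr h4, fun e1 => h5 (hg e1), by rw [← map_mul, h6, map_mul]⟩

theorem zmod_two_sq : ∀ w : Multiplicative (ZMod 2), w * w = 1 := by decide

theorem two_ne_of_odd_card {F : Type*} [Field F] [Fintype F] (ho : Fintype.card F % 2 = 1) : (2 : F) ≠ 0 :=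
  SL2Orders.two_ne_zero_of_odd (Nat.odd_iff.mpr ho)

theorem two_pow_le {l k o : ℕ} (ho : Odd o) (hd : 2 ^ l ∣ 2 ^ k * o) : 2 ^ l ≤ 2 ^ k :=
  Nat.le_of_dvd (Nat.two_pow_pos k) (((Nat.coprime_two_left.mpr ho).pow_left l).dvd_of_dvd_mul_right hd)

variable {G : Type u} {Ω : Type v} [Group G] [MulAction G Ω] [Finite G] [Finite Ω] [FaithfulSMul G Ω]
  {a : Ω} {N : Subgroup G} (h : Pt G a N) [IsSimpleGroup N] {m p e : ℕ} (hF : Facts N m p e) (h1 : H1 a N)
  (hn : Odd (Nat.card Ω))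

/-- The standing facts on the simple normal subgroup. -/
structure Gold (a : Ω) (N : Subgroup G) (M : Subgroup G) : Prop where
  normal : M.Normal
  le : N ≤ M
  simple : IsSimpleGroup M
  nonab : ¬ IsMulCommutative M
  trans : IsPretransitive M Ω
  cls : ∀ x ∈ M, Invol x → x ∈ cls N

variable {M : Subgroup G} (hM : Gold a N M)
include h hF h1 hn hM

omit hF hn in
/-- An involution of the subgroup fixing the point lies in `N`. -/
theorem Pt.gold_mem {x : G} (hx : x ∈ M) (hi : Invol x) (hxa : x • a = a) : x ∈ N := h1 x (hM.cls x hx hi) hxa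

/-- A Sylow subgroup at the point, meeting `N` in `S`. -/
theorem Pt.gold_sylow (S : Sylow 2 N) : ∃ T : Sylow 2 M,
    (∀ s : N, s ∈ (S : Subgroup N) → (⟨(s : G), hM.le s.2⟩ : M) ∈ (T : Subgroup M)) ∧
    (T : Subgroup M) ≤ stabilizer M a ∧
    ∀ (x : M) (hx : (x : G) ∈ N), x ∈ (T : Subgroup M) → (⟨(x : G), hx⟩ : N) ∈ (S : Subgroup N) := by
  haveI := Fact.mk Nat.prime_two
  haveI := hM.trans
  obtain ⟨T, hST, hTa⟩ := exists_sylow_between (D := stabilizer M a)
    (Q := (S : Subgroup N).map (Subgroup.inclusion hM.le)) (by rw [index_stabilizer_of_transitive]; exact hn)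
    (by rintro _ ⟨s, -, rfl⟩; exact mem_stabilizer_iff.mpr (h.fix s.2)) (S.2.map _)
  have hTN : (T : Subgroup M).comap (Subgroup.inclusion hM.le) = (S : Subgroup N) :=
    S.is_maximal' (T.2.comap_of_injective _ (Subgroup.inclusion_injective hM.le)) fun s hs => hST ⟨s, hs, rfl⟩
  exact ⟨T, fun s hs => hST ⟨s, hs, rfl⟩, hTa, fun x hx hxT => hTN ▸ (show x ∈ (T : Subgroup M) from hxT)⟩

/-- An elementary abelian 2-subgroup has at most `q` elements. -/
theorem Pt.gold_sq_le {E : Subgroup M} (hE : ∀ x ∈ E, x * x = 1) : Nat.card E ≤ 2 ^ m := by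
  haveI := Fact.mk Nat.prime_two
  obtain ⟨S⟩ : Nonempty (Sylow 2 N) := inferInstance
  obtain ⟨T, -, hTa, hTS⟩ := h.gold_sylow hF h1 hn hM S
  obtain ⟨U, hU⟩ := (show IsPGroup 2 E from fun x => ⟨1, Subtype.ext (by
    rw [pow_one, SubmonoidClass.coe_pow, pow_two]; exact hE _ x.2)⟩).exists_le_sylow
  obtain ⟨g, hg⟩ := exists_smul_eq M U T
  have hmem : ∀ x : E, ((g * x.1 * g⁻¹ : M) : G) ∈ N ∧ g * x.1 * g⁻¹ ∈ (T : Subgroup M) ∧
      g * x.1 * g⁻¹ * (g * x.1 * g⁻¹) = 1 := by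
    intro x
    have hT : g * x.1 * g⁻¹ ∈ (T : Subgroup M) := by
      rw [← hg]; exact CfsgLib.CyclicInt.conj_mem_smul_sylow (hU x.2)
    have hsq : g * x.1 * g⁻¹ * (g * x.1 * g⁻¹) = 1 := by
      rw [show g * x.1 * g⁻¹ * (g * x.1 * g⁻¹) = g * (x.1 * x.1) * g⁻¹ by group, hE _ x.2, mul_one, mul_inv_cancel]
    refine ⟨?_, hT, hsq⟩
    by_cases h' : g * x.1 * g⁻¹ = 1
    · rw [h']; exact one_mem N
    exact h.gold_mem h1 hM (g * x.1 * g⁻¹).2 ⟨fun e1 => h' (Subtype.ext e1), congrArg Subtype.val hsq⟩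
      (mem_stabilizer_iff.mp (hTa hT))
  rw [← hF.card_sq_one S]
  refine Nat.card_le_card_of_injective (fun x => ⟨⟨_, (hmem x).1⟩, hTS _ (hmem x).1 (hmem x).2.1,
    Subtype.ext (show ((g * x.1 * g⁻¹ : M) : G) * (g * x.1 * g⁻¹ : M) = 1 from congrArg Subtype.val (hmem x).2.2)⟩)
    fun x y e1 => Subtype.ext ?_
  have e2 : g * x.1 * g⁻¹ = g * y.1 * g⁻¹ := Subtype.ext (congrArg (fun w => ((w.1 : N) : G)) e1 :)
  exact mul_left_cancel (mul_right_cancel e2)

/-- An involution centralising a copy of a group with a four-group makes `q` at least eight. -/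
theorem Pt.gold_eight {L : Type*} [Group L] (f : Multiplicative (ZMod 2) × L →* M) (hf : Function.Injective f)
    {b c : L} (hb : b * b = 1) (hb1 : b ≠ 1) (hc : c * c = 1) (hc1 : c ≠ 1) (hbc : b ≠ c) (hcm : b * c = c * b) :
    8 ≤ 2 ^ m := by
  have hbcb : b * c * b = c := by rw [hcm, mul_assoc, hb, mul_one]
  have hcbc : c * b * c = b := by rw [← hcm, mul_assoc, hc, mul_one]
  let V : Subgroup L :=
    { carrier := {x | x = 1 ∨ x = b ∨ x = c ∨ x = b * c}
      one_mem' := Or.inl rfl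
      mul_mem' := by
        rintro x y (rfl | rfl | rfl | rfl) (rfl | rfl | rfl | rfl) <;>
          simp [← mul_assoc, hb, hc, hbcb, hcbc, ← hcm] <;> simp [mul_assoc, hb, hc]
      inv_mem' := by
        rintro x (rfl | rfl | rfl | rfl)
        · exact Or.inl inv_one
        · exact Or.inr (Or.inl (inv_eq_of_mul_eq_one_right hb))
        · exact Or.inr (Or.inr (Or.inl (inv_eq_of_mul_eq_one_right hc)))
        · refine Or.inr (Or.inr (Or.inr ?_))
          rw [mul_inv_rev, inv_eq_of_mul_eq_one_right hb, inv_eq_of_mul_eq_one_right hc, hcm] }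
  have hsq : ∀ x ∈ V, x * x = 1 := by
    rintro x (rfl | rfl | rfl | rfl)
    · exact one_mul 1
    · exact hb
    · exact hc
    · rw [← mul_assoc, hbcb, hc]
  let E : Subgroup M := ((⊤ : Subgroup (Multiplicative (ZMod 2))).prod V).map f
  have hE : ∀ x ∈ E, x * x = 1 := by
    rintro _ ⟨⟨x1, x2⟩, ⟨-, hx2⟩, rfl⟩
    rw [← map_mul, ← map_one f]
    exact congrArg f (Prod.ext (zmod_two_sq x1) (hsq x2 hx2))
  refine le_trans ?_ (h.gold_sq_le hF h1 hn hM hE)
  haveI : Finite L := Finite.of_injective (f.comp (MonoidHom.inr _ L)) (hf.comp fun x y e1 => (Prod.ext_iff.mp e1).2)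
  rw [Subgroup.card_map_of_injective hf, Nat.card_congr (Subgroup.prodEquiv _ _).toEquiv, Nat.card_prod,
    Subgroup.card_top, show Nat.card (Multiplicative (ZMod 2)) = 2 from
      (Nat.card_congr Multiplicative.toAdd).trans (Nat.card_zmod 2)]
  have h4 : 4 ≤ Nat.card V := by
    have hinj : Function.Injective (fun i : Fin 4 =>
        (![⟨1, Or.inl rfl⟩, ⟨b, Or.inr (Or.inl rfl)⟩, ⟨c, Or.inr (Or.inr (Or.inl rfl))⟩,
          ⟨b * c, Or.inr (Or.inr (Or.inr rfl))⟩] : Fin 4 → V) i) := by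
      have n1 : b * c ≠ 1 := fun e1 => hbc (by
        rw [← inv_eq_of_mul_eq_one_right e1, inv_eq_of_mul_eq_one_right hb])
      have n2 : b * c ≠ b := fun e1 => hc1 (mul_left_cancel (e1.trans (mul_one b).symm))
      have n3 : b * c ≠ c := fun e1 => hb1 (mul_right_cancel (e1.trans (one_mul c).symm))
      intro i j hij
      have e2 := congrArg Subtype.val hij
      fin_cases i <;> fin_cases j <;> simp [hb1, hc1, hbc, n1, n2, n3, hb1.symm, hc1.symm, hbc.symm,
        n1.symm, n2.symm, n3.symm] at e2 ⊢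
    simpa using Nat.card_le_card_of_injective _ hinj
  omega

/-- The stabiliser acts faithfully on `N` when the centraliser of a Sylow subgroup of `N` has no part of odd
order. -/
theorem Pt.gold_act (hX : ∀ x : M, (x : G) • a = a → Odd (orderOf x) → (∀ y ∈ N, (x : G) * y = y * x) → x = 1)
    {x : M} (hxa : (x : G) • a = a) (hx : h.act ⟨(x : G), mem_stabilizer_iff.mpr hxa⟩ = 1) : x = 1 := by
  haveI := Fact.mk Nat.prime_two
  have hcN : ∀ y ∈ N, (x : G) * y = y * x := fun y hy => by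
    have h2 := congrArg Subtype.val (DFunLike.congr_fun hx (⟨y, hy⟩ : N))
    rw [h.act_apply, MulAut.one_apply] at h2
    exact mul_inv_eq_iff_eq_mul.mp h2
  refine hX x hxa ?_ hcN
  rw [← Nat.not_even_iff_odd, even_iff_two_dvd]
  intro hd
  obtain ⟨k, hk⟩ := hd
  set y : M := x ^ k
  have hk0 : 0 < k := by
    rcases Nat.eq_zero_or_pos k with rfl | hk0
    · exact absurd hk (by have := orderOf_pos x; omega)
    · exact hk0
  have hyo : orderOf y = 2 := by
    rw [orderOf_pow' x (by omega : k ≠ 0), hk, Nat.gcd_mul_left_left, Nat.mul_div_cancel _ hk0]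
  have hy1 : y ≠ 1 := fun e1 => by rw [e1, orderOf_one] at hyo; omega
  have hy2 : y * y = 1 := by rw [← pow_two, ← hyo, pow_orderOf_eq_one]
  have hya : (y : G) • a = a := by
    rw [SubmonoidClass.coe_pow]
    exact mem_stabilizer_iff.mp (pow_mem (mem_stabilizer_iff.mpr hxa) k)
  have hyN := h.gold_mem h1 hM y.2 ⟨fun e1 => hy1 (Subtype.ext e1), congrArg Subtype.val hy2⟩ hya
  have hyc : (⟨(y : G), hyN⟩ : N) ∈ Subgroup.center N := Subgroup.mem_center_iff.mpr fun w => Subtype.ext (by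
    show (w : G) * (y : G) = (y : G) * w
    rw [SubmonoidClass.coe_pow]
    exact ((show Commute (x : G) w from hcN w w.2).pow_left k).eq.symm)
  rw [(IsSimpleGroup.eq_bot_or_eq_top_of_normal (Subgroup.center N) inferInstance).resolve_right fun e2 =>
    hF.nonab ⟨⟨fun u w => (Subgroup.mem_center_iff.mp (e2 ▸ Subgroup.mem_top u : u ∈ Subgroup.center N) w).symm⟩⟩,
    Subgroup.mem_bot] at hyc
  exact hy1 (Subtype.ext (congrArg Subtype.val hyc :))

/-- Rank one groups of characteristic two. -/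
theorem Pt.gold_fam (hfam : Fam M) : False := by
  haveI := Fact.mk Nat.prime_two
  haveI := hM.trans
  obtain ⟨-, hna, hTI⟩ := hfam.facts
  haveI := hM.simple
  obtain ⟨S⟩ : Nonempty (Sylow 2 N) := inferInstance
  obtain ⟨S', hS'⟩ := two_le_sylow hF S
  obtain ⟨T, hT1, hTa, -⟩ := h.gold_sylow hF h1 hn hM S
  obtain ⟨T', hT1', hTa', hT2'⟩ := h.gold_sylow hF h1 hn hM S'
  have hne : T ≠ T' := fun e1 => by
    obtain ⟨z, hz, hz1, hz2⟩ := h.exists_invol_sylow hF S
    have h2 := hT1 z hz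
    rw [e1] at h2
    exact hS' (hF.eq_of_mem hz1 (hT2' _ z.2 h2) hz)
  have htop := two_sylow_of_ctx hna hTI hne
  obtain ⟨b, hb⟩ := h.exists_ne
  obtain ⟨k, hk⟩ := exists_smul_eq M a b
  have hka : k ∈ stabilizer M a := (htop.ge.trans (sup_le hTa hTa')) (Subgroup.mem_top k)
  exact hb (hk.symm.trans (mem_stabilizer_iff.mp hka))

/-- Janko's group. -/
theorem Pt.gold_j1 {L : Type u} [Group L] (ψ : M ≃* L) (hL : Cfsg.Spor.IsoJ1 L) : False := by
  haveI := Fact.mk Nat.prime_two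
  obtain ⟨f⟩ := hL
  obtain ⟨t, -, ⟨ε⟩⟩ := Cfsg.Agent.S2131.result
  obtain ⟨b, c, hb, hb1, hc, hc1, hbc, hcm⟩ := a5_klein
  let φ : Multiplicative (ZMod 2) × alternatingGroup (Fin 5) →* M := ((ψ.trans f).symm.toMonoidHom.comp
    (Subgroup.centralizer ({t} : Set ↥Cfsg.Spor.J1)).subtype).comp ε.symm.toMonoidHom
  have hφ : Function.Injective φ :=
    ((ψ.trans f).symm.injective.comp Subtype.val_injective).comp ε.symm.injective
  have h8 := h.gold_eight hF h1 hn hM φ hφ hb hb1 hc hc1 hbc hcm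
  have hMc : Nat.card M = 175560 := by
    rw [Nat.card_congr (ψ.trans f).toEquiv, CfsgLib.J1.card_J1]
  have hdvd : Nat.card N ∣ 175560 := hMc ▸ Subgroup.card_dvd_of_le hM.le
  obtain ⟨S⟩ : Nonempty (Sylow 2 N) := inferInstance
  obtain ⟨l, hl⟩ := S.2.exists_card_eq
  rw [hF.card_sylow] at hl
  have hp8 : p ≤ 8 := by
    rw [hl, show (8 : ℕ) = 2 ^ 3 by norm_num]
    refine two_pow_le (o := 21945) ⟨10972, rfl⟩ ?_
    rw [show (2 : ℕ) ^ 3 * 21945 = 175560 by norm_num, ← hl, ← hF.card_sylow S]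
    exact (Subgroup.card_subgroup_dvd_card _).trans hdvd
  have hqp := hF.q_le_p
  have hm3 : m = 3 := Nat.pow_right_injective le_rfl (show 2 ^ m = 2 ^ 3 by omega)
  have he : e = 1 := by
    rcases hF.kind with ⟨-, he⟩ | ⟨-, -, he⟩ | ⟨hk, -⟩
    · exact he
    · exact he
    · rw [hm3] at hk; norm_num at hk; omega
  rw [h.card_N hF, hm3, he, show p = 8 by omega] at hdvd
  norm_num at hdvd

/-- Groups of Ree type. -/
theorem Pt.gold_ree {L : Type u} [Group L] (ψ : M ≃* L) (hL : IsReeType L) : False := by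
  classical
  haveI := Fact.mk Nat.prime_two
  haveI : Finite L := Finite.of_equiv M ψ.toEquiv
  obtain ⟨-, -, t, K, n, hn1, ht, hidx, hprod, F, iF, iFF, hq, ⟨eK⟩⟩ := hL
  obtain ⟨e0⟩ := CfsgLib.GoldschmidtS3.equiv_of_internal ht hprod
  set C := Subgroup.centralizer ({t} : Set L)
  let ε : C ≃* Multiplicative (ZMod 2) × Matrix.ProjectiveSpecialLinearGroup (Fin 2) F :=
    e0.trans (MulEquiv.prodCongr (MulEquiv.refl _) eK)
  obtain ⟨o, hoo, -, hcard⟩ := CfsgLib.GoldschmidtS3.psl_three_card hq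
  have hodd : Fintype.card F % 2 = 1 := by rw [hq, Nat.pow_mod]; simp
  have h2F := two_ne_of_odd_card hodd
  -- so `N` is `L₂(8)`
  obtain ⟨b, c, hb, hb1, hc, hc1, hbc, hcm⟩ := psl_klein h2F
  let φ : Multiplicative (ZMod 2) × Matrix.ProjectiveSpecialLinearGroup (Fin 2) F →* M :=
    (ψ.symm.toMonoidHom.comp C.subtype).comp ε.symm.toMonoidHom
  have hφ : Function.Injective φ := (ψ.symm.injective.comp Subtype.val_injective).comp ε.symm.injective
  have h8 := h.gold_eight hF h1 hn hM φ hφ hb hb1 hc hc1 hbc hcm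
  have hCc : Nat.card C = 8 * (3 ^ (2 * n + 1) * o) := by
    rw [Nat.card_congr ε.toEquiv, Nat.card_prod, hcard, show Nat.card (Multiplicative (ZMod 2)) = 2 from
      (Nat.card_congr Multiplicative.toAdd).trans (Nat.card_zmod 2)]
    ring
  obtain ⟨S⟩ : Nonempty (Sylow 2 N) := inferInstance
  obtain ⟨l, hl⟩ := S.2.exists_card_eq
  rw [hF.card_sylow] at hl
  have hp8 : p ≤ 8 := by
    rw [hl, show (8 : ℕ) = 2 ^ 3 by norm_num]
    refine two_pow_le (o := 3 ^ (2 * n + 1) * o * C.index) (((Odd.pow (by decide)).mul hoo).mul hidx) ?_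
    rw [show 2 ^ 3 * (3 ^ (2 * n + 1) * o * C.index) = Nat.card C * C.index by rw [hCc]; ring,
      Subgroup.card_mul_index, ← Nat.card_congr ψ.toEquiv, ← hl, ← hF.card_sylow S]
    exact (Subgroup.card_subgroup_dvd_card _).trans (Subgroup.card_dvd_of_le hM.le)
  have hqp := hF.q_le_p
  have hpm : p = 2 ^ m := by omega
  have hm3 : m = 3 := Nat.pow_right_injective le_rfl (show 2 ^ m = 2 ^ 3 by omega)
  -- a copy of `t` in `S`
  set t' : M := ψ.symm t
  have htψ : ψ t' = t := ψ.apply_symm_apply t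
  have ht2 : t * t = 1 := by rw [← pow_two, ← ht, pow_orderOf_eq_one]
  have ht1 : t ≠ 1 := fun e1 => by rw [e1, orderOf_one] at ht; omega
  obtain ⟨T, hT1, hTa, hTS⟩ := h.gold_sylow hF h1 hn hM S
  have ht'2 : t' * t' = 1 := by rw [← map_mul, ht2, map_one]
  obtain ⟨U, hU⟩ := (zpowers_two' ht'2).exists_le_sylow
  obtain ⟨g, hg⟩ := exists_smul_eq M U T
  have hzT : g * t' * g⁻¹ ∈ (T : Subgroup M) := by
    rw [← hg]; exact CfsgLib.CyclicInt.conj_mem_smul_sylow (hU (Subgroup.mem_zpowers t'))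
  set z : M := g * t' * g⁻¹ with hz
  have hz1 : z ≠ 1 := fun e1 => ht1 (by
    rw [← htψ, conj_eq_one_iff.mp e1, map_one])
  have hz2 : z * z = 1 := by
    rw [hz, show g * t' * g⁻¹ * (g * t' * g⁻¹) = g * (t' * t') * g⁻¹ by group, ht'2, mul_one, mul_inv_cancel]
  have hzi : Invol (z : G) := ⟨fun e1 => hz1 (Subtype.ext e1), congrArg Subtype.val hz2⟩
  have hzN : (z : G) ∈ N := h.gold_mem h1 hM z.2 hzi (mem_stabilizer_iff.mp (hTa hzT))
  have hzS : (⟨(z : G), hzN⟩ : N) ∈ (S : Subgroup N) := hTS z hzN hzT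
  -- conjugation into `C`
  have hinC : ∀ y : M, y * z = z * y → ψ (g⁻¹ * y * g) ∈ C := fun y hy => by
    rw [Subgroup.mem_centralizer_singleton_iff, ← htψ, ← map_mul, ← map_mul,
      show g⁻¹ * y * g * t' = g⁻¹ * (y * z) * g by rw [hz]; group, hy]
    congr 1; rw [hz]; group
  have hX : ∀ x : M, (x : G) • a = a → Odd (orderOf x) → (∀ y ∈ N, (x : G) * y = y * x) → x = 1 := by
    intro x _ hxo hxN
    have hsc : ∀ s : (S : Subgroup N), (⟨((s : N) : G), hM.le s.1.2⟩ : M) * z = z * ⟨_, hM.le s.1.2⟩ := fun s =>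
      Subtype.ext (congrArg Subtype.val (hF.central hzS (Subtype.ext hzi.2) s.2).symm :)
    let ι : (S : Subgroup N) →* M := (Subgroup.inclusion hM.le).comp (S : Subgroup N).subtype
    let γ : (S : Subgroup N) →* C :=
      (ψ.toMonoidHom.comp ((MulAut.conj g⁻¹).toMonoidHom.comp ι)).codRestrict C fun s => by
        have := hinC (ι s) (hsc s)
        simpa using this
    let lam : (S : Subgroup N) →* Matrix.ProjectiveSpecialLinearGroup (Fin 2) F :=
      (MonoidHom.snd _ _).comp (ε.toMonoidHom.comp γ)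
    have hγinj : Function.Injective γ := fun s s' e1 => by
      have h2 : ι s = ι s' := (MulAut.conj g⁻¹).injective (ψ.injective (congrArg Subtype.val e1 :))
      exact Subtype.ext (Subtype.ext (congrArg (fun w : M => (w : G)) h2 :))
    have hfib : ∀ l0, Nat.card {s : (S : Subgroup N) // lam s = l0} ≤ 2 := fun l0 => by
      refine le_trans (Nat.card_le_card_of_injective (fun s => (ε (γ s.1)).1) fun s s' e1 => Subtype.ext (hγinj
        (ε.injective (Prod.ext e1 (s.2.trans s'.2.symm))))) ?_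
      exact le_of_eq ((Nat.card_congr Multiplicative.toAdd).trans (Nat.card_zmod 2))
    -- two different involutions in the image
    obtain ⟨s1, s2, hs1, hs2, hs12⟩ : ∃ s1 s2, lam s1 ≠ 1 ∧ lam s2 ≠ 1 ∧ lam s1 ≠ lam s2 := by
      by_contra hcon
      push Not at hcon
      obtain ⟨l0, hl0⟩ : ∃ l0, ∀ s, lam s = 1 ∨ lam s = l0 := by
        by_cases hall : ∃ s, lam s ≠ 1
        · obtain ⟨s1, hs1⟩ := hall
          exact ⟨lam s1, fun s => or_iff_not_imp_left.mpr fun hs => (hcon s1 s hs1 hs).symm⟩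
        · push Not at hall
          exact ⟨1, fun s => Or.inl (hall s)⟩
      have hle : Nat.card (S : Subgroup N) ≤ 4 := by
        calc Nat.card (S : Subgroup N)
            ≤ Nat.card ({s : (S : Subgroup N) // lam s = 1} ⊕ {s : (S : Subgroup N) // lam s = l0}) :=
              Nat.card_le_card_of_surjective (Sum.elim Subtype.val Subtype.val) fun s => by
                rcases hl0 s with e1 | e1
                · exact ⟨Sum.inl ⟨s, e1⟩, rfl⟩
                · exact ⟨Sum.inr ⟨s, e1⟩, rfl⟩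
          _ ≤ 4 := by
              rw [Nat.card_sum]
              have := hfib 1
              have := hfib l0
              omega
      rw [hF.card_sylow] at hle
      omega
    have hlsq : ∀ s, lam s * lam s = 1 := fun s => by
      rw [← map_mul, show s * s = 1 from Subtype.ext (hF.sq_eq_one_of_elem hpm s.2), map_one]
    have hxC : ψ (g⁻¹ * x * g) ∈ C := hinC x (Subtype.ext (hxN _ hzN))
    set lx := (ε ⟨_, hxC⟩).2
    have hxl : ∀ s, Commute lx (lam s) := fun s => by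
      have hcm : (⟨ψ (g⁻¹ * x * g), hxC⟩ : C) * γ s = γ s * ⟨_, hxC⟩ := by
        refine Subtype.ext ?_
        show ψ (g⁻¹ * x * g) * ψ (g⁻¹ * ι s * g⁻¹⁻¹) = ψ (g⁻¹ * ι s * g⁻¹⁻¹) * ψ (g⁻¹ * x * g)
        have hxs : x * ι s = ι s * x := Subtype.ext (hxN _ (s : N).2)
        rw [← map_mul, ← map_mul, inv_inv, show g⁻¹ * x * g * (g⁻¹ * ι s * g) = g⁻¹ * (x * ι s) * g by group, hxs]
        congr 1; group
      exact (show Commute (⟨ψ (g⁻¹ * x * g), hxC⟩ : C) (γ s) from hcm).map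
        ((MonoidHom.snd _ _).comp ε.toMonoidHom)
    have hxo' : Odd (orderOf (⟨ψ (g⁻¹ * x * g), hxC⟩ : C)) := by
      rw [Subgroup.orderOf_mk, MulEquiv.orderOf_eq,
        show g⁻¹ * x * g = MulAut.conj g⁻¹ x by simp, MulEquiv.orderOf_eq]
      exact hxo
    have hlxo : Odd (orderOf lx) := hxo'.of_dvd_nat (orderOf_map_dvd
      ((MonoidHom.snd _ _).comp ε.toMonoidHom) (⟨ψ (g⁻¹ * x * g), hxC⟩ : C))
    have hl1 : lx = 1 := psl_four_cent h2F hs1 (hlsq s1) hs2 (hlsq s2) hs12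
      (show Commute (lam s2) (lam s1) by
        show lam s2 * lam s1 = lam s1 * lam s2
        rw [← map_mul, ← map_mul]
        exact congrArg lam (Subtype.ext (hF.central s2.2 (hF.sq_eq_one_of_elem hpm s2.2) s1.2)))
      (hxl s1) (hxl s2) hlxo
    have h2x : (⟨ψ (g⁻¹ * x * g), hxC⟩ : C) ^ 2 = 1 := ε.injective (by
      rw [map_pow, map_one]
      exact Prod.ext (by rw [Prod.pow_fst, pow_two]; exact zmod_two_sq _) (by rw [Prod.pow_snd]; show lx ^ 2 = 1; rw [hl1, one_pow]))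
    have h3 := orderOf_dvd_of_pow_eq_one h2x
    have h4 : orderOf (⟨ψ (g⁻¹ * x * g), hxC⟩ : C) = 1 := by
      rcases (Nat.dvd_prime Nat.prime_two).mp h3 with e1 | e1
      · exact e1
      · rw [e1] at hxo'; exact absurd hxo' (by decide)
    have h5 : ψ (g⁻¹ * x * g) = 1 := congrArg Subtype.val (orderOf_eq_one_iff.mp h4)
    have h6 : g⁻¹ * x * g = 1 := ψ.injective (h5.trans (map_one ψ).symm)
    rw [show x = g * (g⁻¹ * x * g) * g⁻¹ by group, h6, mul_one, mul_inv_cancel]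
  -- the centraliser is too large
  set Cz := Subgroup.centralizer ({z} : Set M)
  haveI := hM.normal
  haveI := hM.trans
  have hcnt := h.cent_count h1 hM.le hzN hzi
  have hstab : Nat.card (stabilizer Cz a) ≤ m * p := by
    refine le_trans (Nat.card_le_card_of_injective (β := {α : MulAut N // α ⟨(z : G), hzN⟩ = ⟨(z : G), hzN⟩})
      (fun x => ⟨h.act ⟨((x.1.1 : M) : G), x.2⟩, Subtype.ext ?_⟩) fun x y exy => ?_)
      (hF.card_aut_fix hpm hzS fun e1 => hzi.1 (congrArg Subtype.val e1 :))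
    · rw [h.act_apply]
      have := congrArg Subtype.val (Subgroup.mem_centralizer_singleton_iff.mp x.1.2)
      exact mul_inv_eq_iff_eq_mul.mpr this
    · have e2 : h.act ⟨((x.1.1 : M) : G), x.2⟩ = h.act ⟨((y.1.1 : M) : G), y.2⟩ := congrArg Subtype.val exy
      have hd : (((x.1.1)⁻¹ * y.1.1 : M) : G) • a = a := by
        show ((x.1.1 : G)⁻¹ * (y.1.1 : G)) • a = a
        rw [mul_smul, show (y.1.1 : G) • a = a from y.2, inv_smul_eq_iff, show (x.1.1 : G) • a = a from x.2]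
      have h3 := h.gold_act hF h1 hn hM hX hd (by
        rw [show (⟨(((x.1.1)⁻¹ * y.1.1 : M) : G), mem_stabilizer_iff.mpr hd⟩ : stabilizer G a) =
          (⟨((x.1.1 : M) : G), x.2⟩ : stabilizer G a)⁻¹ * ⟨((y.1.1 : M) : G), y.2⟩ from Subtype.ext rfl,
          map_mul, map_inv, e2, inv_mul_cancel])
      exact Subtype.ext (Subtype.ext (inv_mul_eq_one.mp h3))
  have hCz : Nat.card Cz = Nat.card C := by
    refine Nat.card_congr (((MulAut.conj g⁻¹).trans ψ).toEquiv.subtypeEquiv fun y => ?_)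
    show y ∈ Cz ↔ ψ (g⁻¹ * y * g⁻¹⁻¹) ∈ C
    rw [inv_inv, Subgroup.mem_centralizer_singleton_iff]
    refine ⟨hinC y, fun hy => ?_⟩
    rw [Subgroup.mem_centralizer_singleton_iff, ← htψ, ← map_mul, ← map_mul] at hy
    have := congrArg (fun w => g * w * g⁻¹) (ψ.injective hy)
    rw [hz]
    convert this using 1 <;> group
  have hf63 := h.numF_le h1 (h.mem_cls hzN hzi)
  rw [h.numI_val hF, hm3, show p = 8 by omega] at hf63
  rw [hm3, show p = 8 by omega] at hstab
  rw [hCz, hCc] at hcnt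
  have h27 : 27 * 728 ≤ 3 ^ (2 * n + 1) * (8 * o) := by
    have hc2 := CfsgLib.GoldschmidtS3.psl_card (F := F)
    rw [hcard, hq] at hc2
    have hqq : 27 ≤ 3 ^ (2 * n + 1) := le_trans (by norm_num : 27 ≤ 3 ^ 3) (Nat.pow_le_pow_right (by norm_num) (by omega))
    have h27' : 728 ≤ (3 ^ (2 * n + 1)) ^ 2 - 1 := by
      have := Nat.pow_le_pow_left hqq 2
      omega
    rw [Nat.gcd_eq_left (show 2 ∣ 3 ^ (2 * n + 1) - 1 by rw [hq] at hodd; omega)] at hc2
    calc 27 * 728 ≤ 3 ^ (2 * n + 1) * ((3 ^ (2 * n + 1)) ^ 2 - 1) := Nat.mul_le_mul hqq h27'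
      _ = _ := by rw [← hc2]; ring
  have hbound : numF Ω (z : G) * Nat.card (stabilizer Cz a) ≤ 63 * 24 := Nat.mul_le_mul hf63 hstab
  rw [← hcnt] at hbound
  nlinarith

/-- `PSL₂(r)`: eleven points. -/
theorem Pt.gold_psl {L : Type u} [Group L] (ψ : M ≃* L) {F : Type} [Field F] [Fintype F]
    (h8 : Fintype.card F % 8 = 3 ∨ Fintype.card F % 8 = 5) (e0 : L ≃* Matrix.ProjectiveSpecialLinearGroup (Fin 2) F)
    (hf : ∀ z ∈ cls N, 2 ≤ numF Ω z) :
    Nat.card Ω = 11 ∧ Fintype.card F = 11 ∧ M = ⊤ ∧ p = 4 := by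
  classical
  haveI := Fact.mk Nat.prime_two
  haveI := hM.trans
  haveI := hM.normal
  haveI := hM.simple
  let θ : M ≃* Matrix.ProjectiveSpecialLinearGroup (Fin 2) F := ψ.trans e0
  have h2F := two_ne_of_odd_card (F := F) (by omega)
  have hc := CfsgLib.GoldschmidtS3.psl_card (F := F)
  rw [Nat.gcd_eq_left (show 2 ∣ Fintype.card F - 1 by omega), ← Nat.card_congr θ.toEquiv] at hc
  obtain ⟨r, hr⟩ : ∃ r, r = Fintype.card F := ⟨_, rfl⟩
  rw [← hr] at hc h8
  obtain ⟨o, hoo, ho⟩ : ∃ o, Odd o ∧ Nat.card M = 2 ^ 2 * o := by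
    obtain ⟨k, c, hc', hrk⟩ : ∃ k c, (c = 3 ∨ c = 5) ∧ r = 8 * k + c := ⟨r / 8, r % 8, h8, by omega⟩
    obtain ⟨w, hw, hwr⟩ : ∃ w, Odd w ∧ r ^ 2 - 1 = 8 * w := by
      rcases hc' with rfl | rfl
      · exact ⟨(4 * k + 1) * (2 * k + 1), Odd.mul ⟨2 * k, by ring⟩ ⟨k, by ring⟩, by
          rw [hrk, show (8 * k + 3) ^ 2 = 8 * ((4 * k + 1) * (2 * k + 1)) + 1 by ring, Nat.add_sub_cancel]⟩
      · exact ⟨(2 * k + 1) * (4 * k + 3), Odd.mul ⟨k, by ring⟩ ⟨2 * k + 1, by ring⟩, by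
          rw [hrk, show (8 * k + 5) ^ 2 = 8 * ((2 * k + 1) * (4 * k + 3)) + 1 by ring, Nat.add_sub_cancel]⟩
    refine ⟨r * w, (Nat.odd_iff.mpr (by omega)).mul hw, ?_⟩
    rw [hwr] at hc
    refine Nat.eq_of_mul_eq_mul_left two_pos ?_
    rw [hc]; ring
  obtain ⟨S⟩ : Nonempty (Sylow 2 N) := inferInstance
  obtain ⟨l, hl⟩ := S.2.exists_card_eq
  rw [hF.card_sylow] at hl
  have hdvd : Nat.card N ∣ Nat.card M := Subgroup.card_dvd_of_le hM.le
  have hp4 : p ≤ 4 := by
    rw [hl, show (4 : ℕ) = 2 ^ 2 by norm_num]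
    refine two_pow_le hoo ?_
    rw [← ho, ← hl, ← hF.card_sylow S]
    exact (Subgroup.card_subgroup_dvd_card _).trans hdvd
  have hqp := hF.q_le_p
  have hq4 := hF.q_four
  have hm2 : m = 2 := Nat.pow_right_injective le_rfl (show 2 ^ m = 2 ^ 2 by omega)
  obtain rfl : p = 4 := by omega
  have he : e = 1 := by
    rcases hF.kind with ⟨-, he⟩ | ⟨-, -, he⟩ | ⟨hk, -⟩
    · exact he
    · exact he
    · rw [hm2] at hk; norm_num at hk
  have hpm : 4 = 2 ^ m := by rw [hm2]; rfl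
  have h60 : Nat.card N = 60 := by rw [h.card_N hF, hm2, he]; rfl
  have hI : numI N = 15 := by rw [h.numI_val hF, hm2]; rfl
  -- the stabiliser is `N`
  obtain ⟨s, hs, hs1, hs2⟩ := h.exists_invol_sylow hF S
  obtain ⟨s', hs', hs1', hss'⟩ : ∃ s', s' ∈ (S : Subgroup N) ∧ s' ≠ 1 ∧ s' ≠ s := by
    by_contra hcon
    push Not at hcon
    have hle : Nat.card (S : Subgroup N) ≤ 2 := by
      calc Nat.card (S : Subgroup N) ≤ Nat.card Bool := Nat.card_le_card_of_surjective
            (fun β : Bool => if β then (1 : (S : Subgroup N)) else ⟨s, hs⟩) fun w => by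
              by_cases hw : (w : N) = 1
              · exact ⟨true, Subtype.ext hw.symm⟩
              · exact ⟨false, Subtype.ext (hcon w w.2 hw).symm⟩
        _ = 2 := by rw [Nat.card_eq_fintype_card, Fintype.card_bool]
    rw [hF.card_sylow] at hle
    omega
  let ι : N →* Matrix.ProjectiveSpecialLinearGroup (Fin 2) F := θ.toMonoidHom.comp (Subgroup.inclusion hM.le)
  have hι : Function.Injective ι := θ.injective.comp (Subgroup.inclusion_injective hM.le)
  have hX : ∀ x : M, (x : G) • a = a → Odd (orderOf x) → (∀ y ∈ N, (x : G) * y = y * x) → x = 1 := by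
    intro x _ hxo hxN
    have hcm : ∀ y : N, Commute (θ x) (ι y) := fun y =>
      (show Commute x (Subgroup.inclusion hM.le y) from Subtype.ext (hxN y y.2)).map θ.toMonoidHom
    have := psl_four_cent h2F ((map_ne_one_iff ι hι).mpr hs1) (by rw [← map_mul, hs2, map_one])
      ((map_ne_one_iff ι hι).mpr hs1') (by rw [← map_mul, hF.sq_eq_one_of_elem hpm hs', map_one])
      (fun e1 => hss' (hι e1).symm) ((show Commute s' s from (hF.central hs hs2 hs').symm).map ι)
      (hcm s) (hcm s') (by rw [MulEquiv.orderOf_eq]; exact hxo)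
    exact θ.injective (this.trans (map_one θ).symm)
  set D := stabilizer M a
  let ρ : D →* MulAut N := h.act.comp
    { toFun := fun x => ⟨((x.1 : M) : G), mem_stabilizer_iff.mpr x.2⟩
      map_one' := rfl
      map_mul' := fun _ _ => rfl }
  have hρ : Function.Injective ρ := (injective_iff_map_eq_one ρ).mpr fun x hx =>
    Subtype.ext (h.gold_act hF h1 hn hM hX (x := x.1) x.2 hx)
  have hD120 : Nat.card D ∣ 120 :=
    (Subgroup.card_dvd_of_injective ρ hρ).trans (card_mulAut_dvd hF.nonab hF.card_points)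
  set NM := N.subgroupOf M
  have hNMc : Nat.card NM = 60 := by rw [Nat.card_congr (Subgroup.subgroupOfEquivOfLe hM.le).toEquiv, h60]
  have hND : NM ≤ D := fun x hx => mem_stabilizer_iff.mpr (h.fix (Subgroup.mem_subgroupOf.mp hx))
  have hD : Nat.card D = 60 := by
    obtain ⟨j, hj⟩ := Subgroup.card_dvd_of_le hND
    obtain ⟨i, hi⟩ := (Subgroup.card_subgroup_dvd_card D)
    rw [hNMc] at hj
    have hle := Nat.le_of_dvd (by norm_num) hD120
    have hpos : 0 < Nat.card D := Nat.card_pos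
    have : j ≤ 2 := by omega
    have hj0 : j ≠ 0 := fun e1 => by rw [e1] at hj; omega
    by_contra hne
    have hj2 : j = 2 := by omega
    rw [ho, hj, hj2] at hi
    obtain ⟨w, hw⟩ := hoo
    omega
  have hDN : D = NM := (Subgroup.eq_of_le_of_card_ge hND (by rw [hD, hNMc])).symm
  have hnM : Nat.card M = Nat.card Ω * 60 := by
    rw [← Subgroup.card_mul_index D, index_stabilizer_of_transitive, hD, mul_comm]
  -- the counts
  have hsi := h.invol_of hF hs1 hs2
  set zM : M := Subgroup.inclusion hM.le s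
  have hsc := h.mem_cls s.2 hsi
  have hcnt := h.cent_count h1 hM.le (z := zM) s.2 hsi
  have h4f : 4 * numF Ω (s : G) ≤ r + 1 := by
    have hle : Nat.card (Subgroup.centralizer ({zM} : Set M)) ≤ r + 1 := by
      rw [hr]
      refine le_trans (le_of_eq ?_) (psl_cent_le h2F (b := θ zM) ((map_ne_one_iff ι hι).mpr hs1)
        (show ι s * ι s = 1 by rw [← map_mul, hs2, map_one]))
      refine Nat.card_congr (θ.toEquiv.subtypeEquiv fun y => ?_)
      show y ∈ Subgroup.centralizer {zM} ↔ θ y ∈ Subgroup.centralizer {θ zM}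
      rw [Subgroup.mem_centralizer_singleton_iff, Subgroup.mem_centralizer_singleton_iff, ← map_mul, ← map_mul,
        θ.injective.eq_iff]
    have h4 : 4 ≤ Nat.card (stabilizer (Subgroup.centralizer ({zM} : Set M)) a) := by
      rw [← hF.card_sylow S]
      refine Nat.card_le_card_of_injective (fun w => ⟨⟨Subgroup.inclusion hM.le (w : N),
        Subgroup.mem_centralizer_singleton_iff.mpr ?_⟩, mem_stabilizer_iff.mpr (h.fix (w : N).2)⟩) fun w w' e1 => ?_
      · exact (congrArg (Subgroup.inclusion hM.le) (hF.central hs hs2 w.2).symm :).trans rfl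
      · exact Subtype.ext (Subgroup.inclusion_injective hM.le (congrArg (fun v => v.1.1) e1 :))
    have hf' : numF Ω (s : G) * 4 ≤ r + 1 := le_trans (Nat.mul_le_mul_left _ h4) (hcnt ▸ hle :)
    omega
  obtain ⟨b, hb⟩ := h.exists_ne
  haveI : Nontrivial Ω := ⟨b, a, hb⟩
  have hn2 : 2 ≤ Nat.card Ω := Finite.one_lt_card
  have hfix := h.card_fix hb hsc
  rw [hI] at hfix
  have hf2 := hf _ hsc
  rw [hnM] at hc
  generalize hΩ : Nat.card Ω = nn at hn2 hfix hc
  generalize hfv : numF Ω (s : G) = f at h4f hfix hf2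
  have hX1 : 1 ≤ numX N b := by
    rcases Nat.eq_zero_or_pos (numX N b) with e1 | e1
    · rw [e1, mul_zero] at hfix; omega
    · exact e1
  have hdle : nn - 1 ≤ 15 * (f - 1) := by rw [hfix]; exact Nat.le_mul_of_pos_right _ hX1
  have hr5 : r ≤ 21 := by
    by_contra hr22
    have h22 : 22 * r ≤ r * r := Nat.mul_le_mul_right r (by omega)
    have hrr : 22 * 22 ≤ r ^ 2 := by rw [pow_two]; exact Nat.mul_le_mul (by omega) (by omega)
    have h3 : r * 483 ≤ r * (r ^ 2 - 1) := Nat.mul_le_mul_left r (by omega)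
    omega
  have key : r = 11 ∧ nn = 11 ∧ f = 3 := by
    interval_cases r <;> (try norm_num at h8 hc) <;> first
      | omega
      | (refine ⟨rfl, by omega, ?_⟩
         have hnn : nn = 11 := by omega
         subst hnn
         have : f ≤ 3 := by omega
         interval_cases f <;> omega)
      | (exfalso
         have hnn : nn = 57 := by omega
         subst hnn
         have : f ≤ 5 := by omega
         interval_cases f <;> omega)
  obtain ⟨hr11, hnn, hf3⟩ := key
  subst hr11 hnn hf3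
  refine ⟨rfl, hr.symm, ?_, rfl⟩
  refine h.eleven hF h1 hΩ (fun x hx => by rw [h.numF_eq hx hsc, hfv]) hm2 he hM.le (by rw [hnM, hΩ]) ?_
  intro x hx hxa
  have hxD : (⟨x, hx⟩ : M) ∈ D := mem_stabilizer_iff.mpr hxa
  rw [hDN] at hxD
  exact Subgroup.mem_subgroupOf.mp hxD

omit hM

/-- **Odd degree: eleven points or a regular normal subgroup.** -/
theorem Pt.odd_degree (hf : ∀ z ∈ cls N, 2 ≤ numF Ω z) :
    (Nat.card Ω = 11 ∧ (∃ (F : Type) (_ : Field F) (_ : Fintype F), Fintype.card F = 11 ∧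
      Nonempty (G ≃* Matrix.ProjectiveSpecialLinearGroup (Fin 2) F)) ∧ p = 4) ∨ HasRegularNormal G Ω := by
  rcases h.odd_reduce hF h1 hn with hreg | ⟨M, hMn, hNM, hMs, hMna, hcls, L, iL, hG, ⟨ψ⟩⟩
  · exact Or.inr hreg
  obtain ⟨z, hz, hzi⟩ := h.exists_invol
  haveI := hMn
  have hM : Gold a N M := ⟨hMn, hNM, hMs, hMna, h.normal_trans fun e1 => hzi.1 (Subgroup.mem_bot.mp (e1 ▸ hNM hz)),
    hcls⟩
  rcases hG with hG | ⟨F, iF, iFF, k, hk, hF', ⟨e0⟩⟩ | ⟨F, iF, iFF, k, hk, hF', ⟨e0⟩⟩ |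
    ⟨K, iK, iKK, k, hk, hK, ⟨e0⟩⟩ | ⟨F, iF, iFF, r, hr, hr5, h8, ⟨e0⟩⟩ | hG
  · exact (h.gold_ree hF h1 hn hM ψ hG).elim
  · exact (h.gold_fam hF h1 hn hM ⟨F, iF, iFF, k, hF', by omega, Or.inl ⟨ψ.trans e0⟩⟩).elim
  · refine (h.gold_fam hF h1 hn hM ⟨F, iF, iFF, 2 * k + 1, hF', by omega, Or.inr (Or.inl ⟨⟨k, rfl⟩, ⟨?_⟩⟩)⟩).elim
    rw [show (2 * k + 1 + 1) / 2 = k + 1 by omega]
    exact ψ.trans e0
  · haveI : Fintype (GaloisField 2 k) := Fintype.ofFinite _
    refine (h.gold_fam hF h1 hn hM ⟨GaloisField 2 k, inferInstance, inferInstance, k, ?_, hk,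
      Or.inr (Or.inr ⟨K, iK, iKK, by rw [hK, ← pow_mul, show (4 : ℕ) = 2 ^ 2 by norm_num, ← pow_mul, mul_comm],
        ⟨ψ.trans e0⟩⟩)⟩).elim
    rw [← Nat.card_eq_fintype_card]
    exact GaloisField.card 2 k (by omega)
  · subst hr
    obtain ⟨hn11, hF11, hMtop, hp4⟩ := h.gold_psl hF h1 hn hM ψ h8 e0 hf
    exact Or.inl ⟨hn11, ⟨F, iF, iFF, hF11, ⟨((MulEquiv.subgroupCongr hMtop).trans Subgroup.topEquiv).symm.trans
      (ψ.trans e0)⟩⟩, hp4⟩
  · exact (h.gold_j1 hF h1 hn hM ψ hG).elim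

end CfsgLib.RankOnePoint
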