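import Cfsg.Agent.Lib.RankOnePoint.Basic
import Cfsg.Agent.Lib.Bender.Q.Main
import Cfsg.Agent.Lib.Bender.Q.Semi.Classes
import Cfsg.Agent.Lib.Bender.GoodAll
import Cfsg.Agent.Lib.Bender.ConsReduce

/-!
Some involution of `N` fixes a second point: otherwise the criterion of theorem Q and Bender's theorem make the
normal closure of the involutions a rank one group, with solvable point stabiliser.
-/

set_option autoImplicit false
set_option linter.unusedSectionVars false

namespace CfsgLib.RankOnePoint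

open MulAction
open CfsgLib.Bender.TwoClosed (IsInv)

universe u v

variable {G : Type u} {Ω : Type v} [Group G] [Finite G] [MulAction G Ω] [FaithfulSMul G Ω] [Finite Ω]
  {a : Ω} {N : Subgroup G} (h : Pt G a N)
include h

/-- The involutions in the conjugates of `N`. -/
def members (N : Subgroup G) : Set G := {x | IsInv x ∧ ∃ g : G, g * x * g⁻¹ ∈ N}

theorem mem_N_of_fix (h1 : ∀ x ∈ N, IsInv x → ∀ c : Ω, x • c = c → c = a) {x g : G} (hx : IsInv x)
    (hg : g * x * g⁻¹ ∈ N) {c : Ω} (hc : x • c = c) : g • c = a :=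
  h1 _ hg (hx.conj g) _ (by simp [mul_smul, hc])

/-- Some involution of `N` fixes a second point. -/
theorem exists_fix_two : ∃ x ∈ N, IsInv x ∧ ∃ c : Ω, x • c = c ∧ c ≠ a := by
  classical
  by_contra hne
  push Not at hne
  have h1 : ∀ x ∈ N, IsInv x → ∀ c : Ω, x • c = c → c = a := fun x hx hi c hc => hne x hx hi c hc
  haveI := h.pretrans
  haveI : Fact (Nat.Prime 2) := ⟨Nat.prime_two⟩
  set M := stabilizer G a with hM
  set Z := members N
  obtain ⟨z, hzN, hz⟩ := h.exists_invol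
  have hodd : ¬ 2 ∣ Nat.card Ω := by
    intro hd
    have hp : IsPGroup 2 (Subgroup.zpowers z) := CfsgLib.AfterFT.CoreSep.zpowers_two hz.2
    obtain ⟨c, hc, hca⟩ := hp.exists_fixed_point_of_prime_dvd_card_of_fixed_point Ω hd
      (a := a) (fun w => h.fix (Subgroup.zpowers_le.mpr hzN w.2))
    exact hca.symm (h1 z hzN hz c (hc ⟨z, Subgroup.mem_zpowers z⟩))
  have hcore : M.normalCore = ⊥ := (Subgroup.eq_bot_iff_forall _).mpr fun x hx =>
    eq_of_smul_eq_smul (α := Ω) fun c => by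
      obtain ⟨g, rfl⟩ := exists_smul_eq G a c
      have h2 := hx g⁻¹
      rw [hM, mem_stabilizer_iff, inv_inv, mul_smul, mul_smul, inv_smul_eq_iff] at h2
      rw [h2, one_smul]
  haveI := CfsgLib.Bender.faithful hcore
  have hfix : ∀ x ∈ Z, x ∈ M → ∀ g : G, g * x * g⁻¹ ∈ M → g ∈ M := by
    rintro x ⟨hi, k, hk⟩ hxM g hgx
    have e1 := mem_N_of_fix h h1 hi hk (mem_stabilizer_iff.mp hxM)
    have e2 := mem_N_of_fix h h1 hi hk (c := g⁻¹ • a) (by
      rw [eq_inv_smul_iff, ← mul_smul, ← mul_smul]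
      exact mem_stabilizer_iff.mp hgx)
    have e3 := smul_left_cancel k (e1.trans e2.symm)
    exact mem_stabilizer_iff.mpr (eq_inv_smul_iff.mp e3)
  have hmemN : ∀ x ∈ Z, x ∈ M → x ∈ N := by
    rintro x ⟨hi, k, hk⟩ hxM
    have e1 := mem_N_of_fix h h1 hi hk (mem_stabilizer_iff.mp hxM)
    have := h.conj k⁻¹ (inv_mem (mem_stabilizer_iff.mpr e1)) _ hk
    simpa [mul_assoc] using this
  have hcrit : CfsgLib.Bender.Q.Crit M Z := by
    refine ⟨fun e => ?_, fun x hx => hx.1, fun x hx g => ⟨hx.1.conj g, ?_⟩, fun x hx => ?_, hfix, ?_, ?_⟩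
    · obtain ⟨b, hb⟩ := h.exists_ne
      obtain ⟨g, hg⟩ := exists_smul_eq G a b
      exact hb (hg.symm.trans (mem_stabilizer_iff.mp (e.ge (Subgroup.mem_top g))))
    · obtain ⟨k, hk⟩ := hx.2
      exact ⟨k * g⁻¹, by simpa [mul_assoc] using hk⟩
    · obtain ⟨k, hk⟩ := hx.2
      exact ⟨k⁻¹, by rw [inv_inv]; exact h.le hk⟩
    · obtain ⟨S₀⟩ : Nonempty (Sylow 2 G) := inferInstance
      obtain ⟨c, hc⟩ := S₀.2.nonempty_fixed_point_of_prime_not_dvd_card Ω hodd
      obtain ⟨g, hg⟩ := exists_smul_eq G c a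
      set S : Sylow 2 G := g • S₀ with hS
      have hSM : (S : Subgroup G) ≤ M := by
        intro s hs
        rw [hS, Sylow.coe_subgroup_smul, Subgroup.mem_pointwise_smul_iff_inv_smul_mem] at hs
        have := hc ⟨_, hs⟩
        rw [hM, mem_stabilizer_iff, ← hg]
        simpa [MulAut.smul_def, mul_smul, inv_smul_eq_iff] using this
      let W := {x : G // x ∈ N ∧ IsInv x}
      letI : MulAction S W :=
        { smul := fun s w => ⟨(s : G) * w.1 * (s : G)⁻¹, h.conj _ (hSM s.2) _ w.2.1, w.2.2.conj _⟩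
          one_smul := fun w => Subtype.ext (by show ((1 : S) : G) * w.1 * ((1 : S) : G)⁻¹ = w.1; simp)
          mul_smul := fun s t w => Subtype.ext (by
            show ((s * t : S) : G) * w.1 * ((s * t : S) : G)⁻¹ = (s : G) * ((t : G) * w.1 * (t : G)⁻¹) * (s : G)⁻¹
            simp [mul_assoc]) }
      have hW : ¬ 2 ∣ Nat.card W := by
        have ho := CfsgLib.Bender.Q.odd_involutions (K := N) hzN hz
        have e : Nat.card W = {y : G | y ∈ N ∧ IsInv y}.ncard := (Nat.card_coe_set_eq _)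
        rw [e, ← even_iff_two_dvd, Nat.not_even_iff_odd]
        exact ho
      obtain ⟨w, hw⟩ := S.2.nonempty_fixed_point_of_prime_not_dvd_card W hW
      refine ⟨S, hSM, w.1, ⟨w.2.2, 1, by simpa using w.2.1⟩, h.le w.2.1, fun s hs => ?_⟩
      have := congrArg Subtype.val (hw ⟨s, hs⟩)
      exact mul_inv_eq_iff_eq_mul.mp this
    · intro y hy x hx hyM hxM hne hyx c hc
      have hyN := hmemN y hy hyM
      have hxN := hmemN x hx hxM
      refine mem_stabilizer_iff.mpr (h1 (y * x) (mul_mem hyN hxN) ⟨fun e => hne ?_, ?_⟩ _ ?_)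
      · rw [mul_eq_one_iff_eq_inv.mp e, inv_eq_of_mul_eq_one_right hx.1.2]
      · rw [mul_assoc, ← mul_assoc x, ← hyx, mul_assoc y, hx.1.2, mul_one, hy.1.2]
      · have e := Subgroup.mem_centralizer_singleton_iff.mp hc
        rw [← mul_smul, ← e, mul_smul, h.fix (mul_mem hyN hxN)]
  set L := Subgroup.closure Z
  haveI hLn : L.Normal := ⟨fun x hx g => by
    have hle : L ≤ L.comap (MulAut.conj g).toMonoidHom :=
      (Subgroup.closure_le _).mpr fun y hy => Subgroup.subset_closure (hcrit.conj y hy g)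
    exact hle hx⟩
  have hN2 : ∀ x ∈ N, IsInv x → x ∈ L := fun x hx hi => Subgroup.subset_closure ⟨hi, 1, by simpa using hx⟩
  haveI := h.normal_trans (L := L) fun e => hz.1 (Subgroup.mem_bot.mp (e.le (hN2 z hzN hz)))
  haveI : FaithfulSMul L (G ⧸ M) := ⟨fun {x y} e => Subtype.ext (eq_of_smul_eq_smul fun c => e c)⟩
  have hF : CfsgLib.Bender.OneFix L (G ⧸ M) := by
    refine ⟨⟨fun p r => ?_⟩, fun x hx => ?_, ?_⟩
    · obtain ⟨g₁, rfl⟩ := QuotientGroup.mk_surjective p
      obtain ⟨g₂, rfl⟩ := QuotientGroup.mk_surjective r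
      obtain ⟨l, hl⟩ := exists_smul_eq L (g₁ • a) (g₂ • a)
      refine ⟨l, ?_⟩
      show (((l : G) * g₁ : G) : G ⧸ M) = _
      rw [QuotientGroup.eq, hM, mem_stabilizer_iff, mul_smul, inv_smul_eq_iff, mul_smul]
      exact hl.symm
    · exact CfsgLib.Bender.Q.theoremQ G (G ⧸ M) Z hcrit.hyp x x.2
        ⟨fun e => hx.1 (Subtype.ext e), congrArg Subtype.val hx.2⟩
    · obtain ⟨x, hx, y, hy, hxi, hyi, hxy, hc⟩ := h.four
      exact ⟨⟨x, hN2 x hx hxi⟩, ⟨y, hN2 y hy hyi⟩, fun e => hxi.1 (congrArg Subtype.val e),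
        fun e => hyi.1 (congrArg Subtype.val e), fun e => hxy (congrArg Subtype.val e),
        Subtype.ext hxi.2, Subtype.ext hyi.2, Subtype.ext hc⟩
  obtain ⟨t, Q, hset, hQ⟩ := CfsgLib.Bender.Assembly.goodAll L (G ⧸ M) hF ((1 : G) : G ⧸ M)
  set A := stabilizer L ((1 : G) : G ⧸ M) with hA
  set D := stabilizer L (t • ((1 : G) : G ⧸ M))
  set R := Q.subgroupOf A with hR
  haveI : R.Normal := ⟨fun x hx g => Subgroup.mem_subgroupOf.mpr
    (hset.conj_mem _ g.2 _ (Subgroup.mem_subgroupOf.mp hx))⟩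
  have hquo : Odd (Nat.card (A ⧸ R)) := by
    refine hset.odd_card.of_dvd_nat ?_
    refine Subgroup.card_dvd_of_surjective
      ((QuotientGroup.mk' R).comp (Subgroup.inclusion (inf_le_left : A ⊓ D ≤ A))) fun q => ?_
    obtain ⟨x, rfl⟩ := QuotientGroup.mk'_surjective R q
    have hx : (x : L) ∈ ((Q ⊔ (A ⊓ D) : Subgroup L) : Set L) := by rw [hset.sup_eq]; exact x.2
    rw [Subgroup.coe_mul_of_right_le_normalizer_left _ _ (fun d hd => Subgroup.mem_normalizer_fintype
      fun y hy => hset.conj_mem _ (Subgroup.mem_inf.mp hd).1 _ hy)] at hx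
    obtain ⟨y, hy, d, hd, e⟩ := Set.mem_mul.mp hx
    refine ⟨⟨d, hd⟩, ?_⟩
    rw [MonoidHom.comp_apply, QuotientGroup.mk'_eq_mk']
    have hd1 : d ∈ A := (Subgroup.mem_inf.mp hd).1
    refine ⟨⟨d⁻¹ * y * d, mul_mem (mul_mem (inv_mem hd1) (hset.le hy)) hd1⟩, ?_, ?_⟩
    · refine Subgroup.mem_subgroupOf.mpr ?_
      simpa using hset.conj_mem _ (inv_mem hd1) _ hy
    · exact Subtype.ext (by simp [← e, mul_assoc])
  haveI := CfsgLib.Bender.solvable_of_odd hquo
  haveI : Group.IsSolvable R := by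
    haveI := (hQ.of_equiv (Subgroup.subgroupOfEquivOfLe hset.le).symm).isNilpotent
    infer_instance
  have hAsol : Group.IsSolvable A := solvable_of_ker_le_range R.subtype (QuotientGroup.mk' R) (by
    rw [QuotientGroup.ker_mk', Subgroup.range_subtype])
  refine h.nonsolv ?_
  have hle : N.subgroupOf L ≤ A := fun x hx => by
    rw [hA, mem_stabilizer_iff]
    show (((x : G) * 1 : G) : G ⧸ M) = _
    rw [mul_one, QuotientGroup.eq]
    rw [mul_one]
    exact inv_mem_iff.mpr (h.le (Subgroup.mem_subgroupOf.mp hx))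
  haveI : Group.IsSolvable (N.subgroupOf L) := solvable_of_solvable_injective (Subgroup.inclusion_injective hle)
  have hNL : N ≤ L := h.gen.trans ((Subgroup.closure_le _).mpr fun x hx => hN2 x hx.1 hx.2)
  exact solvable_of_surjective (Subgroup.subgroupOfEquivOfLe hNL).surjective (f := (Subgroup.subgroupOfEquivOfLe hNL).toMonoidHom)

end CfsgLib.RankOnePoint
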