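import Cfsg.Agent.Lib.RankOnePoint.Defs

/-!
The stabiliser of two Sylow subgroups of `N` and its action on the elements of square one.

Blueprint: `blueprint/S2208.md`, facts on `N`.
-/

set_option autoImplicit false
set_option linter.unusedSectionVars false
set_option linter.style.haveILetI false

namespace CfsgLib.RankOnePoint

open MulAction CfsgLib.BinaryCoset
open scoped Pointwise

universe u

variable {X : Type u} [Group X] [Finite X] [IsSimpleGroup X] {m p e : ℕ} (h : Facts X m p e)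
include h

theorem Facts.q_four : 4 ≤ 2 ^ m := le_trans (by norm_num) (Nat.pow_le_pow_right two_pos h.two_le)

theorem Facts.e_pos : 0 < e := by
  have := h.q_four
  rcases h.kind with ⟨-, he⟩ | ⟨-, -, he⟩ | ⟨-, he⟩ <;> omega

theorem Facts.e_odd : Odd e := by
  have hev : Even (2 ^ m) := Nat.even_pow.mpr ⟨even_two, by have := h.two_le; omega⟩
  obtain ⟨r, hr⟩ := hev
  rcases h.kind with ⟨-, he⟩ | ⟨-, -, he⟩ | ⟨-, he | he⟩ <;> rw [Nat.odd_iff] <;> omega

theorem Facts.q_le_p : 2 ^ m ≤ p := by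
  rcases h.kind with ⟨hp, -⟩ | ⟨hp, -⟩ | ⟨hp, -⟩ <;> rw [hp]
  · exact Nat.le_self_pow two_ne_zero _
  · exact Nat.le_self_pow three_ne_zero _

theorem Facts.kind_ne (hp : p ≠ 2 ^ m) :
    (p = (2 ^ m) ^ 2 ∧ Odd m ∧ e = 1) ∨ (p = (2 ^ m) ^ 3 ∧ (e = 2 ^ m + 1 ∨ 3 * e = 2 ^ m + 1)) :=
  h.kind.resolve_left fun hk => hp hk.1

theorem Facts.card_points : Nat.card (Sylow 2 X) = p + 1 := by
  obtain ⟨S⟩ : Nonempty (Sylow 2 X) := inferInstance
  rw [ctx_card_sylow h.nonab h.ti S, h.card_sylow]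

theorem Facts.eq_of_mem {S T : Sylow 2 X} {x : X} (hx : x ≠ 1) (hS : x ∈ (S : Subgroup X))
    (hT : x ∈ (T : Subgroup X)) : S = T := ti_eq_of_mem h.ti hx hS hT

theorem Facts.two_sylow {S T : Sylow 2 X} (hne : S ≠ T) : (S : Subgroup X) ⊔ (T : Subgroup X) = ⊤ :=
  two_sylow_of_ctx h.nonab h.ti hne

/-- Elements of square one are central in a Sylow subgroup. -/
theorem Facts.central {S : Sylow 2 X} {z s : X} (hz : z ∈ (S : Subgroup X)) (hz2 : z * z = 1)
    (hs : s ∈ (S : Subgroup X)) : z * s = s * z := by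
  obtain ⟨t, c⟩ := exists_ctx h.nonab h.ti S
  exact c.central hz hz2 hs

theorem Facts.sq_sq {S : Sylow 2 X} {x : X} (hx : x ∈ (S : Subgroup X)) : x * x * (x * x) = 1 := by
  obtain ⟨t, c⟩ := exists_ctx h.nonab h.ti S
  exact (c.sq_mem hx).2

/-- A Sylow subgroup permutes the others regularly. -/
theorem Facts.move {S U V : Sylow 2 X} (hU : U ≠ S) (hV : V ≠ S) : ∃ s ∈ (S : Subgroup X), s • U = V := by
  obtain ⟨t, c⟩ := exists_ctx h.nonab h.ti S
  obtain ⟨u, hu, hu'⟩ := CfsgLib.RankOne.exists_Q_ta c.setup hU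
  obtain ⟨v, hv, hv'⟩ := CfsgLib.RankOne.exists_Q_ta c.setup hV
  exact ⟨v * u⁻¹, mul_mem hv (inv_mem hu), by rw [mul_smul, ← hu', inv_smul_smul, hv']⟩

theorem Facts.move_inj {S U : Sylow 2 X} (hU : U ≠ S) {s s' : X} (hs : s ∈ (S : Subgroup X))
    (hs' : s' ∈ (S : Subgroup X)) (e : s • U = s' • U) : s = s' := by
  obtain ⟨t, c⟩ := exists_ctx h.nonab h.ti S
  exact c.fixed_inj hs hs' hU e

theorem Facts.eq_one_of_fix {S U : Sylow 2 X} (hU : U ≠ S) {s : X} (hs : s ∈ (S : Subgroup X))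
    (e : s • U = U) : s = 1 :=
  h.move_inj hU hs (one_mem _) (by rw [e, one_smul])

omit h in
/-- The stabiliser of two Sylow subgroups. -/
def torus (S U : Sylow 2 X) : Subgroup X := stabilizer X S ⊓ stabilizer X U

omit h in
theorem mem_torus {S U : Sylow 2 X} {d : X} : d ∈ torus S U ↔ d • S = S ∧ d • U = U := by
  simp [torus, Subgroup.mem_inf]

omit h in
theorem smul_eq_self {S : Sylow 2 X} {s : X} (hs : s ∈ (S : Subgroup X)) : s • S = S :=
  Sylow.smul_eq_iff_mem_normalizer.mpr (Subgroup.le_normalizer hs)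

omit h in
theorem conj_mem_of_fix {S : Sylow 2 X} {g s : X} (hg : g • S = S) (hs : s ∈ (S : Subgroup X)) :
    g * s * g⁻¹ ∈ (S : Subgroup X) := by
  have := (Subgroup.mem_normalizer_iff.mp (Sylow.smul_eq_iff_mem_normalizer.mp hg) s).mp hs
  exact this

theorem Facts.decomp {S U : Sylow 2 X} (hU : U ≠ S) {x : X} (hx : x • S = S) :
    ∃ s ∈ (S : Subgroup X), ∃ d ∈ torus S U, x = s * d := by
  have hne : x • U ≠ S := fun e => hU (by rw [← hx] at e; exact smul_left_cancel x e)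
  obtain ⟨s, hs, hsU⟩ := h.move hU hne
  exact ⟨s, hs, s⁻¹ * x, mem_torus.mpr ⟨by rw [mul_smul, hx, inv_smul_eq_iff, smul_eq_self hs],
    by rw [mul_smul, ← hsU, inv_smul_smul]⟩, by group⟩

theorem Facts.card_torus {S U : Sylow 2 X} (hU : U ≠ S) : Nat.card (torus S U) = (2 ^ m - 1) * e := by
  have hp : 0 < p := lt_of_lt_of_le (by have := h.q_four; omega) h.q_le_p
  refine Nat.eq_of_mul_eq_mul_left hp ?_
  rw [← h.card_stab S]
  conv_lhs => rw [← h.card_sylow S, ← Nat.card_prod]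
  refine Nat.card_congr (Equiv.ofBijective (fun w : ↥(S : Subgroup X) × ↥(torus S U) =>
    (⟨w.1 * w.2, mem_stabilizer_iff.mpr (by rw [mul_smul, (mem_torus.mp w.2.2).1, smul_eq_self w.1.2])⟩ :
      stabilizer X S)) ⟨?_, ?_⟩)
  · rintro ⟨s, d⟩ ⟨s', d'⟩ e
    have e' : (s : X) * d = s' * d' := congrArg Subtype.val e
    have h1 : (s : X) • U = (s' : X) • U := by
      have := congrArg (fun g : X => g • U) e'
      simp only [mul_smul] at this
      rwa [(mem_torus.mp d.2).2, (mem_torus.mp d'.2).2] at this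
    have hs := h.move_inj hU s.2 s'.2 h1
    exact Prod.ext (Subtype.ext hs) (Subtype.ext (mul_left_cancel (hs ▸ e')))
  · rintro ⟨x, hx⟩
    obtain ⟨s, hs, d, hd, rfl⟩ := h.decomp hU hx
    exact ⟨(⟨s, hs⟩, ⟨d, hd⟩), rfl⟩

theorem Facts.torus_odd {S U : Sylow 2 X} (hU : U ≠ S) {d : X} (hd : d ∈ torus S U) : Odd (orderOf d) := by
  refine Odd.of_dvd_nat ?_ (Subgroup.orderOf_dvd_natCard _ hd)
  rw [h.card_torus hU]
  refine Odd.mul ?_ h.e_odd
  exact Nat.Even.sub_odd (by have := h.q_four; omega)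
    (Nat.even_pow.mpr ⟨even_two, by have := h.two_le; omega⟩) odd_one

theorem Facts.torus_comm' {S U : Sylow 2 X} (hU : U ≠ S) {d d' : X} (hd : d ∈ torus S U) (hd' : d' ∈ torus S U) :
    d * d' = d' * d := by
  have h1 := h.torus_comm S d d' (mem_torus.mp hd).1 (mem_torus.mp hd').1
  have h2 : d * d' * d⁻¹ * d'⁻¹ ∈ torus S U := mul_mem (mul_mem (mul_mem hd hd') (inv_mem hd)) (inv_mem hd')
  have h3 := h.eq_one_of_fix hU h1 (mem_torus.mp h2).2
  calc d * d' = (d * d' * d⁻¹ * d'⁻¹) * (d' * d) := by group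
    _ = d' * d := by rw [h3, one_mul]

/-- The torus is transitive on the involutions of `S`. -/
theorem Facts.torus_trans {S U : Sylow 2 X} (hU : U ≠ S) {z z' : X} (hz : z ∈ (S : Subgroup X))
    (hz1 : z ≠ 1) (hz2 : z * z = 1) (hz' : z' ∈ (S : Subgroup X)) (hz1' : z' ≠ 1) (hz2' : z' * z' = 1) :
    ∃ d ∈ torus S U, d * z * d⁻¹ = z' := by
  obtain ⟨t, c⟩ := exists_ctx h.nonab h.ti S
  obtain ⟨g, hg⟩ := CfsgLib.RankOne.invol_conj c.setup hz1 hz2 hz1' hz2'
  have hgS : g • S = S := h.eq_of_mem hz1' (by rw [← hg]; exact CfsgLib.CyclicInt.conj_mem_smul_sylow hz) hz'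
  obtain ⟨s, hs, d, hd, rfl⟩ := h.decomp hU hgS
  refine ⟨d, hd, ?_⟩
  have hdz : d * z * d⁻¹ ∈ (S : Subgroup X) := conj_mem_of_fix (mem_torus.mp hd).1 hz
  have hc := h.central hdz (by rw [show d * z * d⁻¹ * (d * z * d⁻¹) = d * (z * z) * d⁻¹ by group, hz2, mul_one,
    mul_inv_cancel]) hs
  rw [← hg, show s * d * z * (s * d)⁻¹ = s * (d * z * d⁻¹) * s⁻¹ by group, ← hc, mul_inv_cancel_right]

/-- An element of the torus centralising one involution of `S` centralises all. -/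
theorem Facts.cent_all {S U : Sylow 2 X} (hU : U ≠ S) {d z : X} (hd : d ∈ torus S U)
    (hz : z ∈ (S : Subgroup X)) (hz1 : z ≠ 1) (hz2 : z * z = 1) (hc : d * z = z * d) {z' : X}
    (hz' : z' ∈ (S : Subgroup X)) (hz2' : z' * z' = 1) : d * z' = z' * d := by
  rcases eq_or_ne z' 1 with rfl | h1
  · simp
  obtain ⟨g, hg, rfl⟩ := h.torus_trans hU hz hz1 hz2 hz' h1 hz2'
  have e := h.torus_comm' hU hd hg
  calc d * (g * z * g⁻¹) = (d * g) * z * g⁻¹ := by group
    _ = g * (d * z) * g⁻¹ := by rw [e]; group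
    _ = g * z * (g⁻¹ * (g * d) * g⁻¹) := by rw [hc]; group
    _ = g * z * g⁻¹ * d := by rw [← e]; group

/-- The torus elements centralising an involution of `S` form a subgroup of order `e`. -/
theorem Facts.card_cent {S U : Sylow 2 X} (hU : U ≠ S) {z : X} (hz : z ∈ (S : Subgroup X)) (hz1 : z ≠ 1)
    (hz2 : z * z = 1) : Nat.card {d : X // d ∈ torus S U ∧ d * z = z * d} = e := by
  classical
  letI : MulAction (torus S U) X := MulAction.compHom X (MulAut.conj.comp (torus S U).subtype)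
  have hsm : ∀ (d : torus S U) (g : X), d • g = (d : X) * g * (d : X)⁻¹ := fun _ _ => rfl
  have horb : MulAction.orbit (torus S U) z = {w | w ∈ (S : Subgroup X) ∧ w * w = 1} \ {1} := by
    ext w
    constructor
    · rintro ⟨d, rfl⟩
      simp only [hsm]
      refine ⟨⟨conj_mem_of_fix (mem_torus.mp d.2).1 hz, ?_⟩, fun e1 => hz1 (conj_eq_one_iff.mp e1)⟩
      rw [show (d : X) * z * (d : X)⁻¹ * ((d : X) * z * (d : X)⁻¹) = d * (z * z) * (d : X)⁻¹ by group, hz2, mul_one,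
        mul_inv_cancel]
    · rintro ⟨⟨hw, hw2⟩, hw1⟩
      obtain ⟨d, hd, e1⟩ := h.torus_trans hU hz hz1 hz2 hw hw1 hw2
      exact ⟨⟨d, hd⟩, e1⟩
  have h1 := MulAction.index_stabilizer (torus S U) z
  have hone : (1 : X) ∈ ({w | w ∈ (S : Subgroup X) ∧ w * w = 1} : Set X) := ⟨one_mem _, one_mul 1⟩
  have hcard : ({w | w ∈ (S : Subgroup X) ∧ w * w = 1} : Set X).ncard = 2 ^ m :=
    (Nat.card_coe_set_eq _).symm.trans (h.card_sq_one S)
  rw [horb, Set.ncard_sdiff_singleton_of_mem hone, hcard] at h1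
  have h2 := Subgroup.card_mul_index (stabilizer (torus S U) z)
  rw [h.card_torus hU, h1, mul_comm (2 ^ m - 1) e] at h2
  have hq : 0 < 2 ^ m - 1 := by have := h.q_four; omega
  rw [← Nat.eq_of_mul_eq_mul_right hq h2]
  exact Nat.card_congr
    { toFun := fun d => ⟨⟨d.1, d.2.1⟩, mem_stabilizer_iff.mpr (by
        rw [hsm]; show d.1 * z * d.1⁻¹ = z; rw [d.2.2, mul_inv_cancel_right])⟩
      invFun := fun d => ⟨d.1.1, d.1.2, by
        have := mem_stabilizer_iff.mp d.2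
        rw [hsm] at this
        exact mul_inv_eq_iff_eq_mul.mp this⟩
      left_inv := fun _ => rfl
      right_inv := fun _ => rfl }

/-- A torus element fixing `S / Z` at a point acts trivially there. -/
theorem Facts.fpf {S U : Sylow 2 X} (hU : U ≠ S) {d : X} (hd : d ∈ torus S U) (hd1 : d ≠ 1) {K : Subgroup X}
    (hZ : ∀ z ∈ (S : Subgroup X), z * z = 1 → z ∈ K) (hK : K ≤ (S : Subgroup X))
    (hKd : ∀ w ∈ K, d * w * d⁻¹ ∈ K) {g : X} (hg : g ∈ (S : Subgroup X)) (hgd : d * g * d⁻¹ * g⁻¹ ∈ K) : g ∈ K := by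
  obtain ⟨t, c⟩ := exists_ctx h.nonab h.ti S
  exact c.fpf_odd h.centSq (h.torus_odd hU hd) hd1 (mem_torus.mp hd).1 (fun z hz => hZ z hz.1 hz.2) hK hKd hg hgd

/-- An element of the torus centralising `S` is trivial. -/
theorem Facts.eq_one_of_cent {S U : Sylow 2 X} (hU : U ≠ S) {d : X} (hd : d ∈ torus S U)
    (hc : ∀ s ∈ (S : Subgroup X), d * s = s * d) : d = 1 := by
  obtain ⟨t, c⟩ := exists_ctx h.nonab h.ti S
  obtain ⟨z, hz, hz2⟩ := c.exists_inv_Z
  by_contra hd1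
  by_cases hp : p = 2 ^ m
  · have he : e = 1 := by
      rcases h.kind with ⟨-, he⟩ | ⟨hk, -⟩ | ⟨hk, -⟩
      · exact he
      · have := h.q_four; nlinarith
      · have h4 := h.q_four
        have : 2 ^ m < (2 ^ m) ^ 3 := by
          calc 2 ^ m = (2 ^ m) ^ 1 := (pow_one _).symm
            _ < _ := Nat.pow_lt_pow_right (by omega) (by omega)
        omega
    have h1 := h.card_cent hU (c.Z_le hz) hz2.1 hz2.2
    rw [he, Nat.card_eq_one_iff_unique] at h1
    haveI := h1.1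
    exact hd1 (congrArg Subtype.val (Subsingleton.elim
      (⟨d, hd, hc z (c.Z_le hz)⟩ : {d : X // d ∈ torus S U ∧ d * z = z * d}) ⟨1, one_mem _, by simp⟩))
  · have h1 : ∀ g ∈ (S : Subgroup X), g ∈ c.Z := fun g hg =>
      h.fpf hU hd hd1 (fun z hz hz2 => c.mem_Z.mpr ⟨hz, hz2⟩) c.Z_le
        (fun w hw => by rw [hc w (c.Z_le hw), mul_inv_cancel_right]; exact hw) hg
        (by rw [hc g hg, mul_inv_cancel_right, mul_inv_cancel]; exact one_mem _)
    refine hp ?_
    rw [← h.card_sylow S, ← h.card_sq_one S]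
    exact Nat.card_congr
      { toFun := fun g => ⟨g.1, g.2, (h1 g g.2).2⟩
        invFun := fun g => ⟨g.1, g.2.1⟩
        left_inv := fun _ => rfl
        right_inv := fun _ => rfl }

end CfsgLib.RankOnePoint
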