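import Mathlib

/-!
A doubly transitive group with a non-solvable normal subgroup of a point stabiliser whose involutions form one
class: the standing hypotheses and the first facts.

Blueprint: `blueprint/S2208.md`.
-/

set_option autoImplicit false
set_option linter.unusedSectionVars false

namespace CfsgLib.RankOnePoint

open MulAction

universe u v

variable {G : Type u} {Ω : Type v} [Group G] [MulAction G Ω]

/-- An involution. -/
def Invol (x : G) : Prop := x ≠ 1 ∧ x * x = 1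

theorem Invol.conj {x : G} (h : Invol x) (g : G) : Invol (g * x * g⁻¹) :=
  ⟨fun e => h.1 (conj_eq_one_iff.mp e),
    by rw [show g * x * g⁻¹ * (g * x * g⁻¹) = g * (x * x) * g⁻¹ by group, h.2, mul_one, mul_inv_cancel]⟩

/-- The standing hypotheses. -/
structure Pt (G : Type u) {Ω : Type v} [Group G] [MulAction G Ω] (a : Ω) (N : Subgroup G) : Prop where
  trans : ∀ x y x' y' : Ω, x ≠ y → x' ≠ y' → ∃ g : G, g • x = x' ∧ g • y = y'
  le : N ≤ stabilizer G a
  conj : ∀ g ∈ stabilizer G a, ∀ n ∈ N, g * n * g⁻¹ ∈ N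
  nonsolv : ¬ Group.IsSolvable N
  one_class : ∀ x ∈ N, ∀ y ∈ N, Invol x → Invol y → ∃ g ∈ N, g * x * g⁻¹ = y
  gen : N ≤ Subgroup.closure {x | x ∈ N ∧ Invol x}
  four : ∃ x ∈ N, ∃ y ∈ N, Invol x ∧ Invol y ∧ x ≠ y ∧ x * y = y * x

variable {a : Ω} {N : Subgroup G} (h : Pt G a N)
include h

theorem Pt.fix {n : G} (hn : n ∈ N) : n • a = a := mem_stabilizer_iff.mp (h.le hn)

theorem Pt.exists_invol : ∃ x ∈ N, Invol x := by
  obtain ⟨x, hx, -, -, hi, -⟩ := h.four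
  exact ⟨x, hx, hi⟩

theorem Pt.exists_ne [FaithfulSMul G Ω] : ∃ b : Ω, b ≠ a := by
  by_contra hc
  push Not at hc
  obtain ⟨x, -, hx⟩ := h.exists_invol
  exact hx.1 (eq_of_smul_eq_smul (α := Ω) fun c => (hc _).trans (hc _).symm)

theorem Pt.pretrans [FaithfulSMul G Ω] : IsPretransitive G Ω := by
  refine ⟨fun x y => ?_⟩
  obtain ⟨b, hb⟩ := h.exists_ne
  obtain ⟨x', hx'⟩ : ∃ x' : Ω, x' ≠ x := by
    by_cases e : x = a
    · exact ⟨b, e ▸ hb⟩
    · exact ⟨a, Ne.symm e⟩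
  obtain ⟨y', hy'⟩ : ∃ y' : Ω, y' ≠ y := by
    by_cases e : y = a
    · exact ⟨b, e ▸ hb⟩
    · exact ⟨a, Ne.symm e⟩
  obtain ⟨g, hg, -⟩ := h.trans x x' y y' hx'.symm hy'.symm
  exact ⟨g, hg⟩

/-- A non-trivial normal subgroup is transitive. -/
theorem Pt.normal_trans [FaithfulSMul G Ω] {L : Subgroup G} [L.Normal] (hL : L ≠ ⊥) :
    IsPretransitive L Ω := by
  haveI := h.pretrans
  obtain ⟨l, hl, hla⟩ : ∃ l ∈ L, l • a ≠ a := by
    by_contra hc
    push Not at hc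
    refine hL ((Subgroup.eq_bot_iff_forall _).mpr fun x hx => eq_of_smul_eq_smul (α := Ω) fun c => ?_)
    obtain ⟨g, rfl⟩ := exists_smul_eq G a c
    have h1 := hc _ (by simpa using Subgroup.Normal.conj_mem ‹_› x hx g⁻¹ : g⁻¹ * x * g ∈ L)
    rw [mul_smul, mul_smul, inv_smul_eq_iff] at h1
    rw [h1, one_smul]
  have key : ∀ c : Ω, ∃ k : L, k • a = c := fun c => by
    by_cases hc : c = a
    · exact ⟨1, by rw [one_smul, hc]⟩
    obtain ⟨g, hg1, hg2⟩ := h.trans a (l • a) a c hla.symm (Ne.symm hc)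
    refine ⟨⟨g * l * g⁻¹, Subgroup.Normal.conj_mem ‹_› l hl g⟩, ?_⟩
    show (g * l * g⁻¹) • a = c
    rw [mul_smul, mul_smul, show g⁻¹ • a = a from inv_smul_eq_iff.mpr hg1.symm, hg2]
  refine ⟨fun x y => ?_⟩
  obtain ⟨k, hk⟩ := key x
  obtain ⟨m, hm⟩ := key y
  exact ⟨m * k⁻¹, by rw [mul_smul, ← hk, inv_smul_smul, hm]⟩

end CfsgLib.RankOnePoint
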