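import Cfsg.Agent.Lib.RankOnePoint.Basic

/-!
The class of the involutions of `N`, the points at which a member lies in the conjugate of `N`, and the counting
relations: the number of those points divides the number of involutions of `N` moving a second point.
-/

set_option autoImplicit false
set_option linter.unusedSectionVars false

namespace CfsgLib.RankOnePoint

open MulAction

universe u v

variable {G : Type u} {Ω : Type v} [Group G] [MulAction G Ω]

/-- `x` lies in the conjugate of `N` at the point `p`. -/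
def At (a : Ω) (N : Subgroup G) (p : Ω) (x : G) : Prop := ∃ g : G, g • a = p ∧ g⁻¹ * x * g ∈ N

/-- The class of the involutions of `N`. -/
def cls (N : Subgroup G) : Set G := {x | Invol x ∧ ∃ g : G, g⁻¹ * x * g ∈ N}

/-- The number of involutions of `N`. -/
noncomputable def numI (N : Subgroup G) : ℕ := Nat.card {x : G // x ∈ N ∧ Invol x}

/-- The number of involutions of `N` fixing `b`. -/
noncomputable def numX (N : Subgroup G) (b : Ω) : ℕ := Nat.card {x : G // (x ∈ N ∧ Invol x) ∧ x • b = b}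

/-- The number of involutions of `N` fixing `b` and lying in the conjugate of `N` at `b`. -/
noncomputable def numK (a : Ω) (N : Subgroup G) (b : Ω) : ℕ :=
  Nat.card {x : G // (x ∈ N ∧ Invol x) ∧ At a N b x}

/-- The number of fixed points. -/
noncomputable def numF (Ω : Type v) [MulAction G Ω] (x : G) : ℕ := Nat.card {p : Ω // x • p = p}

/-- The number of points at which `x` lies in the conjugate of `N`. -/
noncomputable def numP (a : Ω) (N : Subgroup G) (x : G) : ℕ := Nat.card {p : Ω // At a N p x}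

/-- The members exchanging `c` and `d`. -/
noncomputable def numW (N : Subgroup G) (c d : Ω) : ℕ :=
  Nat.card {x : G // x ∈ cls N ∧ x • c = d}

theorem card_prod_fibre {A : Type*} {B : Type*} [Finite A] [Finite B] (P : A → B → Prop) {c : ℕ}
    (hc : ∀ x : A, Nat.card {y : B // P x y} = c) :
    Nat.card {z : A × B // P z.1 z.2} = Nat.card A * c := by
  classical
  haveI := Fintype.ofFinite A
  rw [Nat.card_congr ⟨fun z => (⟨z.1.1, z.1.2, z.2⟩ : Σ x : A, {y : B // P x y}),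
    fun z => ⟨(z.1, z.2.1), z.2.2⟩, fun _ => rfl, fun _ => rfl⟩, Nat.card_sigma, Finset.sum_congr rfl fun x _ => hc x,
    Finset.sum_const, Finset.card_univ, Nat.card_eq_fintype_card, smul_eq_mul]

theorem cls_conj {N : Subgroup G} {x : G} (hx : x ∈ cls N) (g : G) : g * x * g⁻¹ ∈ cls N := by
  obtain ⟨hi, k, hk⟩ := hx
  exact ⟨hi.conj g, g * k, by simpa [mul_assoc] using hk⟩

theorem At.conj {a p : Ω} {N : Subgroup G} {x : G} (hx : At a N p x) (k : G) : At a N (k • p) (k * x * k⁻¹) := by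
  obtain ⟨g, hg, hx⟩ := hx
  exact ⟨k * g, by rw [mul_smul, hg], by simpa [mul_assoc] using hx⟩

variable {a : Ω} {N : Subgroup G} (h : Pt G a N)
include h

theorem Pt.at_iff {p : Ω} {g : G} (hg : g • a = p) {x : G} : At a N p x ↔ g⁻¹ * x * g ∈ N := by
  refine ⟨fun ⟨k, hk, hx⟩ => ?_, fun hx => ⟨g, hg, hx⟩⟩
  have hs : g⁻¹ * k ∈ stabilizer G a := by
    rw [mem_stabilizer_iff, mul_smul, hk, inv_smul_eq_iff, hg]
  simpa [mul_assoc] using h.conj _ hs _ hx

theorem Pt.at_base {x : G} : At a N a x ↔ x ∈ N := by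
  rw [h.at_iff (g := 1) (one_smul G a)]; simp

theorem Pt.at_fix {p : Ω} {x : G} (hx : At a N p x) : x • p = p := by
  obtain ⟨g, rfl, hx⟩ := hx
  have := h.fix hx
  rwa [mul_smul, mul_smul, inv_smul_eq_iff] at this

theorem Pt.at_cls {p : Ω} {x : G} (hi : Invol x) (hx : At a N p x) : x ∈ cls N :=
  ⟨hi, hx.choose, hx.choose_spec.2⟩

theorem Pt.mem_cls {x : G} (hx : x ∈ N) (hi : Invol x) : x ∈ cls N := ⟨hi, 1, by simpa using hx⟩

/-- All members are conjugate. -/
theorem Pt.cls_class {x y : G} (hx : x ∈ cls N) (hy : y ∈ cls N) : ∃ g : G, g * x * g⁻¹ = y := by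
  obtain ⟨hxi, g, hg⟩ := hx
  obtain ⟨hyi, k, hk⟩ := hy
  obtain ⟨m, -, hm⟩ := h.one_class _ hg _ hk (by simpa using hxi.conj g⁻¹) (by simpa using hyi.conj k⁻¹)
  exact ⟨k * m * g⁻¹, by
    calc k * m * g⁻¹ * x * (k * m * g⁻¹)⁻¹ = k * (m * (g⁻¹ * x * g) * m⁻¹) * k⁻¹ := by group
      _ = y := by rw [hm]; group⟩

theorem Pt.numF_eq {x y : G} (hx : x ∈ cls N) (hy : y ∈ cls N) : numF Ω x = numF Ω y := by
  obtain ⟨g, rfl⟩ := h.cls_class hx hy
  exact Nat.card_congr ((MulAction.toPerm g).subtypeEquiv fun p => by simp [mul_smul])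

theorem Pt.numP_eq {x y : G} (hx : x ∈ cls N) (hy : y ∈ cls N) : numP a N x = numP a N y := by
  obtain ⟨g, rfl⟩ := h.cls_class hx hy
  refine Nat.card_congr ((MulAction.toPerm g).subtypeEquiv fun p => ⟨fun e => e.conj g, fun e => ?_⟩)
  simpa [mul_assoc, inv_smul_smul] using e.conj g⁻¹

variable [Finite G] [Finite Ω]

theorem Pt.stab_move {b c : Ω} (hb : b ≠ a) (hc : c ≠ a) : ∃ g : G, g • a = a ∧ g • b = c :=
  h.trans a b a c hb.symm hc.symm

theorem Pt.numX_eq {b c : Ω} (hb : b ≠ a) (hc : c ≠ a) : numX N b = numX N c := by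
  obtain ⟨g, hga, rfl⟩ := h.stab_move hb hc
  refine Nat.card_congr ((MulAut.conj g).toEquiv.subtypeEquiv fun x => ?_)
  show (x ∈ N ∧ Invol x) ∧ x • b = b ↔ (g * x * g⁻¹ ∈ N ∧ Invol (g * x * g⁻¹)) ∧ (g * x * g⁻¹) • g • b = g • b
  refine and_congr (and_congr ⟨fun e => h.conj g hga _ e, fun e => ?_⟩
    ⟨fun e => e.conj g, fun e => by simpa [mul_assoc] using e.conj g⁻¹⟩) (by simp [mul_smul])
  simpa [mul_assoc] using h.conj g⁻¹ (inv_mem (mem_stabilizer_iff.mpr hga)) _ e

theorem Pt.numK_eq {b c : Ω} (hb : b ≠ a) (hc : c ≠ a) : numK a N b = numK a N c := by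
  obtain ⟨g, hga, rfl⟩ := h.stab_move hb hc
  refine Nat.card_congr ((MulAut.conj g).toEquiv.subtypeEquiv fun x => ?_)
  show (x ∈ N ∧ Invol x) ∧ At a N b x ↔ (g * x * g⁻¹ ∈ N ∧ Invol (g * x * g⁻¹)) ∧ At a N (g • b) (g * x * g⁻¹)
  refine and_congr (and_congr ⟨fun e => h.conj g hga _ e, fun e => ?_⟩
    ⟨fun e => e.conj g, fun e => by simpa [mul_assoc] using e.conj g⁻¹⟩)
    ⟨fun e => e.conj g, fun e => by simpa [mul_assoc, inv_smul_smul] using e.conj g⁻¹⟩
  simpa [mul_assoc] using h.conj g⁻¹ (inv_mem (mem_stabilizer_iff.mpr hga)) _ e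

theorem Pt.numW_eq {c d c' d' : Ω} (hne : c ≠ d) (hne' : c' ≠ d') : numW N c d = numW N c' d' := by
  obtain ⟨g, rfl, rfl⟩ := h.trans c d c' d' hne hne'
  refine Nat.card_congr ((MulAut.conj g).toEquiv.subtypeEquiv fun x => ?_)
  show x ∈ cls N ∧ x • c = d ↔ g * x * g⁻¹ ∈ cls N ∧ (g * x * g⁻¹) • g • c = g • d
  exact and_congr ⟨fun e => cls_conj e g, fun e => by simpa [mul_assoc] using cls_conj e g⁻¹⟩
    (by simp [mul_smul])

omit h in
theorem card_ne (c : Ω) : Nat.card {p : Ω // p ≠ c} = Nat.card Ω - 1 := by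
  classical
  haveI := Fintype.ofFinite Ω
  simp

/-- Points times involutions at a point are members times points of a member. -/
theorem Pt.card_cls [FaithfulSMul G Ω] {z : G} (hz : z ∈ cls N) :
    Nat.card (cls N) * numP a N z = Nat.card Ω * numI N := by
  haveI := h.pretrans
  rw [← card_prod_fibre (fun (x : cls N) (p : Ω) => At a N p x) (c := numP a N z) (fun x => h.numP_eq x.2 hz),
    ← card_prod_fibre (fun (p : Ω) (x : cls N) => At a N p x) (c := numI N) (fun p => ?_)]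
  · exact Nat.card_congr ((Equiv.prodComm _ _).subtypeEquiv fun _ => Iff.rfl)
  obtain ⟨g, rfl⟩ := exists_smul_eq G a p
  refine Nat.card_congr ⟨fun x => ⟨g⁻¹ * x.1.1 * g, (h.at_iff rfl).mp x.2, by simpa using x.1.2.1.conj g⁻¹⟩,
    fun x => ⟨⟨g * x.1 * g⁻¹, cls_conj (h.mem_cls x.2.1 x.2.2) g⟩, (At.conj (h.at_base.mpr x.2.1) g)⟩,
    fun x => Subtype.ext (Subtype.ext (by group)), fun x => Subtype.ext (by group)⟩

theorem Pt.card_fix {b : Ω} (hb : b ≠ a) {z : G} (hz : z ∈ cls N) :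
    numI N * (numF Ω z - 1) = (Nat.card Ω - 1) * numX N b := by
  classical
  rw [← card_ne a, numI, ← card_prod_fibre (fun (x : {x : G // x ∈ N ∧ Invol x}) (p : {p : Ω // p ≠ a}) => x.1 • p.1 = p.1)
      (c := numF Ω z - 1) (fun x => ?_),
    ← card_prod_fibre (fun (p : {p : Ω // p ≠ a}) (x : {x : G // x ∈ N ∧ Invol x}) => x.1 • p.1 = p.1)
      (c := numX N b) (fun p => ?_)]
  · exact Nat.card_congr ((Equiv.prodComm _ _).subtypeEquiv fun _ => Iff.rfl)
  · rw [← h.numX_eq p.2 hb, numX]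
    exact Nat.card_congr (Equiv.subtypeSubtypeEquivSubtypeInter (fun x : G => x ∈ N ∧ Invol x) (fun x => x • p.1 = p.1))
  · rw [← h.numF_eq (h.mem_cls x.2.1 x.2.2) hz, numF,
      Nat.card_congr (Equiv.subtypeSubtypeEquivSubtypeInter (· ≠ a) (fun p => x.1 • p = p))]
    have e : {p : Ω | p ≠ a ∧ x.1 • p = p} = {p : Ω | x.1 • p = p} \ {a} := by
      ext p; simp [and_comm]
    have ha : a ∈ {p : Ω | x.1 • p = p} := h.fix x.2.1
    rw [show Nat.card {p : Ω // p ≠ a ∧ x.1 • p = p} = ({p : Ω | p ≠ a ∧ x.1 • p = p}).ncard from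
      Nat.card_coe_set_eq _, e, Set.ncard_diff_singleton_of_mem ha]
    exact congrArg (· - 1) (Nat.card_coe_set_eq _).symm

theorem Pt.card_at {b : Ω} (hb : b ≠ a) {z : G} (hz : z ∈ cls N) :
    numI N * (numP a N z - 1) = (Nat.card Ω - 1) * numK a N b := by
  classical
  rw [← card_ne a, numI, ← card_prod_fibre (fun (x : {x : G // x ∈ N ∧ Invol x}) (p : {p : Ω // p ≠ a}) => At a N p.1 x.1)
      (c := numP a N z - 1) (fun x => ?_),
    ← card_prod_fibre (fun (p : {p : Ω // p ≠ a}) (x : {x : G // x ∈ N ∧ Invol x}) => At a N p.1 x.1)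
      (c := numK a N b) (fun p => ?_)]
  · exact Nat.card_congr ((Equiv.prodComm _ _).subtypeEquiv fun _ => Iff.rfl)
  · rw [← h.numK_eq p.2 hb, numK]
    exact Nat.card_congr (Equiv.subtypeSubtypeEquivSubtypeInter _ (fun x => At a N p.1 x))
  · rw [← h.numP_eq (h.mem_cls x.2.1 x.2.2) hz, numP, Nat.card_congr (Equiv.subtypeSubtypeEquivSubtypeInter (· ≠ a) (fun p => At a N p x.1))]
    have e : {p : Ω | p ≠ a ∧ At a N p x.1} = {p : Ω | At a N p x.1} \ {a} := by
      ext p; simp [and_comm]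
    have ha : a ∈ {p : Ω | At a N p x.1} := h.at_base.mpr x.2.1
    rw [show Nat.card {p : Ω // p ≠ a ∧ At a N p x.1} = ({p : Ω | p ≠ a ∧ At a N p x.1}).ncard from
      Nat.card_coe_set_eq _, e, Set.ncard_diff_singleton_of_mem ha]
    exact congrArg (· - 1) (Nat.card_coe_set_eq _).symm

/-- Members exchanging two points, with the fixed points, exhaust the members. -/
theorem Pt.card_moved {b : Ω} (hb : b ≠ a) {z : G} (hz : z ∈ cls N) :
    Nat.card (cls N) * (Nat.card Ω - numF Ω z) = Nat.card Ω * ((Nat.card Ω - 1) * numW N a b) := by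
  classical
  haveI := Fintype.ofFinite Ω
  rw [← card_prod_fibre (fun (x : cls N) (p : Ω) => x.1 • p ≠ p) (c := Nat.card Ω - numF Ω z) (fun x => ?_),
    ← card_prod_fibre (fun (p : Ω) (x : cls N) => x.1 • p ≠ p) (c := (Nat.card Ω - 1) * numW N a b) (fun p => ?_)]
  · exact Nat.card_congr ((Equiv.prodComm _ _).subtypeEquiv fun _ => Iff.rfl)
  · rw [← card_ne p, ← card_prod_fibre (fun (d : {d : Ω // d ≠ p}) (x : cls N) => x.1 • p = d.1)
      (c := numW N a b) (fun d => ?_)]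
    · refine Nat.card_congr ⟨fun x => ⟨(⟨x.1.1 • p, x.2⟩, x.1), rfl⟩, fun z => ⟨z.1.2, z.2 ▸ z.1.1.2⟩,
        fun _ => rfl, fun z => Subtype.ext (Prod.ext (Subtype.ext z.2) rfl)⟩
    · rw [← h.numW_eq (Ne.symm d.2) (Ne.symm hb), numW]
      exact Nat.card_congr (Equiv.subtypeSubtypeEquivSubtypeInter (· ∈ cls N) (fun x => x • p = d.1))
  · rw [← h.numF_eq x.2 hz, numF]
    have hs := Nat.card_congr (Equiv.sumCompl fun q : Ω => x.1 • q = q)
    rw [Nat.card_sum] at hs
    show Nat.card {q : Ω // ¬ x.1 • q = q} = _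
    omega

/-- **The divisibility**: the members exchanging two points times the points of a member, plus the involutions
fixing a second point, are all involutions of `N`. -/
theorem Pt.key [FaithfulSMul G Ω] {b : Ω} (hb : b ≠ a) {z : G} (hz : z ∈ cls N) :
    numP a N z * numW N a b + numX N b = numI N := by
  have h1 := h.card_cls hz
  have h2 := h.card_fix hb hz
  have h3 := h.card_moved hb hz
  haveI : Nontrivial Ω := ⟨b, a, hb⟩
  have hn : 2 ≤ Nat.card Ω := Finite.one_lt_card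
  have hC : 0 < Nat.card (cls N) := Nat.card_pos_iff.mpr ⟨⟨z, hz⟩, inferInstance⟩
  have hF : numF Ω z ≤ Nat.card Ω := Finite.card_subtype_le _
  have hF1 : 1 ≤ numF Ω z := by
    obtain ⟨hi, g, hg⟩ := hz
    refine Nat.card_pos_iff.mpr ⟨⟨g • a, ?_⟩, inferInstance⟩
    exact h.at_fix (p := g • a) ⟨g, rfl, hg⟩
  generalize Nat.card (cls N) = C, Nat.card Ω = n, numF Ω z = f, numP a N z = f₀, numW N a b = w, numI N = i,
    numX N b = x at *
  zify [show 1 ≤ n by omega, hF1, hF] at h1 h2 h3 ⊢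
  have hne : (n : ℤ) * ((n : ℤ) - 1) ≠ 0 := mul_ne_zero (by omega) (by omega)
  refine mul_left_cancel₀ hne ?_
  linear_combination (-(f₀ : ℤ)) * h3 + ((n : ℤ) - f) * h1 - (n : ℤ) * h2

end CfsgLib.RankOnePoint
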