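import Cfsg.Agent.Lib.RankOnePoint.Outer

/-!
A second point at which all involutions of `N` lie in one Sylow subgroup: the counts, and the index of the
stabiliser.

Blueprint: `blueprint/S2208.md`, parts A and C.
-/

set_option autoImplicit false
set_option linter.unusedSectionVars false
set_option linter.style.haveILetI false

namespace CfsgLib.RankOnePoint

open MulAction CfsgLib.BinaryCoset
open scoped Pointwise

universe u v

variable {G : Type u} {Ω : Type v} [Group G] [MulAction G Ω] [Finite G] [Finite Ω] [FaithfulSMul G Ω]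
  {a : Ω} {N : Subgroup G} (h : Pt G a N)
include h

/-- The stabiliser of a second point in `N` has index dividing the number of these points. -/
theorem Pt.index_dvd {b : Ω} (hb : b ≠ a) :
    ((stabilizer G b).subgroupOf N).index ∣ Nat.card Ω - 1 := by
  set A := stabilizer G a
  set N' := N.subgroupOf A
  set D := (stabilizer G b).subgroupOf A
  haveI : N'.Normal := ⟨fun n hn g => Subgroup.mem_subgroupOf.mpr (h.conj g g.2 n (Subgroup.mem_subgroupOf.mp hn))⟩
  have hD : D.index = Nat.card Ω - 1 := by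
    have h1 : stabilizer A b = D := Subgroup.ext fun g => Iff.rfl
    rw [← h1, MulAction.index_stabilizer, ← card_ne a]
    refine (congrArg Set.ncard (Set.ext fun c => ?_)).trans (Nat.card_coe_set_eq {p : Ω | p ≠ a}).symm
    constructor
    · rintro ⟨g, rfl⟩ e
      have h2 : (g : G) • b = a := e
      rw [← mem_stabilizer_iff.mp g.2, smul_left_cancel_iff] at h2
      exact hb h2
    · intro hc
      obtain ⟨g, hga, rfl⟩ := h.stab_move hb hc
      exact ⟨⟨g, mem_stabilizer_iff.mpr hga⟩, rfl⟩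
  have h1 : (D ⊓ N').relIndex (D ⊔ N') = D.relIndex N' * N'.relIndex D := by
    rw [← Subgroup.relIndex_mul_relIndex (D ⊓ N') N' (D ⊔ N') inf_le_right le_sup_right,
      Subgroup.inf_relIndex_right, Subgroup.relIndex_sup_right]
  have h2 : (D ⊓ N').relIndex (D ⊔ N') = N'.relIndex D * D.relIndex (D ⊔ N') := by
    rw [← Subgroup.relIndex_mul_relIndex (D ⊓ N') D (D ⊔ N') inf_le_left le_sup_left,
      Subgroup.inf_relIndex_left]
  have h3 : N'.relIndex D ≠ 0 := Subgroup.index_ne_zero_of_finite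
  have h4 : D.relIndex (D ⊔ N') = D.relIndex N' :=
    Nat.eq_of_mul_eq_mul_left (Nat.pos_of_ne_zero h3) (h2.symm.trans (h1.trans (mul_comm _ _)))
  rw [← hD, ← Subgroup.relIndex_mul_index (le_sup_left : D ≤ D ⊔ N'), h4]
  refine Dvd.dvd.mul_right (dvd_of_eq ?_) _
  exact (Subgroup.relIndex_subgroupOf h.le).symm

variable [IsSimpleGroup N] {m p e : ℕ} (hF : Facts N m p e)
include hF

theorem Pt.invol_of {w : N} (hw1 : w ≠ 1) (hw2 : w * w = 1) : Invol (w : G) :=
  ⟨fun e1 => hw1 (Subtype.ext e1), congrArg Subtype.val hw2⟩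

/-- The number of involutions of `N`. -/
theorem Pt.numI_val : numI N = (p + 1) * (2 ^ m - 1) := by
  classical
  obtain ⟨S⟩ : Nonempty (Sylow 2 N) := inferInstance
  haveI := Fact.mk Nat.prime_two
  rw [h.numI_eq (h.rn hF) S, hF.card_points, ← hF.card_sq_one S]
  congr 1
  have e : {w : N | w ∈ (S : Subgroup N) ∧ Invol (w : G)} = {w : N | w ∈ (S : Subgroup N) ∧ w * w = 1} \ {1} :=
    Set.ext fun w => ⟨fun hw => ⟨⟨hw.1, Subtype.ext hw.2.2⟩, fun e => hw.2.1 (by rw [show w = 1 from e]; rfl)⟩,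
      fun hw => ⟨hw.1.1, h.invol_of hF hw.2 hw.1.2⟩⟩
  show Nat.card ↥{w : N | w ∈ (S : Subgroup N) ∧ Invol (w : G)} = Nat.card ↥{w : N | w ∈ (S : Subgroup N) ∧ w * w = 1} - 1
  rw [Nat.card_coe_set_eq, Nat.card_coe_set_eq, e,
    Set.ncard_sdiff_singleton_of_mem (show (1 : N) ∈ {w : N | w ∈ (S : Subgroup N) ∧ w * w = 1} from
      ⟨one_mem _, one_mul 1⟩)]

/-- The involutions at `b` with property `P`, in the Sylow subgroup holding all of them. -/
theorem Pt.card_ux {b : Ω} {S : Sylow 2 N} (hone : ∀ y : N, Invol (y : G) → (y : G) • b = b → y ∈ (S : Subgroup N))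
    (P : G → Prop) (hP : P 1) : Nat.card {y : N // y ∈ UX S b ∧ P (y : G)} =
      Nat.card {x : G // ((x ∈ N ∧ Invol x) ∧ x • b = b) ∧ P x} + 1 := by
  have e : Subtype.val '' {y : N | y ∈ UX S b ∧ P (y : G)} =
      insert 1 {x : G | ((x ∈ N ∧ Invol x) ∧ x • b = b) ∧ P x} := by
    ext x
    constructor
    · rintro ⟨y, ⟨hy, hyP⟩, rfl⟩
      rcases eq_or_ne y 1 with rfl | hy1
      · exact Or.inl rfl
      · exact Or.inr ⟨⟨⟨y.2, h.invol_of hF hy1 hy.2.1⟩, hy.2.2⟩, hyP⟩
    · rintro (rfl | ⟨⟨⟨hxN, hxi⟩, hxb⟩, hxP⟩)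
      · exact ⟨1, ⟨⟨one_mem _, one_mul 1, one_smul G b⟩, hP⟩, rfl⟩
      · exact ⟨⟨x, hxN⟩, ⟨⟨hone ⟨x, hxN⟩ hxi hxb, Subtype.ext hxi.2, hxb⟩, hxP⟩, rfl⟩
  have hn : (1 : G) ∉ {x : G | ((x ∈ N ∧ Invol x) ∧ x • b = b) ∧ P x} := fun hx => hx.1.1.2.1 rfl
  have h1 := congrArg Set.ncard e
  rw [Set.ncard_image_of_injective _ Subtype.val_injective, Set.ncard_insert_of_notMem hn] at h1
  rwa [← Nat.card_coe_set_eq, ← Nat.card_coe_set_eq] at h1

theorem Pt.card_ux_all {b : Ω} {S : Sylow 2 N}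
    (hone : ∀ y : N, Invol (y : G) → (y : G) • b = b → y ∈ (S : Subgroup N)) :
    Nat.card {y : N // y ∈ UX S b} = numX N b + 1 := by
  have := h.card_ux hF hone (fun _ => True) trivial
  simpa [numX] using this

theorem Pt.card_ux_at {b : Ω} (hb : b ≠ a) {S : Sylow 2 N}
    (hone : ∀ y : N, Invol (y : G) → (y : G) • b = b → y ∈ (S : Subgroup N)) :
    Nat.card {y : N // y ∈ UX S b ∧ At a N b (y : G)} = numK a N b + 1 := by
  rw [h.card_ux hF hone (At a N b) (h.at_one hb), numK]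
  congr 1
  exact Nat.card_congr (Equiv.subtypeEquivRight fun x => ⟨fun e1 => ⟨e1.1.1, e1.2⟩,
    fun e1 => ⟨⟨e1.1, h.at_fix e1.2⟩, e1.2⟩⟩)

/-- With an involution among the elements at `b` which is no member there, half of them are. -/
theorem Pt.half_counts {b : Ω} (hb : b ≠ a) {S : Sylow 2 N}
    (hone : ∀ y : N, Invol (y : G) → (y : G) • b = b → y ∈ (S : Subgroup N)) {y0 : N} (hy0i : Invol (y0 : G))
    (hy0b : (y0 : G) • b = b) (hny : ¬ At a N b (y0 : G)) :
    Nat.card {y : N // y ∈ UX S b} = 2 * (numK a N b + 1) ∧ numX N b = 2 * numK a N b + 1 := by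
  have h1 := h.ux_half hF hb (S := S) ⟨hone y0 hy0i hy0b, Subtype.ext hy0i.2, hy0b⟩ hny
  have h2 : Nat.card {y : N // y ∈ UX S b} =
      Nat.card {y : N // y ∈ UX S b ∧ At a N b (y : G)} + Nat.card {y : N // y ∈ UX S b ∧ ¬ At a N b (y : G)} := by
    classical
    rw [← Nat.card_congr (Equiv.sumCompl fun y : {y : N // y ∈ UX S b} => At a N b (y.1 : G)), Nat.card_sum,
      Nat.card_congr (Equiv.subtypeSubtypeEquivSubtypeInter (· ∈ UX S b) (fun y : N => At a N b (y : G))),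
      Nat.card_congr (Equiv.subtypeSubtypeEquivSubtypeInter (· ∈ UX S b) (fun y : N => ¬ At a N b (y : G)))]
  have h3 := h.card_ux_at hF hb hone
  have h4 := h.card_ux_all hF hone
  omega

/-- Elements of `N` fixing `b` normalise the Sylow subgroup holding the involutions at `b`. -/
theorem Pt.one_norm {b : Ω} {S : Sylow 2 N}
    (hone : ∀ y : N, Invol (y : G) → (y : G) • b = b → y ∈ (S : Subgroup N)) {y0 : N} (hy0i : Invol (y0 : G))
    (hy0b : (y0 : G) • b = b) {n : N} (hn : (n : G) • b = b) : n • S = S := by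
  have hn' : (n : G)⁻¹ • b = b := by rw [inv_smul_eq_iff, hn]
  have hy1 : n * y0 * n⁻¹ ≠ 1 := fun e => hy0i.1 (by rw [conj_eq_one_iff.mp e]; rfl)
  refine hF.eq_of_mem hy1 (CfsgLib.CyclicInt.conj_mem_smul_sylow (hone y0 hy0i hy0b)) (hone _ ?_ ?_)
  · simpa using hy0i.conj (n : G)
  · rw [Subgroup.coe_mul, Subgroup.coe_mul, InvMemClass.coe_inv, mul_smul, mul_smul, hn', hy0b, hn]

end CfsgLib.RankOnePoint
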