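import Cfsg.Agent.Lib.RankOnePoint.Coords

/-!
Automorphisms of `N` and of its Sylow subgroups: the inner ones, products and commutators of two-elements, and the
fixed elements of involutive ones.

Blueprint: `blueprint/S2208.md`, facts F1, INNER, PROD, COMM.
-/

set_option autoImplicit false
set_option linter.unusedSectionVars false
set_option linter.style.haveILetI false

namespace CfsgLib.RankOnePoint

open MulAction CfsgLib.BinaryCoset
open scoped Pointwise

universe u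

variable {X : Type u} [Group X] {m p : ℕ}

/-- An inner automorphism. -/
def Inn (α : MulAut X) : Prop := ∃ g : X, α = MulAut.conj g

theorem fix_of_fix {α : MulAut X} {S : Sylow 2 X} (hα : α • S = S) (k : ℕ) : α ^ k • S = S := by
  induction k with
  | zero => rw [pow_zero, one_smul]
  | succ k ih => rw [pow_succ, mul_smul, hα, ih]

/-- The action on the coordinates. -/
def Act {S : Sylow 2 X} (C : Coord X S m p) (α : MulAut X) (u : C.F) (φ : C.F ≃+* C.F) : Prop :=
  ∀ x ∈ (S : Subgroup X), C.π (α x) = u * φ (C.π x)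

theorem Act.mul {S : Sylow 2 X} {C : Coord X S m p} {α β : MulAut X} {u v : C.F} {φ ψ : C.F ≃+* C.F}
    (ha : Act C α u φ) (hb : Act C β v ψ) (hβ : β • S = S) : Act C (α * β) (u * φ v) (ψ.trans φ) := by
  intro x hx
  rw [MulAut.mul_apply, ha _ ((fix_iff hβ x).mp hx), hb x hx, map_mul, mul_assoc, RingEquiv.trans_apply]

theorem Act.one_eq {S : Sylow 2 X} {C : Coord X S m p} {α : MulAut X} {u v : C.F} {φ ψ : C.F ≃+* C.F}
    (ha : Act C α u φ) (hb : Act C α v ψ) : u = v ∧ ∀ a, u * φ a = v * ψ a := by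
  have key : ∀ a, u * φ a = v * ψ a := fun a => by
    obtain ⟨x, hx, rfl⟩ := C.surj a
    rw [← ha x hx, ← hb x hx]
  refine ⟨?_, key⟩
  simpa using key 1

theorem two_le_sylow [Finite X] [IsSimpleGroup X] {e : ℕ} (h : Facts X m p e) (S : Sylow 2 X) :
    ∃ U : Sylow 2 X, U ≠ S := by
  haveI : Nontrivial (Sylow 2 X) := by
    rw [← Finite.one_lt_card_iff_nontrivial, h.card_points]
    have := h.q_le_p
    have := h.q_four
    omega
  exact exists_ne S

variable [Finite X] [IsSimpleGroup X] {e : ℕ} (h : Facts X m p e)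
include h

/-- **An automorphism trivial on the coordinates is conjugation by an element of `S`.** -/
theorem Facts.inner_of_triv {S : Sylow 2 X} (C : Coord X S m p) {α : MulAut X} (hα : α • S = S)
    (hπ : ∀ x ∈ (S : Subgroup X), C.π (α x) = C.π x) : ∃ w ∈ (S : Subgroup X), α = MulAut.conj w := by
  obtain ⟨U, hU⟩ := two_le_sylow h S
  have hne : α • U ≠ S := fun e => hU (by rw [← hα] at e; exact smul_left_cancel α e)
  obtain ⟨w, hw, hwU⟩ := h.move hU hne
  have hwS : (MulAut.conj w⁻¹ : MulAut X) • S = S := smul_eq_self (inv_mem hw)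
  refine ⟨w, hw, ?_⟩
  have hβ : MulAut.conj w⁻¹ * α = 1 := by
    refine h.eq_one_of_triv C hU (by rw [mul_smul, hα, hwS]) ?_ fun x hx => ?_
    · rw [mul_smul, ← hwU]
      show w⁻¹ • w • U = U
      rw [inv_smul_smul]
    · rw [MulAut.mul_apply, MulAut.conj_apply, C.map_conj (inv_mem hw) ((fix_iff hα x).mp hx), hπ x hx]
  rw [map_inv, inv_mul_eq_one] at hβ
  exact hβ.symm

/-- **An automorphism centralising `S` is conjugation by an element of square one of `S`.** -/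
theorem Facts.inner_of_cent {S : Sylow 2 X} {α : MulAut X} (hc : ∀ x ∈ (S : Subgroup X), α x = x) :
    ∃ z ∈ (S : Subgroup X), z * z = 1 ∧ α = MulAut.conj z := by
  obtain ⟨C⟩ := h.coord S
  have hα : α • S = S := Sylow.ext (Subgroup.ext fun x => by
    rw [mem_smul_iff]
    constructor <;> intro hx
    · have := hc _ hx
      rw [MulAut.apply_inv_self] at this
      rwa [← this] at hx
    · have : α⁻¹ x = x := α.injective (by rw [MulAut.apply_inv_self, hc x hx])
      rwa [this])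
  obtain ⟨w, hw, rfl⟩ := h.inner_of_triv C hα fun x hx => by rw [hc x hx]
  obtain ⟨t, c⟩ := exists_ctx h.nonab h.ti S
  exact ⟨w, hw, (c.mem_Z.mp (c.mem_Z_of_central hw fun s hs => mul_inv_eq_iff_eq_mul.mp (hc s hs))).2, rfl⟩

theorem Facts.card_F_pow {S : Sylow 2 X} (C : Coord X S m p) :
    ∃ k, Fintype.card C.F = 2 ^ k ∧ (p = (2 ^ m) ^ 3 → k = 2 * m) ∧ (p ≠ (2 ^ m) ^ 3 → k = m) := by
  by_cases hp : p = (2 ^ m) ^ 3
  · exact ⟨2 * m, by rw [h.card_F C, if_pos hp, ← pow_mul, mul_comm], fun _ => rfl, fun e => absurd hp e⟩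
  · exact ⟨m, by rw [h.card_F C, if_neg hp], fun e => absurd e hp, fun _ => rfl⟩

omit [Finite X] [IsSimpleGroup X] h in
theorem eq_one_of_pow_two {F : Type*} [Field F] [CharP F 2] {u : F} {k : ℕ} (hu : u ^ 2 ^ k = 1) : u = 1 := by
  induction k with
  | zero => simpa using hu
  | succ k ih =>
    refine ih ?_
    rw [pow_succ, pow_mul] at hu
    have : (u ^ 2 ^ k - 1) ^ 2 = 0 := by
      rw [sub_sq, hu]
      linear_combination (1 - u ^ 2 ^ k) * (CharTwo.two_eq_zero (R := F))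
    exact sub_eq_zero.mp (pow_eq_zero_iff two_ne_zero |>.mp this)

/-- A two-element linear on the coordinates is inner. -/
theorem Facts.inner_of_linear {S : Sylow 2 X} (C : Coord X S m p) {α : MulAut X} (hα : α • S = S)
    {k : ℕ} (hk : α ^ 2 ^ k = 1) {u : C.F} {φ : C.F ≃+* C.F} (ha : Act C α u φ) (hφ : ∀ a, φ a = a) :
    ∃ w ∈ (S : Subgroup X), α = MulAut.conj w := by
  have hpow : ∀ j : ℕ, ∀ x ∈ (S : Subgroup X), C.π ((α ^ j) x) = u ^ j * C.π x := by
    intro j
    induction j with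
    | zero => intro x _; simp
    | succ j ih =>
      intro x hx
      rw [pow_succ', MulAut.mul_apply, ha _ ((fix_iff (fix_of_fix hα j) x).mp hx), hφ, ih x hx, pow_succ']
      ring
  have hu : u = 1 := by
    obtain ⟨x, hx, e1⟩ := C.surj 1
    have := hpow (2 ^ k) x hx
    rw [hk, MulAut.one_apply, e1, mul_one] at this
    exact eq_one_of_pow_two this.symm
  refine h.inner_of_triv C hα fun x hx => ?_
  rw [ha x hx, hu, one_mul, hφ]

/-- An involutive non-inner automorphism fixing `S` acts by the involutive field automorphism. -/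
theorem Facts.act_invol {S : Sylow 2 X} (C : Coord X S m p) {α : MulAut X} (hα : α • S = S) (h2 : α * α = 1)
    (hin : ¬ Inn α) : ∃ (u : C.Fˣ) (φ : C.F ≃+* C.F), Act C α u φ ∧ (u : C.F) * φ u = 1 ∧
      (∀ a, φ (φ a) = a) ∧ ∃ a, φ a ≠ a := by
  obtain ⟨u, φ, ha⟩ := C.semiA hα
  have key : ∀ a, (u : C.F) * φ u * φ (φ a) = a := fun a => by
    obtain ⟨x, hx, rfl⟩ := C.surj a
    have := (Act.mul (α := α) (β := α) (C := C) ha ha hα) x hx
    rw [h2, MulAut.one_apply, RingEquiv.trans_apply] at this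
    exact this.symm
  have h1 : (u : C.F) * φ u = 1 := by simpa using key 1
  refine ⟨u, φ, ha, h1, fun a => by simpa [h1] using key a, ?_⟩
  by_contra hφ
  push Not at hφ
  obtain ⟨w, -, hw⟩ := h.inner_of_linear C hα (k := 1) (by rw [pow_one, pow_two, h2]) ha hφ
  exact hin ⟨w, hw⟩

/-- **The product of two commuting non-inner involutive automorphisms fixing `S` is inner.** -/
theorem Facts.prod_inner {S : Sylow 2 X} {α β : MulAut X} (hα : α • S = S) (hβ : β • S = S) (hα2 : α * α = 1)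
    (hβ2 : β * β = 1) (hαi : ¬ Inn α) (hβi : ¬ Inn β) (hc : α * β = β * α) : Inn (α * β) := by
  obtain ⟨C⟩ := h.coord S
  obtain ⟨u, φ, ha, -, hφ, a, hφa⟩ := h.act_invol C hα hα2 hαi
  obtain ⟨v, ψ, hb, -, hψ, b, hψb⟩ := h.act_invol C hβ hβ2 hβi
  obtain ⟨k, hk, -⟩ := h.card_F_pow C
  have hsame : ∀ c, φ c = ψ c := by
    obtain ⟨-, h1⟩ := (ringAut_invol hk φ hφ).resolve_left fun e => hφa (e a)
    obtain ⟨-, h2⟩ := (ringAut_invol hk ψ hψ).resolve_left fun e => hψb (e b)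
    exact fun c => (h1 c).trans (h2 c).symm
  obtain ⟨w, -, hw⟩ := h.inner_of_linear C (α := α * β) (by rw [mul_smul, hβ, hα]) (k := 1)
    (by rw [pow_one, pow_two, mul_assoc, ← mul_assoc β, ← hc, mul_assoc α β, hβ2, mul_one, hα2])
    (Act.mul ha hb hβ) (fun c => by rw [RingEquiv.trans_apply, ← hsame, hφ])
  exact ⟨w, hw⟩

/-- **Commutators in a 2-group of automorphisms fixing `S` are inner.** -/
theorem Facts.comm_inner {S : Sylow 2 X} {P : Subgroup (MulAut X)} (hP : IsPGroup 2 P)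
    (hfix : ∀ α ∈ P, α • S = S) {α β : MulAut X} (ha : α ∈ P) (hb : β ∈ P) : Inn (α * β * α⁻¹ * β⁻¹) := by
  obtain ⟨C⟩ := h.coord S
  obtain ⟨u, φ, hφ⟩ := C.semiA (hfix α ha)
  obtain ⟨v, ψ, hψ⟩ := C.semiA (hfix β hb)
  obtain ⟨u', φ', hφ'⟩ := C.semiA (hfix _ (inv_mem ha))
  obtain ⟨v', ψ', hψ'⟩ := C.semiA (hfix _ (inv_mem hb))
  obtain ⟨k, hk, -⟩ := h.card_F_pow C
  have hinv : ∀ (γ : MulAut X) (_ : γ • S = S) (w w' : C.Fˣ) (χ χ' : C.F ≃+* C.F), Act C γ w χ → Act C γ⁻¹ w' χ' →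
      ∀ a, χ (χ' a) = a := by
    intro γ hγ w w' χ χ' hw hw' a
    have hm := Act.mul hw hw' (by rw [inv_smul_eq_iff, hγ])
    rw [mul_inv_cancel] at hm
    obtain ⟨e1, e2⟩ := Act.one_eq hm (v := 1) (ψ := RingEquiv.refl C.F)
      (fun x _ => by simp [MulAut.one_apply])
    have := e2 a
    rwa [e1, one_mul, one_mul] at this
  have hcomm : ∀ χ χ' : C.F ≃+* C.F, ∀ a, χ (χ' a) = χ' (χ a) := by
    intro χ χ' a
    obtain ⟨i, -, hi⟩ := ringAut_pow hk χ
    obtain ⟨j, -, hj⟩ := ringAut_pow hk χ'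
    rw [hi, hj, hj, hi, ← pow_mul, ← pow_mul, mul_comm]
  obtain ⟨j, hj⟩ := hP ⟨_, mul_mem (mul_mem (mul_mem ha hb) (inv_mem ha)) (inv_mem hb)⟩
  obtain ⟨w, -, hw⟩ := h.inner_of_linear C (α := α * β * α⁻¹ * β⁻¹)
    (hfix _ (mul_mem (mul_mem (mul_mem ha hb) (inv_mem ha)) (inv_mem hb))) (k := j) (congrArg Subtype.val hj)
    (Act.mul (Act.mul (Act.mul hφ hψ (hfix β hb)) hφ' (hfix _ (inv_mem ha))) hψ' (hfix _ (inv_mem hb))) fun a => by
      simp only [RingEquiv.trans_apply]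
      rw [hcomm ψ, hinv α (hfix α ha) u u' φ φ' hφ hφ', hinv β (hfix β hb) v v' ψ ψ' hψ hψ']
  exact ⟨w, hw⟩

/-- No Suzuki group has a non-inner involutive automorphism. -/
theorem Facts.sz_inner (hp : p = (2 ^ m) ^ 2) {S : Sylow 2 X} {α : MulAut X} (hα : α • S = S)
    (h2 : α * α = 1) : Inn α := by
  by_contra hin
  obtain ⟨C⟩ := h.coord S
  obtain ⟨u, φ, -, -, hφ, a, hφa⟩ := h.act_invol C hα h2 hin
  obtain ⟨k, hk, -, hkm⟩ := h.card_F_pow C
  have hq := h.q_four
  have hodd : Odd m := by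
    rcases h.kind with ⟨e1, -⟩ | ⟨-, ho, -⟩ | ⟨e1, -⟩
    · exfalso; rw [hp, sq] at e1; nlinarith
    · exact ho
    · exact absurd (hp ▸ e1) (Nat.pow_lt_pow_right (by omega) (by omega : 2 < 3)).ne
  obtain ⟨hev, -⟩ := (ringAut_invol hk φ hφ).resolve_left fun e => hφa (e a)
  rw [hkm (hp ▸ (Nat.pow_lt_pow_right (by omega) (by omega : 2 < 3)).ne)] at hev
  exact Nat.not_even_iff_odd.mpr hodd hev

section Linear

variable (hp : p = 2 ^ m) {S : Sylow 2 X} {α : MulAut X} (hα : α • S = S) (h2 : α * α = 1) (hin : ¬ Inn α)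
include hp hα h2 hin

/-- In `L₂` a non-inner involutive automorphism fixes the traces only, a set of size `√q`. -/
theorem Facts.linear_fix : Nat.card {x : X // x ∈ (S : Subgroup X) ∧ α x = x} ^ 2 = 2 ^ m ∧
    ∀ x ∈ (S : Subgroup X), α x = x → ∃ y ∈ (S : Subgroup X), y * α y = x := by
  obtain ⟨C⟩ := h.coord S
  obtain ⟨u, φ, ha, hu, hφ, hne⟩ := h.act_invol C hα h2 hin
  obtain ⟨k, hk, -⟩ := h.card_F_pow C
  obtain ⟨hfix, htr⟩ := invol_fix hk φ hφ hne
  have hinj : ∀ x ∈ (S : Subgroup X), ∀ y ∈ (S : Subgroup X), C.π x = C.π y → x = y := fun x hx y hy e1 =>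
    inv_mul_eq_one.mp (h.ker_triv hp C (mul_mem (inv_mem hx) hy)
      ((C.ker _ (mul_mem (inv_mem hx) hy)).mpr ((C.eq_iff hx hy).mp e1)))
  -- a non-zero fixed coordinate
  obtain ⟨v0, hv0, hv0f⟩ : ∃ v0 : C.F, v0 ≠ 0 ∧ (u : C.F) * φ v0 = v0 := by
    obtain ⟨w, hw⟩ : ∃ w, w + (u : C.F) * φ w ≠ 0 := by
      by_contra hc
      push Not at hc
      have h1 := hc 1
      rw [map_one, mul_one, CharTwo.add_eq_zero] at h1
      obtain ⟨a, haφ⟩ := hne
      have := hc a
      rw [← h1, one_mul, CharTwo.add_eq_zero] at this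
      exact haφ this.symm
    refine ⟨_, hw, ?_⟩
    rw [map_add, map_mul, hφ, mul_add, ← mul_assoc, hu, one_mul, add_comm]
  have hiff : ∀ x ∈ (S : Subgroup X), α x = x ↔ φ (C.π x / v0) = C.π x / v0 := by
    intro x hx
    have e1 : (α x = x) ↔ (u : C.F) * φ (C.π x) = C.π x :=
      ⟨fun e2 => by rw [← ha x hx, e2], fun e2 => hinj _ ((fix_iff hα x).mp hx) _ hx ((ha x hx).trans e2)⟩
    rw [e1, map_div₀, div_eq_div_iff (fun e2 => hv0 (by simpa using congrArg φ.symm e2)) hv0]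
    constructor <;> intro e2
    · refine mul_left_cancel₀ u.ne_zero ?_
      linear_combination v0 * e2 - C.π x * hv0f
    · refine mul_right_cancel₀ hv0 ?_
      linear_combination (u : C.F) * e2 + C.π x * hv0f
  refine ⟨?_, fun x hx hfx => ?_⟩
  · have hF : Fintype.card C.F = 2 ^ m := by
      rw [h.card_F C, if_neg]
      rw [hp]
      have : (2 ^ m) ^ 1 < (2 ^ m) ^ 3 := Nat.pow_lt_pow_right (by have := h.q_four; omega) (by omega)
      rw [pow_one] at this
      exact this.ne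
    rw [← hF, ← hfix]
    congr 1
    refine Nat.card_congr (Equiv.ofBijective (fun x => ⟨C.π x.1 / v0, (hiff x.1 x.2.1).mp x.2.2⟩) ⟨?_, ?_⟩)
    · intro x' y' heq
      obtain ⟨x, hx, _⟩ := x'
      obtain ⟨y, hy, _⟩ := y'
      exact Subtype.ext (hinj x hx y hy ((div_left_inj' hv0).mp (congrArg Subtype.val heq)))
    · rintro ⟨a, haf⟩
      obtain ⟨x, hx, e1⟩ := C.surj (a * v0)
      exact ⟨⟨x, hx, (hiff x hx).mpr (by rw [e1, mul_div_cancel_right₀ _ hv0, haf])⟩,
        Subtype.ext (by show C.π x / v0 = a; rw [e1, mul_div_cancel_right₀ _ hv0])⟩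
  · obtain ⟨b, hb⟩ := htr _ ((hiff x hx).mp hfx)
    obtain ⟨y, hy, e1⟩ := C.surj (b * v0)
    refine ⟨y, hy, hinj _ (mul_mem hy ((fix_iff hα y).mp hy)) _ hx ?_⟩
    rw [C.hom _ hy _ ((fix_iff hα y).mp hy), ha y hy, e1, map_mul, mul_left_comm, hv0f, ← add_mul, hb,
      div_mul_cancel₀ _ hv0]

/-- Such an automorphism fixes a second Sylow subgroup. -/
theorem Facts.linear_second : ∃ V : Sylow 2 X, V ≠ S ∧ α • V = V := by
  obtain ⟨U, hU⟩ := two_le_sylow h S
  have hne : α • U ≠ S := fun e1 => hU (by rw [← hα] at e1; exact smul_left_cancel α e1)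
  obtain ⟨w, hw, hwU⟩ := h.move hU hne
  have hw' : α w ∈ (S : Subgroup X) := (fix_iff hα w).mp hw
  have hww : α w * w = 1 := h.eq_one_of_fix hU (mul_mem hw' hw) (by
    rw [mul_smul, hwU, ← smul_smul_sylow, hwU, ← mul_smul, h2, one_smul])
  have hwfix : α w = w := by
    rw [mul_eq_one_iff_eq_inv.mp hww, inv_eq_of_mul_eq_one_right (h.sq_eq_one_of_elem hp hw)]
  obtain ⟨y, hy, hyw⟩ := (h.linear_fix hp hα h2 hin).2 w hw hwfix
  have hy' : α y ∈ (S : Subgroup X) := (fix_iff hα y).mp hy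
  refine ⟨y • U, fun e1 => hU ?_, ?_⟩
  · rw [← smul_eq_self hy] at e1
    exact smul_left_cancel y e1
  · rw [smul_smul_sylow, ← hwU, ← mul_smul, ← hyw]
    congr 1
    rw [← mul_assoc, ← h.central hy (h.sq_eq_one_of_elem hp hy) hy', mul_assoc, h.sq_eq_one_of_elem hp hy', mul_one]

end Linear

/-- **An involutive automorphism of a non-elementary `S` fixes the elements of square one.** -/
theorem Facts.fix_omega (hp : p ≠ 2 ^ m) {S : Sylow 2 X} {θ : MulAut (S : Subgroup X)} (h2 : θ * θ = 1)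
    {z : (S : Subgroup X)} (hz : z * z = 1) : θ z = z := by
  obtain ⟨C⟩ := h.coord S
  obtain ⟨u, φ, ha⟩ := C.semiS hp θ
  have hz' : ((z : X)) * z = 1 := congrArg Subtype.val hz
  obtain ⟨y, hy, hyz⟩ := (C.ker z z.2).mp ((h.ker_iff hp C z.2).mpr hz')
  obtain rfl : z = (⟨y, hy⟩ : (S : Subgroup X)) * ⟨y, hy⟩ := Subtype.ext hyz.symm
  set b : (S : Subgroup X) := ⟨y, hy⟩
  have key : ∀ a, (u : C.F) * φ u * φ (φ a) = a := fun a => by
    obtain ⟨x, hx, rfl⟩ := C.surj a
    have := ha (θ ⟨x, hx⟩)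
    rw [← MulAut.mul_apply, h2, MulAut.one_apply, ha ⟨x, hx⟩, map_mul, ← mul_assoc] at this
    exact this.symm
  have hu : (u : C.F) * φ u = 1 := by simpa using key 1
  have hφ : ∀ a, φ (φ a) = a := fun a => by simpa [hu] using key a
  rw [map_mul]
  refine Subtype.ext ?_
  show (θ b : X) * θ b = y * y
  obtain ⟨k, hk, hk3, hk2⟩ := h.card_F_pow C
  have hq := h.q_four
  rcases ringAut_invol hk φ hφ with hid | ⟨hev, hpow⟩
  · -- linear, so trivial on the coordinates
    have hu1 : (u : C.F) = 1 := eq_one_of_pow_two (k := 1) (by rw [pow_one, pow_two]; rwa [hid] at hu)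
    have e1 : C.π (θ b : X) = C.π y := by rw [ha b, hu1, one_mul, hid]
    obtain ⟨w, hw, hw2⟩ := (C.eq_iff hy (θ b).2).mp e1.symm
    rw [show (θ b : X) = y * (w * w) by rw [hw2]; group]
    have hc := h.central (mul_mem hw hw) (h.sq_sq hw) hy
    calc y * (w * w) * (y * (w * w)) = y * ((w * w) * y) * (w * w) := by group
      _ = y * y * ((w * w) * (w * w)) := by rw [hc]; group
      _ = y * y := by rw [h.sq_sq hw, mul_one]
  · rcases h.kind_ne hp with ⟨hp2, ho, -⟩ | ⟨hp3, -⟩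
    · rw [hk2 (hp2 ▸ (Nat.pow_lt_pow_right (by omega) (by omega : 2 < 3)).ne)] at hev
      exact absurd hev (Nat.not_even_iff_odd.mpr ho)
    · rw [hk3 hp3, show 2 * m / 2 = m by omega] at hpow
      refine (C.norm hp3 _ (θ b).2 _ hy).mpr ?_
      rw [ha b, mul_pow, ← hpow, ← hpow, hφ]
      show (u : C.F) * φ (C.π y) * (φ u * C.π y) = _
      linear_combination (C.π y * φ (C.π y)) * hu + C.π y * hpow (C.π y)

end CfsgLib.RankOnePoint
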