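import Mathlib

/-!
Involutive automorphisms of a finite field of characteristic two.
-/

set_option autoImplicit false
set_option linter.unusedSectionVars false
set_option linter.style.haveILetI false

namespace CfsgLib.RankOnePoint

variable {F : Type*} [Field F] [Fintype F] [CharP F 2] {k : ℕ}

/-- Automorphisms are powers of the squaring. -/
theorem ringAut_pow (hk : Fintype.card F = 2 ^ k) (φ : F ≃+* F) : ∃ j < k, ∀ a : F, φ a = a ^ 2 ^ j := by
  haveI : Fact (Nat.Prime 2) := ⟨Nat.prime_two⟩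
  letI : Algebra (ZMod 2) F := ZMod.algebra F 2
  let ψ : F ≃ₐ[ZMod 2] F := AlgEquiv.ofRingEquiv (f := φ) fun x =>
    RingHom.congr_fun (Subsingleton.elim ((φ : F →+* F).comp (algebraMap (ZMod 2) F)) (algebraMap (ZMod 2) F)) x
  obtain ⟨⟨j, hj⟩, e⟩ := (FiniteField.bijective_frobeniusAlgEquivOfAlgebraic_pow (ZMod 2) F).2 ψ
  have h := Module.natCard_eq_pow_finrank (K := ZMod 2) (V := F)
  rw [Nat.card_eq_fintype_card, hk, Nat.card_zmod] at h
  refine ⟨j, by rw [Nat.pow_right_injective le_rfl h]; exact hj, fun a => ?_⟩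
  have h1 : φ a = (FiniteField.frobeniusAlgEquivOfAlgebraic (ZMod 2) F ^ j) a := (DFunLike.congr_fun e a).symm
  rw [h1, AlgEquiv.coe_pow, FiniteField.coe_frobeniusAlgEquivOfAlgebraic_iterate, ZMod.card]

theorem dvd_of_pow_fix (hk : Fintype.card F = 2 ^ k) {l : ℕ} (h : ∀ a : F, a ^ 2 ^ l = a) : k ∣ l := by
  obtain ⟨g, hg⟩ := IsCyclic.exists_ofOrder_eq_natCard (α := Fˣ)
  rw [Nat.card_units, Nat.card_eq_fintype_card, hk] at hg
  have h1 : g ^ (2 ^ l - 1) = 1 := by
    refine mul_left_cancel (a := g) ?_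
    rw [← pow_succ', Nat.sub_add_cancel Nat.one_le_two_pow, mul_one]
    exact Units.ext (by rw [Units.val_pow_eq_pow_val]; exact h g)
  have h2 := Nat.gcd_eq_left (hg ▸ orderOf_dvd_of_pow_eq_one h1)
  rw [Nat.pow_sub_one_gcd_pow_sub_one] at h2
  have h3 := Nat.one_le_two_pow (n := k.gcd l)
  have h4 := Nat.one_le_two_pow (n := k)
  have h5 : k.gcd l = k := Nat.pow_right_injective le_rfl (show 2 ^ k.gcd l = 2 ^ k by omega)
  exact h5 ▸ Nat.gcd_dvd_right k l

/-- There is at most one involutive automorphism besides the identity. -/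
theorem ringAut_invol (hk : Fintype.card F = 2 ^ k) (φ : F ≃+* F) (h : ∀ a, φ (φ a) = a) :
    (∀ a, φ a = a) ∨ (Even k ∧ ∀ a, φ a = a ^ 2 ^ (k / 2)) := by
  obtain ⟨j, hj, hφ⟩ := ringAut_pow hk φ
  have hd : k ∣ 2 * j := dvd_of_pow_fix hk fun a => by
    have := h a
    rw [hφ, hφ, ← pow_mul, ← pow_add] at this
    rwa [two_mul]
  rcases Nat.eq_zero_or_pos j with rfl | hj0
  · exact Or.inl fun a => by simpa using hφ a
  obtain ⟨c, hc⟩ := hd
  have hc2 : c < 2 := Nat.lt_of_mul_lt_mul_left (a := k) (by omega)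
  obtain rfl : c = 1 := by
    rcases c with _ | _ | c <;> omega
  rw [mul_one] at hc
  exact Or.inr ⟨⟨j, by omega⟩, fun a => by rw [hφ, show k / 2 = j by omega]⟩

/-- For the involutive automorphism the fixed elements are the traces, and there are `2 ^ (k / 2)` of them. -/
theorem invol_fix (hk : Fintype.card F = 2 ^ k) (φ : F ≃+* F) (h : ∀ a, φ (φ a) = a) (hne : ∃ a, φ a ≠ a) :
    Nat.card {a : F // φ a = a} ^ 2 = Fintype.card F ∧ ∀ a : F, φ a = a → ∃ b, b + φ b = a := by
  classical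
  obtain ⟨hev, hφ⟩ := (ringAut_invol hk φ h).resolve_left fun e => hne.elim fun a ha => ha (e a)
  let tr : F →+ F := AddMonoidHom.mk' (fun b => b + φ b) fun a b => by rw [map_add]; ring
  have hker : ∀ b, b ∈ tr.ker ↔ φ b = b := fun b => by
    show b + φ b = 0 ↔ _
    rw [CharTwo.add_eq_zero, eq_comm]
  have hran : ∀ b, b ∈ tr.range → φ b = b := by
    rintro _ ⟨a, rfl⟩
    show φ (a + φ a) = a + φ a
    rw [map_add, h, add_comm]
  have h1 := AddSubgroup.card_mul_index tr.ker
  rw [AddSubgroup.index_ker, Nat.card_eq_fintype_card (α := F)] at h1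
  have hle : Nat.card tr.range ≤ Nat.card tr.ker :=
    AddSubgroup.card_le_of_le fun b hb => (hker b).mpr (hran b hb)
  -- at most `2 ^ (k / 2)` fixed elements
  have hle2 : Nat.card tr.ker ≤ 2 ^ (k / 2) := by
    have h2 := Polynomial.card_le_degree_of_subset_roots (p := (Polynomial.X ^ 2 ^ (k / 2) - Polynomial.X : Polynomial F))
      (Z := Finset.univ.filter fun a => φ a = a) (fun a ha => by
        rw [Polynomial.mem_roots (FiniteField.X_pow_card_sub_X_ne_zero F (Nat.one_lt_two_pow (by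
          intro e
          exact hne.elim fun a ha => ha (by rw [hφ, e, pow_zero, pow_one]))))]
        simp only [Finset.mem_val, Finset.mem_filter] at ha
        simp [Polynomial.IsRoot, ← hφ, ha.2])
    rw [FiniteField.X_pow_card_sub_X_natDegree_eq F (Nat.one_lt_two_pow (by
          intro e
          exact hne.elim fun a ha => ha (by rw [hφ, e, pow_zero, pow_one])))] at h2
    refine le_trans (le_of_eq ?_) h2
    rw [Nat.card_eq_fintype_card, ← Fintype.card_subtype]
    exact Fintype.card_congr (Equiv.subtypeEquivRight hker)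
  have hq : (2 ^ (k / 2)) ^ 2 = Fintype.card F := by
    obtain ⟨r, hr⟩ := hev
    rw [hk, ← pow_mul]; congr 1; omega
  have hcard : Nat.card tr.ker = 2 ^ (k / 2) ∧ Nat.card tr.range = Nat.card tr.ker := by
    have h3 : Nat.card tr.ker * Nat.card tr.range ≤ Nat.card tr.ker * Nat.card tr.ker := Nat.mul_le_mul_left _ hle
    rw [h1, ← hq, sq] at h3
    have h4 : 2 ^ (k / 2) ≤ Nat.card tr.ker := by nlinarith
    have h5 : Nat.card tr.ker = 2 ^ (k / 2) := le_antisymm hle2 h4
    refine ⟨h5, ?_⟩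
    rw [← hq, sq, ← h5] at h1
    exact Nat.eq_of_mul_eq_mul_left Nat.card_pos h1
  refine ⟨?_, fun a ha => ?_⟩
  · rw [← hq, ← hcard.1]
    congr 1
    exact (Nat.card_congr (Equiv.subtypeEquivRight hker)).symm
  · obtain ⟨b, hb⟩ := (AddSubgroup.eq_of_le_of_card_ge (fun b hb => (hker b).mpr (hran b hb)) hcard.2.ge).ge
      ((hker a).mpr ha)
    exact ⟨b, hb⟩

end CfsgLib.RankOnePoint
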