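import Cfsg.Agent.Lib.RankOnePoint.Torus
import Cfsg.Agent.Lib.RankOnePoint.RingAut

/-!
The coordinates of a Sylow subgroup and the automorphisms of `N` fixing it: an automorphism trivial on the
coordinates is inner.

Blueprint: `blueprint/S2208.md`, F1 and INNER.
-/

set_option autoImplicit false
set_option linter.unusedSectionVars false
set_option linter.style.haveILetI false

namespace CfsgLib.RankOnePoint

open MulAction CfsgLib.BinaryCoset
open scoped Pointwise

universe u

attribute [instance] Coord.field Coord.fintype Coord.char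

variable {X : Type u} [Group X] {m p : ℕ}

section Basic

variable {S : Sylow 2 X} (C : Coord X S m p)

theorem Coord.map_one : C.π 1 = 0 := by
  have := C.hom 1 (one_mem _) 1 (one_mem _)
  rwa [mul_one, CharTwo.add_self_eq_zero] at this

theorem Coord.map_inv {x : X} (hx : x ∈ (S : Subgroup X)) : C.π x⁻¹ = C.π x := by
  have := C.hom x hx x⁻¹ (inv_mem hx)
  rw [mul_inv_cancel, C.map_one, eq_comm, CharTwo.add_eq_zero] at this
  exact this.symm

theorem Coord.map_conj {w x : X} (hw : w ∈ (S : Subgroup X)) (hx : x ∈ (S : Subgroup X)) :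
    C.π (w * x * w⁻¹) = C.π x := by
  rw [C.hom _ (mul_mem hw hx) _ (inv_mem hw), C.hom _ hw _ hx, C.map_inv hw, add_comm (C.π w), add_assoc,
    CharTwo.add_self_eq_zero, add_zero]

theorem Coord.map_sq {y : X} (hy : y ∈ (S : Subgroup X)) : C.π (y * y) = 0 := by
  rw [C.hom _ hy _ hy, CharTwo.add_self_eq_zero]

theorem Coord.eq_iff {x y : X} (hx : x ∈ (S : Subgroup X)) (hy : y ∈ (S : Subgroup X)) :
    C.π x = C.π y ↔ ∃ w ∈ (S : Subgroup X), w * w = x⁻¹ * y := by
  rw [← C.ker _ (mul_mem (inv_mem hx) hy), C.hom _ (inv_mem hx) _ hy, C.map_inv hx, CharTwo.add_eq_zero]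

theorem mem_smul_iff {α : MulAut X} {S : Sylow 2 X} {x : X} :
    x ∈ ((α • S : Sylow 2 X) : Subgroup X) ↔ α⁻¹ x ∈ (S : Subgroup X) := by
  rw [Sylow.pointwise_smul_def, Subgroup.mem_pointwise_smul_iff_inv_smul_mem, MulAut.smul_def]

theorem fix_iff {α : MulAut X} {S : Sylow 2 X} (hα : α • S = S) (x : X) :
    x ∈ (S : Subgroup X) ↔ α x ∈ (S : Subgroup X) := by
  conv_rhs => rw [← hα, mem_smul_iff, MulAut.inv_apply_self]

theorem Coord.semiA {α : MulAut X} (hα : α • S = S) :
    ∃ (u : C.Fˣ) (φ : C.F ≃+* C.F), ∀ x ∈ (S : Subgroup X), C.π (α x) = u * φ (C.π x) :=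
  C.semi α (fix_iff hα)

/-- An automorphism fixing `S` acts on the coordinates through the coordinates. -/
theorem Coord.congr {α : MulAut X} (hα : α • S = S) {x y : X} (hx : x ∈ (S : Subgroup X))
    (hy : y ∈ (S : Subgroup X)) (e : C.π x = C.π y) : C.π (α x) = C.π (α y) := by
  obtain ⟨u, φ, h⟩ := C.semiA hα
  rw [h x hx, h y hy, e]

theorem smul_conj {α : MulAut X} (g : X) : α * MulAut.conj g = MulAut.conj (α g) * α :=
  MulEquiv.ext fun x => by simp

theorem smul_smul_sylow {α : MulAut X} {g : X} {S : Sylow 2 X} : α • g • S = α g • α • S := by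
  rw [Sylow.smul_def, Sylow.smul_def, ← mul_smul, smul_conj, mul_smul]

theorem eq_self_of_fix_all [Finite X] [IsSimpleGroup X] (hX : ¬ IsMulCommutative X) {α : MulAut X}
    (hα : ∀ U : Sylow 2 X, α • U = U) : α = 1 := by
  haveI := CfsgLib.CyclicInt.faithful_sylow hX
  refine MulEquiv.ext fun g => ?_
  refine eq_of_smul_eq_smul (α := Sylow 2 X) fun U => ?_
  have h1 : α • g • U = α g • α • U := smul_smul_sylow
  rw [hα, hα] at h1
  exact h1.symm

end Basic

variable [Finite X] [IsSimpleGroup X] {e : ℕ} (h : Facts X m p e)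
include h

theorem Facts.ker_sq {S : Sylow 2 X} (C : Coord X S m p) {x : X} (hx : x ∈ (S : Subgroup X))
    (h0 : C.π x = 0) : x * x = 1 := by
  obtain ⟨y, hy, rfl⟩ := (C.ker x hx).mp h0
  exact h.sq_sq hy

/-- The kernel of the coordinates: the elements of square one when `S` is not elementary, else trivial. -/
theorem Facts.card_ker {S : Sylow 2 X} (C : Coord X S m p) :
    Nat.card {x : X // x ∈ (S : Subgroup X) ∧ C.π x = 0} * Fintype.card C.F = p := by
  let f : (S : Subgroup X) →* Multiplicative C.F :=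
    { toFun := fun x => Multiplicative.ofAdd (C.π x)
      map_one' := by simp [C.map_one]
      map_mul' := fun x y => by simp [C.hom x x.2 y y.2] }
  have hsurj : Function.Surjective f := fun v => by
    obtain ⟨x, hx, e⟩ := C.surj (Multiplicative.toAdd v)
    exact ⟨⟨x, hx⟩, by simp [f, e]⟩
  have h1 := Subgroup.card_mul_index f.ker
  rw [Subgroup.index_ker, MonoidHom.range_eq_top.mpr hsurj, Subgroup.card_top, h.card_sylow] at h1
  rw [Nat.card_congr (Multiplicative.toAdd (α := C.F)), Nat.card_eq_fintype_card (α := C.F)] at h1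
  convert h1 using 2
  exact Nat.card_congr
    { toFun := fun x => ⟨⟨x.1, x.2.1⟩, by rw [MonoidHom.mem_ker]; simp [f, x.2.2]⟩
      invFun := fun x => ⟨x.1.1, x.1.2, by simpa [f] using (MonoidHom.mem_ker.mp x.2)⟩
      left_inv := fun _ => rfl
      right_inv := fun _ => rfl }

theorem Facts.card_F {S : Sylow 2 X} (C : Coord X S m p) :
    Fintype.card C.F = (if p = (2 ^ m) ^ 3 then (2 ^ m) ^ 2 else 2 ^ m) := C.card

/-- For non-elementary `S` the kernel of the coordinates consists of the elements of square one. -/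
theorem Facts.ker_iff (hp : p ≠ 2 ^ m) {S : Sylow 2 X} (C : Coord X S m p) {x : X} (hx : x ∈ (S : Subgroup X)) :
    C.π x = 0 ↔ x * x = 1 := by
  refine ⟨h.ker_sq C hx, fun hx2 => ?_⟩
  let f : {x : X // x ∈ (S : Subgroup X) ∧ C.π x = 0} → {x : X // x ∈ (S : Subgroup X) ∧ x * x = 1} :=
    fun x => ⟨x.1, x.2.1, h.ker_sq C x.2.1 x.2.2⟩
  have hf : Function.Injective f := fun a b e => Subtype.ext (congrArg Subtype.val e :)
  have hc := h.card_ker C
  rw [h.card_F C] at hc
  have hk : Nat.card {x : X // x ∈ (S : Subgroup X) ∧ C.π x = 0} = 2 ^ m := by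
    have hq := h.q_four
    rcases h.kind_ne hp with ⟨hk, -, -⟩ | ⟨hk, -⟩
    · rw [if_neg (fun e => by
        have : (2 ^ m) ^ 2 < (2 ^ m) ^ 3 := Nat.pow_lt_pow_right (by omega) (by omega)
        omega)] at hc
      exact Nat.eq_of_mul_eq_mul_right (by omega) (hc.trans (hk.trans (sq _)))
    · rw [if_pos hk] at hc
      exact Nat.eq_of_mul_eq_mul_right (by positivity) (hc.trans (hk.trans (pow_succ' (2 ^ m) 2)))
  obtain ⟨⟨y, hy⟩, e⟩ := (hf.bijective_of_nat_card_le (by rw [hk, h.card_sq_one])).surjective ⟨x, hx, hx2⟩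
  obtain rfl : y = x := congrArg Subtype.val e
  exact hy.2

/-- For elementary `S` the coordinates are faithful. -/
theorem Facts.ker_triv (hp : p = 2 ^ m) {S : Sylow 2 X} (C : Coord X S m p) {x : X} (hx : x ∈ (S : Subgroup X))
    (h0 : C.π x = 0) : x = 1 := by
  have hc := h.card_ker C
  rw [h.card_F C, if_neg (fun e => by
    have hq := h.q_four
    have : (2 ^ m) ^ 1 < (2 ^ m) ^ 3 := Nat.pow_lt_pow_right (by omega) (by omega)
    rw [pow_one] at this
    omega)] at hc
  have hk : Nat.card {x : X // x ∈ (S : Subgroup X) ∧ C.π x = 0} = 1 :=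
    Nat.eq_of_mul_eq_mul_right (by positivity) (hc.trans (hp.trans (one_mul _).symm))
  haveI := (Nat.card_eq_one_iff_unique.mp hk).1
  exact congrArg Subtype.val (Subsingleton.elim
    (⟨x, hx, h0⟩ : {x : X // x ∈ (S : Subgroup X) ∧ C.π x = 0}) ⟨1, one_mem _, C.map_one⟩)

theorem Facts.sq_eq_one_of_elem (hp : p = 2 ^ m) {S : Sylow 2 X} {x : X} (hx : x ∈ (S : Subgroup X)) :
    x * x = 1 := by
  obtain ⟨C⟩ := h.coord S
  exact h.ker_triv hp C (mul_mem hx hx) (C.map_sq hx)

theorem Facts.comm_false (hp : p ≠ 2 ^ m) {S : Sylow 2 X}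
    (hc : ∀ x ∈ (S : Subgroup X), ∀ y ∈ (S : Subgroup X), x * y = y * x) : False := by
  obtain ⟨t, c⟩ := exists_ctx h.nonab h.ti S
  refine hp ?_
  rw [← h.card_sylow S, ← h.card_sq_one S]
  exact Nat.card_congr
    { toFun := fun g => ⟨g.1, g.2, (c.mem_Z_of_central g.2 (fun s hs => hc _ g.2 _ hs)).2⟩
      invFun := fun g => ⟨g.1, g.2.1⟩
      left_inv := fun _ => rfl
      right_inv := fun _ => rfl }

/-- An automorphism trivial on the coordinates and fixing a second Sylow subgroup is trivial. -/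
theorem Facts.eq_one_of_triv {S U : Sylow 2 X} (C : Coord X S m p) (hU : U ≠ S) {β : MulAut X}
    (hS : β • S = S) (hβU : β • U = U) (hπ : ∀ x ∈ (S : Subgroup X), C.π (β x) = C.π x) : β = 1 := by
  classical
  have hconj : ∀ g : X, g • S = S → (MulAut.conj g : MulAut X) • S = S := fun g hg => hg
  -- `β` fixes the torus
  have hD : ∀ d ∈ torus S U, β d = d := by
    intro d hd
    have hβd : β d ∈ torus S U := by
      obtain ⟨h1, h2⟩ := mem_torus.mp hd
      refine mem_torus.mpr ⟨?_, ?_⟩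
      · conv_lhs => rw [← hS]
        rw [← smul_smul_sylow, h1, hS]
      · conv_lhs => rw [← hβU]
        rw [← smul_smul_sylow, h2, hβU]
    set δ := d⁻¹ * β d with hδ
    have hδT : δ ∈ torus S U := mul_mem (inv_mem hd) hβd
    have hδπ : ∀ x ∈ (S : Subgroup X), C.π (δ * x * δ⁻¹) = C.π x := by
      intro x hx
      have hdx : d * x * d⁻¹ ∈ (S : Subgroup X) := conj_mem_of_fix (mem_torus.mp hd).1 hx
      have hbx : β x ∈ (S : Subgroup X) := (fix_iff hS x).mp hx
      have e1 : C.π (β d * x * (β d)⁻¹) = C.π (d * x * d⁻¹) := by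
        rw [← hπ _ hdx]
        have := C.congr (hconj _ (mem_torus.mp hβd).1) hx hbx (hπ x hx).symm
        simp only [MulAut.conj_apply] at this
        rw [this, map_mul, map_mul, map_inv]
      have hbd : β d * x * (β d)⁻¹ ∈ (S : Subgroup X) := conj_mem_of_fix (mem_torus.mp hβd).1 hx
      have := C.congr (hconj _ (mem_torus.mp (inv_mem hd)).1) hbd hdx e1
      simp only [MulAut.conj_apply] at this
      rw [show δ * x * δ⁻¹ = d⁻¹ * (β d * x * (β d)⁻¹) * d⁻¹⁻¹ by rw [hδ]; group, this,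
        show d⁻¹ * (d * x * d⁻¹) * d⁻¹⁻¹ = x by group]
    have hδ1 : δ = 1 := by
      by_contra hne
      by_cases hp : p = 2 ^ m
      · refine hne (h.eq_one_of_cent hU hδT fun s hs => ?_)
        have hm : δ * s * δ⁻¹ ∈ (S : Subgroup X) := conj_mem_of_fix (mem_torus.mp hδT).1 hs
        have := h.ker_triv hp C (mul_mem (inv_mem hm) hs) ((C.ker _ (mul_mem (inv_mem hm) hs)).mpr
          ((C.eq_iff hm hs).mp (hδπ s hs)))
        exact mul_inv_eq_iff_eq_mul.mp (inv_mul_eq_one.mp this)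
      · obtain ⟨t, c⟩ := exists_ctx h.nonab h.ti S
        refine hp ?_
        rw [← h.card_sylow S, ← h.card_sq_one S]
        have key : ∀ g ∈ (S : Subgroup X), g ∈ c.Z := fun g hg => by
          refine h.fpf hU hδT hne (fun z hz hz2 => c.mem_Z.mpr ⟨hz, hz2⟩) c.Z_le
            (fun w hw => c.conj_mem_Z (mem_torus.mp hδT).1 hw) hg ?_
          have hm : δ * g * δ⁻¹ ∈ (S : Subgroup X) := conj_mem_of_fix (mem_torus.mp hδT).1 hg
          have hmg : δ * g * δ⁻¹ * g⁻¹ ∈ (S : Subgroup X) := mul_mem hm (inv_mem hg)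
          refine c.mem_Z.mpr ⟨hmg, h.ker_sq C hmg ?_⟩
          rw [C.hom _ hm _ (inv_mem hg), hδπ g hg, C.map_inv hg, CharTwo.add_self_eq_zero]
        exact Nat.card_congr
          { toFun := fun g => ⟨g.1, g.2, (c.mem_Z.mp (key g g.2)).2⟩
            invFun := fun g => ⟨g.1, g.2.1⟩
            left_inv := fun _ => rfl
            right_inv := fun _ => rfl }
    rw [hδ, inv_mul_eq_one] at hδ1
    exact hδ1.symm
  -- `β` fixes `S` pointwise
  have hS1 : ∀ x ∈ (S : Subgroup X), β x = x := by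
    by_cases hp : p = 2 ^ m
    · intro x hx
      have hbx : β x ∈ (S : Subgroup X) := (fix_iff hS x).mp hx
      exact inv_mul_eq_one.mp (h.ker_triv hp C (mul_mem (inv_mem hbx) hx)
        ((C.ker _ (mul_mem (inv_mem hbx) hx)).mpr ((C.eq_iff hbx hx).mp (hπ x hx))))
    let ψ : X → X := fun x => x⁻¹ * β x
    have hψmem : ∀ x ∈ (S : Subgroup X), ψ x ∈ (S : Subgroup X) ∧ ψ x * ψ x = 1 := by
      intro x hx
      have hbx : β x ∈ (S : Subgroup X) := (fix_iff hS x).mp hx
      refine ⟨mul_mem (inv_mem hx) hbx, h.ker_sq C (mul_mem (inv_mem hx) hbx) ?_⟩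
      rw [C.hom _ (inv_mem hx) _ hbx, C.map_inv hx, hπ x hx, CharTwo.add_self_eq_zero]
    have hψmul : ∀ x ∈ (S : Subgroup X), ∀ y ∈ (S : Subgroup X), ψ (x * y) = ψ x * ψ y := by
      intro x hx y hy
      have hc := h.central (hψmem x hx).1 (hψmem x hx).2 (inv_mem hy)
      show (x * y)⁻¹ * β (x * y) = ψ x * (y⁻¹ * β y)
      rw [map_mul, show (x * y)⁻¹ * (β x * β y) = y⁻¹ * (x⁻¹ * β x) * β y by group, ← hc]
      simp only [ψ]
      group
    have hψd : ∀ d ∈ torus S U, ∀ x, ψ (d * x * d⁻¹) = d * ψ x * d⁻¹ := by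
      intro d hd x
      simp only [ψ, map_mul, map_inv, hD d hd]
      group
    have hZ : ∀ z ∈ (S : Subgroup X), z * z = 1 → ψ z = 1 := by
      intro z hz hz2
      obtain ⟨y, hy, rfl⟩ := (C.ker z hz).mp ((h.ker_iff hp C hz).mpr hz2)
      rw [hψmul y hy y hy]
      exact (hψmem y hy).2
    let K : Subgroup X :=
      { carrier := {x | x ∈ (S : Subgroup X) ∧ ψ x = 1}
        one_mem' := ⟨one_mem _, by simp [ψ]⟩
        mul_mem' := fun {x y} hx hy => ⟨mul_mem hx.1 hy.1, by rw [hψmul x hx.1 y hy.1, hx.2, hy.2, one_mul]⟩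
        inv_mem' := fun {x} hx => ⟨inv_mem hx.1, by
          have := hψmul x hx.1 x⁻¹ (inv_mem hx.1)
          rw [mul_inv_cancel, hx.2, one_mul] at this
          rw [← this]; simp [ψ]⟩ }
    intro x hx
    by_contra hne
    have hxK : x ∉ K := fun hk => hne (inv_mul_eq_one.mp hk.2).symm
    -- the conjugates of `x` under the torus have distinct images
    let f : torus S U → {z : X // z ∈ (S : Subgroup X) ∧ z * z = 1 ∧ z ≠ 1} := fun d =>
      ⟨ψ ((d : X) * x * (d : X)⁻¹), (hψmem _ (conj_mem_of_fix (mem_torus.mp d.2).1 hx)).1,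
        (hψmem _ (conj_mem_of_fix (mem_torus.mp d.2).1 hx)).2, fun e => by
          rw [hψd d d.2] at e
          exact hxK ⟨hx, conj_eq_one_iff.mp e⟩⟩
    have hf : Function.Injective f := by
      intro d d' e
      have e' : ψ ((d : X) * x * (d : X)⁻¹) = ψ ((d' : X) * x * (d' : X)⁻¹) := congrArg Subtype.val e
      set g : X := (d' : X)⁻¹ * d with hg
      have hgT : g ∈ torus S U := mul_mem (inv_mem d'.2) d.2
      have hgx : g * x * g⁻¹ ∈ (S : Subgroup X) := conj_mem_of_fix (mem_torus.mp hgT).1 hx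
      have hψg : ψ (g * x * g⁻¹) = ψ x := by
        rw [hg, show (d' : X)⁻¹ * d * x * ((d' : X)⁻¹ * d)⁻¹ = (d' : X)⁻¹ * ((d : X) * x * (d : X)⁻¹) * (d' : X)⁻¹⁻¹
          by group, hψd _ (inv_mem d'.2), e', hψd _ d'.2]
        group
      by_contra hdd
      refine hxK (h.fpf (K := K) hU hgT (fun e1 => hdd (Subtype.ext (inv_mul_eq_one.mp e1).symm)) (fun z hz hz2 =>
        ⟨hz, hZ z hz hz2⟩) (fun w hw => hw.1) (fun w hw => ⟨conj_mem_of_fix (mem_torus.mp hgT).1 hw.1, by
          rw [hψd g hgT, hw.2, mul_one, mul_inv_cancel]⟩) hx ⟨mul_mem hgx (inv_mem hx), ?_⟩)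
      have hinv := hψmul x hx x⁻¹ (inv_mem hx)
      rw [mul_inv_cancel, show ψ 1 = 1 by simp [ψ]] at hinv
      rw [hψmul _ hgx _ (inv_mem hx), hψg, ← hinv]
    have hle := Nat.card_le_card_of_injective f hf
    rw [h.card_torus hU] at hle
    have hcard : Nat.card {z : X // z ∈ (S : Subgroup X) ∧ z * z = 1 ∧ z ≠ 1} + 1 = 2 ^ m := by
      rw [← h.card_sq_one S, show Nat.card {z : X // z ∈ (S : Subgroup X) ∧ z * z = 1 ∧ z ≠ 1} =
        (({z | z ∈ (S : Subgroup X) ∧ z * z = 1} : Set X) \ {1}).ncard by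
          rw [← Nat.card_coe_set_eq]
          exact Nat.card_congr (Equiv.subtypeEquivRight fun z => by simp [and_assoc]),
        Set.ncard_sdiff_singleton_add_one (s := {z | z ∈ (S : Subgroup X) ∧ z * z = 1})
          (⟨one_mem _, one_mul 1⟩ : (1 : X) ∈ ({z | z ∈ (S : Subgroup X) ∧ z * z = 1} : Set X))]
      rfl
    have hq := h.q_four
    rcases h.kind_ne hp with ⟨hp2, -, he⟩ | ⟨-, he⟩
    · -- Suzuki: the squaring would be a homomorphism
      refine h.comm_false hp (S := S) fun a ha b hb => ?_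
      have hbij : Function.Bijective f := hf.bijective_of_nat_card_le (by rw [h.card_torus hU, he, mul_one]; omega)
      have hx2 : x * x ≠ 1 := fun e2 => hxK ⟨hx, hZ x hx e2⟩
      have hψx : ψ x ≠ 1 := fun e1 => hxK ⟨hx, e1⟩
      obtain ⟨d1, hd1, hd1e⟩ := h.torus_trans hU (hψmem x hx).1 hψx (hψmem x hx).2 (mul_mem hx hx) hx2 (h.sq_sq hx)
      -- squaring is `ψ` followed by `d1`
      have key : ∀ y ∈ (S : Subgroup X), y * y = d1 * ψ y * d1⁻¹ := by
        intro y hy
        by_cases hy0 : C.π y = 0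
        · have hy2 := h.ker_sq C hy hy0
          rw [hy2, hZ y hy hy2, mul_one, mul_inv_cancel]
        let g : torus S U → {v : C.F // v ≠ 0} := fun d => ⟨C.π ((d : X) * x * (d : X)⁻¹), fun e1 => hxK ⟨hx, by
          have h1 := conj_mem_of_fix (mem_torus.mp d.2).1 hx
          have h2 := hZ _ h1 (h.ker_sq C h1 e1)
          rw [hψd d d.2] at h2
          exact conj_eq_one_iff.mp h2⟩⟩
        have hg : Function.Injective g := fun d d' e1 => hf (Subtype.ext (by
          have h1 := conj_mem_of_fix (mem_torus.mp d.2).1 hx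
          have h2 := conj_mem_of_fix (mem_torus.mp d'.2).1 hx
          obtain ⟨w, hw, hw2⟩ := (C.eq_iff h1 h2).mp (congrArg Subtype.val e1)
          show ψ ((d : X) * x * (d : X)⁻¹) = ψ ((d' : X) * x * (d' : X)⁻¹)
          rw [show (d' : X) * x * (d' : X)⁻¹ = ((d : X) * x * (d : X)⁻¹) * (w * w) by rw [hw2]; group,
            hψmul _ h1 _ (mul_mem hw hw), hZ _ (mul_mem hw hw) (h.sq_sq hw), mul_one]))
        have hcF : Nat.card {v : C.F // v ≠ 0} = 2 ^ m - 1 := by
          have h3 := Nat.card_congr (Equiv.optionSubtypeNe (0 : C.F))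
          rw [Finite.card_option, Nat.card_eq_fintype_card (α := C.F), h.card_F C, if_neg (fun e2 => by
            have : (2 ^ m) ^ 2 < (2 ^ m) ^ 3 := Nat.pow_lt_pow_right (by omega) (by omega)
            omega)] at h3
          omega
        obtain ⟨d, hd⟩ := (hg.bijective_of_nat_card_le (by
          rw [hcF, h.card_torus hU, he, mul_one])).surjective ⟨C.π y, hy0⟩
        have hdx := conj_mem_of_fix (mem_torus.mp d.2).1 hx
        obtain ⟨w, hw, hw2⟩ := (C.eq_iff hdx hy).mp (congrArg Subtype.val hd)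
        have hy' : y = ((d : X) * x * (d : X)⁻¹) * (w * w) := by rw [hw2]; group
        have hψy : ψ y = (d : X) * ψ x * (d : X)⁻¹ := by
          rw [hy', hψmul _ hdx _ (mul_mem hw hw), hZ _ (mul_mem hw hw) (h.sq_sq hw), mul_one, hψd d d.2]
        have hc := h.central (mul_mem hw hw) (h.sq_sq hw) hdx
        calc y * y = ((d : X) * x * (d : X)⁻¹) * ((w * w) * ((d : X) * x * (d : X)⁻¹)) * (w * w) := by
              rw [hy']; group
          _ = ((d : X) * x * (d : X)⁻¹) * ((d : X) * x * (d : X)⁻¹) * ((w * w) * (w * w)) := by rw [hc]; group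
          _ = (d : X) * (x * x) * (d : X)⁻¹ := by rw [h.sq_sq hw]; group
          _ = ((d : X) * d1) * ψ x * ((d : X) * d1)⁻¹ := by rw [← hd1e]; group
          _ = d1 * ψ y * d1⁻¹ := by rw [hψy, h.torus_comm' hU d.2 hd1]; group
      have hab : a * b * (a * b) = a * a * (b * b) := by
        rw [key _ (mul_mem ha hb), key _ ha, key _ hb, hψmul a ha b hb]
        group
      have h' : a * (b * a) * b = a * (a * b) * b := by simpa [mul_assoc] using hab
      exact (mul_left_cancel (mul_right_cancel h')).symm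
    · have : 2 * (2 ^ m - 1) ≤ (2 ^ m - 1) * e := by
        rw [mul_comm]
        exact Nat.mul_le_mul_left _ (by omega)
      omega
  refine eq_self_of_fix_all h.nonab fun V => ?_
  by_cases hV : V = S
  · rw [hV, hS]
  obtain ⟨s, hs, rfl⟩ := h.move hU hV
  rw [smul_smul_sylow, hS1 s hs, hβU]

end CfsgLib.RankOnePoint
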