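import Cfsg.Agent.Lib.RankOnePoint.Model

/-!
The interfaces of the parts of the proof: the facts on `N`, the property H1, and the affine plane at the end.

Blueprint: `blueprint/S2208.md`, revision 3.
-/

set_option autoImplicit false
set_option linter.unusedSectionVars false

namespace CfsgLib.RankOnePoint

open MulAction CfsgLib.BinaryCoset
open scoped Pointwise

universe u v

/-- Coordinates of a Sylow 2-subgroup modulo its squares, semilinear for the automorphisms. -/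
structure Coord (X : Type u) [Group X] (S : Sylow 2 X) (m p : ℕ) where
  F : Type
  [field : Field F]
  [fintype : Fintype F]
  [char : CharP F 2]
  π : X → F
  /-- The size of the field: `q²` for the unitary groups, `q` otherwise. -/
  card : Fintype.card F = if p = (2 ^ m) ^ 3 then (2 ^ m) ^ 2 else 2 ^ m
  hom : ∀ x ∈ (S : Subgroup X), ∀ y ∈ (S : Subgroup X), π (x * y) = π x + π y
  surj : ∀ v : F, ∃ x ∈ (S : Subgroup X), π x = v
  ker : ∀ x ∈ (S : Subgroup X), π x = 0 ↔ ∃ y ∈ (S : Subgroup X), y * y = x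
  semi : ∀ α : MulAut X, (∀ x : X, x ∈ (S : Subgroup X) ↔ α x ∈ (S : Subgroup X)) →
    ∃ (u : Fˣ) (φ : F ≃+* F), ∀ x ∈ (S : Subgroup X), π (α x) = u * φ (π x)
  semiS : p ≠ 2 ^ m → ∀ θ : MulAut (S : Subgroup X),
    ∃ (u : Fˣ) (φ : F ≃+* F), ∀ x : (S : Subgroup X), π (θ x : X) = u * φ (π x)
  norm : p = (2 ^ m) ^ 3 → ∀ x ∈ (S : Subgroup X), ∀ y ∈ (S : Subgroup X),
    (x * x = y * y ↔ π x * π x ^ 2 ^ m = π y * π y ^ 2 ^ m)

/-- The facts on `N`: `q = 2 ^ m`, Sylow subgroups of order `p`, normalisers of index `p + 1` and order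
`p (q - 1) e`. -/
structure Facts (X : Type u) [Group X] [Finite X] (m p e : ℕ) : Prop where
  simple : IsSimpleGroup X
  nonab : ¬ IsMulCommutative X
  ti : CfsgLib.CyclicInt.TI X
  two_le : 2 ≤ m
  kind : (p = 2 ^ m ∧ e = 1) ∨ (p = (2 ^ m) ^ 2 ∧ Odd m ∧ e = 1) ∨
    (p = (2 ^ m) ^ 3 ∧ (e = 2 ^ m + 1 ∨ 3 * e = 2 ^ m + 1))
  card_sylow : ∀ S : Sylow 2 X, Nat.card (S : Subgroup X) = p
  card_sq_one : ∀ S : Sylow 2 X, Nat.card {x : X // x ∈ (S : Subgroup X) ∧ x * x = 1} = 2 ^ m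
  centSq : CentSq X
  card_stab : ∀ S : Sylow 2 X, Nat.card (stabilizer X S) = p * ((2 ^ m - 1) * e)
  torus_comm : ∀ (S : Sylow 2 X) (x y : X), x • S = S → y • S = S → x * y * x⁻¹ * y⁻¹ ∈ (S : Subgroup X)
  torus_cyclic : ∀ S : Sylow 2 X, ∃ g : X, g • S = S ∧
    ∀ x : X, x • S = S → ∃ k : ℕ, x⁻¹ * g ^ k ∈ (S : Subgroup X)
  coord : ∀ S : Sylow 2 X, Nonempty (Coord X S m p)
  alt_five : p = 4 → Nonempty (X ≃* ↥(alternatingGroup (Fin 5)))

variable {G : Type u} {Ω : Type v} [Group G] [MulAction G Ω]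

/-- A member fixing the point lies in `N`. -/
def H1 (a : Ω) (N : Subgroup G) : Prop := ∀ x ∈ cls N, x • a = a → x ∈ N

/-- The regular normal subgroup of the statement. -/
def HasRegularNormal (G : Type u) (Ω : Type v) [Group G] [MulAction G Ω] : Prop :=
  ∃ R : Subgroup G, R.Normal ∧ (∀ x y : Ω, ∃ r ∈ R, r • x = y) ∧ ∀ x : Ω, ∀ r ∈ R, r • x = x → r = 1

/-- The incidence properties of the affine plane: the members of `J` are the elations, their fixed points the lines. -/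
structure Plane0 (G : Type u) (Ω : Type v) [Group G] [MulAction G Ω] (J : Set G) (q p : ℕ) : Prop where
  trans : ∀ x y x' y' : Ω, x ≠ y → x' ≠ y' → ∃ g : G, g • x = x' ∧ g • y = y'
  q_even : Even q
  p_even : Even p
  two_le_q : 2 ≤ q
  two_le_p : 2 ≤ p
  invol : ∀ x ∈ J, Invol x
  conj : ∀ x ∈ J, ∀ g : G, g * x * g⁻¹ ∈ J
  card : Nat.card Ω = p * p
  card_line : ∀ x ∈ J, Nat.card {c : Ω // x • c = c} = p
  join : ∀ c d : Ω, ∃ x ∈ J, x • c = c ∧ x • d = d
  unique : ∀ x ∈ J, ∀ y ∈ J, ∀ c d : Ω, c ≠ d → x • c = c → x • d = d → y • c = c → y • d = d →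
    fixedBy Ω x = fixedBy Ω y
  mult : ∀ x ∈ J, Nat.card {y : G // y ∈ J ∧ fixedBy Ω y = fixedBy Ω x} = q - 1
  axis : ∀ x ∈ J, ∀ y ∈ J, (∀ c ∈ fixedBy Ω y, x • c ∈ fixedBy Ω y) →
    fixedBy Ω y = fixedBy Ω x ∨ Disjoint (fixedBy Ω y) (fixedBy Ω x)

/-- The affine plane at the end: an element of a parallel class fixing a point is a member. -/
structure Plane (G : Type u) (Ω : Type v) [Group G] [MulAction G Ω] (J : Set G) (q p : ℕ) : Prop
    extends Plane0 G Ω J q p where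
  persp : ∀ x ∈ J, ∀ e ∈ Subgroup.closure
      {y | y ∈ J ∧ (fixedBy Ω y = fixedBy Ω x ∨ Disjoint (fixedBy Ω y) (fixedBy Ω x))},
    (∃ c : Ω, e • c = c) → e = 1 ∨ e ∈ J

end CfsgLib.RankOnePoint
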