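import Cfsg.Agent.Lib.RankOnePoint.AtPoint
import Cfsg.Agent.Lib.RankOnePoint.Small

/-!
No Sylow subgroup of `N` fixing a second point: a member fixing the point lies in `N`.

Blueprint: `blueprint/S2208.md`, part A, the case Ev.
-/

set_option autoImplicit false
set_option linter.unusedSectionVars false
set_option linter.style.haveILetI false

namespace CfsgLib.RankOnePoint

open MulAction CfsgLib.BinaryCoset
open scoped Pointwise

universe u v

/-- The counting equations leave twice the involutions for the other points. -/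
theorem ev_arith {n i f f0 w J K : ℕ} (hn : Odd n) (hn2 : 2 ≤ n) (hi : Odd i) (hK : 1 ≤ K) (hf : 1 ≤ f)
    (hf0 : 1 ≤ f0) (h1 : i * (f - 1) = (n - 1) * (2 * K + 1)) (h2 : i * (f0 - 1) = (n - 1) * K)
    (h3 : f0 * w + (2 * K + 1) = i) (h4 : J * f0 = n * i) : n - 1 = 2 * i ∧ f0 = 2 * K + 1 := by
  have hn1 : 1 ≤ n := by omega
  have hn0 : Even ((n : ℤ) - 1) := by
    obtain ⟨r, hr⟩ := hn
    exact ⟨r, by omega⟩
  have hi0 : 0 < i := hi.pos
  zify [hn1, hf, hf0] at h1 h2 h3 h4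
  set A : ℤ := (f : ℤ) - 1 - 2 * ((f0 : ℤ) - 1) with hAdef
  have hA : (n : ℤ) - 1 = i * A := by rw [hAdef]; linear_combination -h1 + 2 * h2
  have hf0A : (f0 : ℤ) - 1 = A * K := by
    refine mul_left_cancel₀ (show (i : ℤ) ≠ 0 by omega) ?_
    linear_combination h2 + (K : ℤ) * hA
  have hev : Even A := by
    rw [hA, Int.even_mul] at hn0
    refine hn0.resolve_left fun e => ?_
    exact Nat.not_even_iff_odd.mpr hi ((Int.even_coe_nat i).mp e)
  have hpos : 1 ≤ A := by
    have : (0 : ℤ) < i * A := by omega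
    have := pos_of_mul_pos_right this (by omega : (0 : ℤ) ≤ i)
    omega
  have hdvd : (f0 : ℤ) ∣ A - 2 * K - 3 := by
    refine ⟨(J : ℤ) - w - A * w * (i + (2 * K + 1)) - 2 * (2 * K + 1) - 2, ?_⟩
    linear_combination -h4 - (i : ℤ) * hA + 4 * ((K : ℤ) + 1) * hf0A +
      (1 + A * ((i : ℤ) + (2 * K + 1))) * h3
  have hne : A - 2 * K - 3 ≠ 0 := fun e => by
    obtain ⟨r, hr⟩ := hev
    omega
  have hA2 : A = 2 := by
    have hK' : (1 : ℤ) ≤ K := by exact_mod_cast hK
    have hle := Int.le_of_dvd (abs_pos.mpr hne) ((dvd_abs _ _).mpr hdvd)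
    obtain ⟨r, hr⟩ := hev
    rcases abs_choice (A - 2 * (K : ℤ) - 3) with e | e <;> rw [e] at hle <;>
      (have : A ≤ 2 := by nlinarith) <;> omega
  rw [hA2] at hA hf0A
  exact ⟨by omega, by omega⟩

variable {G : Type u} {Ω : Type v} [Group G] [MulAction G Ω] [Finite G] [Finite Ω] [FaithfulSMul G Ω]
  {a : Ω} {N : Subgroup G} (h : Pt G a N) [IsSimpleGroup N] {m p e : ℕ} (hF : Facts N m p e)
include h hF

/-- **With no Sylow subgroup fixing a second point a member fixing the point lies in `N`.** -/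
theorem Pt.ev_h1 (hev : Ev a N) : H1 a N := by
  classical
  intro x hx hxa
  by_contra hxN
  haveI := Fact.mk Nat.prime_two
  obtain ⟨b, hb, hxb, y, hy, hyi, hyb, hny⟩ := h.exists_not_at hF hx hxa hxN
  set y0 : N := ⟨y, hy⟩
  -- all involutions at `b` in one Sylow subgroup, one of them a member there
  obtain ⟨y1, hy1, hy1i, hy1b, hy1at⟩ : ∃ y1, y1 ∈ N ∧ Invol y1 ∧ y1 • b = b ∧ At a N b y1 := by
    by_contra hc
    push Not at hc
    exact h.no_none hF hb hc hx hxa hxN hxb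
  obtain ⟨S, hS⟩ := h.invol_sylow (y := y0) (Subtype.ext hyi.2)
  have hone : ∀ t : N, Invol (t : G) → (t : G) • b = b → t ∈ (S : Subgroup N) := by
    intro t hti htb
    obtain ⟨T, hT⟩ := h.invol_sylow (y := t) (Subtype.ext hti.2)
    by_cases hTS : T = S
    · exact hTS ▸ hT
    exact absurd hy1at (h.none_at hF hb hy hyi hyb hny (Ne.symm hTS) hS hyi hyb hT hti htb y1 hy1 hy1i hy1b)
  obtain ⟨hU, hX⟩ := h.half_counts hF hb hone (y0 := y0) hyi hyb hny
  set K := numK a N b with hK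
  have hK1 : 1 ≤ K := Nat.card_pos_iff.mpr ⟨⟨y1, ⟨hy1, hy1i⟩, hy1at⟩, inferInstance⟩
  -- so there are twice as many further points as involutions
  obtain ⟨hn2, hf0⟩ : Nat.card Ω - 1 = 2 * numI N ∧ numP a N x = 2 * K + 1 := by
    haveI : Nontrivial Ω := ⟨b, a, hb⟩
    exact ev_arith (f := numF Ω x) (w := numW N a b) (h.ev_odd hev) Finite.one_lt_card (odd_inv_card N hy hyi) hK1
      (Nat.card_pos_iff.mpr ⟨⟨a, hxa⟩, inferInstance⟩) (Nat.card_pos_iff.mpr ⟨⟨b, hxb⟩, inferInstance⟩)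
      (hX ▸ h.card_fix hb hx) (h.card_at hb hx) (hX ▸ h.key hb hx) (h.card_cls hx)
  set H := (stabilizer G b).subgroupOf N with hH
  have hnorm : ∀ n ∈ H, n • S = S := fun n hn =>
    h.one_norm hF hone (y0 := y0) hyi hyb (Subgroup.mem_subgroupOf.mp hn)
  have hdiv : p * e ∣ 2 * Nat.card H := by
    have h1 := mul_dvd_mul_left (Nat.card H) (hn2 ▸ h.index_dvd hb)
    rw [Subgroup.card_mul_index, h.card_N hF, h.numI_val hF] at h1
    have hq := hF.q_four
    refine (Nat.mul_dvd_mul_iff_left (show 0 < (p + 1) * (2 ^ m - 1) from Nat.mul_pos (by omega) (by omega))).mp ?_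
    rwa [show (p + 1) * (2 ^ m - 1) * (p * e) = (p + 1) * (p * ((2 ^ m - 1) * e)) by ring,
      show (p + 1) * (2 ^ m - 1) * (2 * Nat.card H) = Nat.card H * (2 * ((p + 1) * (2 ^ m - 1))) by ring]
  -- the part of `S` fixing `b` has index two
  obtain ⟨l, hl⟩ := S.2.exists_card_eq
  rw [hF.card_sylow] at hl
  have hl1 : 1 ≤ l := by
    rcases Nat.eq_zero_or_pos l with rfl | hl0
    · have := hF.q_four; have := hF.q_le_p; omega
    · exact hl0
  obtain ⟨P, hP⟩ := Sylow.exists_subgroup_card_pow_prime 2 (G := H) (n := l - 1) (by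
    have h2 : 2 ^ l ∣ 2 * Nat.card H := hl ▸ dvd_trans (dvd_mul_right p e) hdiv
    rw [show l = (l - 1) + 1 by omega, pow_succ'] at h2
    exact (Nat.mul_dvd_mul_iff_left two_pos).mp h2)
  have hPS : P.map H.subtype ≤ (S : Subgroup N) := by
    have hle : P.map H.subtype ⊔ (S : Subgroup N) = (S : Subgroup N) :=
      S.is_maximal' (((IsPGroup.of_card hP).map H.subtype).to_sup_of_normal_right' S.2 (by
        rintro _ ⟨w, -, rfl⟩
        exact Sylow.smul_eq_iff_mem_normalizer.mp (hnorm w w.2))) le_sup_right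
    exact le_sup_left.trans hle.le
  set M := ((S : Subgroup N) ⊓ H).subgroupOf (S : Subgroup N) with hM
  have hMi : M.index = 2 := by
    have h1 := Subgroup.card_mul_index M
    rw [hF.card_sylow, hl, Nat.card_congr (Subgroup.subgroupOfEquivOfLe inf_le_left).toEquiv] at h1
    have h2 : 2 ^ (l - 1) ≤ Nat.card ↥((S : Subgroup N) ⊓ H) := by
      rw [← hP, ← Subgroup.card_map_of_injective H.subtype_injective]
      exact Subgroup.card_le_of_le (le_inf hPS (Subgroup.map_subtype_le P))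
    have h3 : M.index ≠ 1 := fun e1 => hb (hev S b fun s hs => by
      have := Subgroup.index_eq_one.mp e1
      have hsM : (⟨s, hs⟩ : (S : Subgroup N)) ∈ M := this ▸ Subgroup.mem_top _
      exact Subgroup.mem_subgroupOf.mp (Subgroup.mem_subgroupOf.mp hsM).2)
    have h4 : M.index ≠ 0 := Subgroup.index_ne_zero_of_finite
    rw [show l = (l - 1) + 1 by omega, pow_succ] at h1
    by_contra h5
    have : 2 ^ (l - 1) * 3 ≤ 2 ^ (l - 1) * 2 := h1 ▸ Nat.mul_le_mul h2 (by omega)
    have := Nat.two_pow_pos (l - 1)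
    omega
  have hmem : ∀ {s : N} (hs : s ∈ (S : Subgroup N)), (⟨s, hs⟩ : (S : Subgroup N)) ∈ M ↔ s ∈ H := fun hs =>
    ⟨fun e1 => (Subgroup.mem_subgroupOf.mp e1).2, fun e1 => Subgroup.mem_subgroupOf.mpr ⟨hs, e1⟩⟩
  set α := h.act ⟨x, mem_stabilizer_iff.mpr hxa⟩
  have hα2 : α * α = 1 := h.act_invol hxa hx.1.2
  have hin : ¬ Inn α := fun hi => hxN (h.inner_mem hF hx hxa hi)
  obtain ⟨S', hS'⟩ := h.fix_sylow hF (zpowers_two' hα2)
  have hαS := hS' α (Subgroup.mem_zpowers α)
  rcases hF.kind with ⟨hp, -⟩ | ⟨hp, -⟩ | ⟨hp, he⟩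
  · -- `L₂(q)`: a divisor of three
    have hU2 : Nat.card {t : N // t ∈ UX S b} = 2 ^ (l - 1) := by
      have h1 := Subgroup.card_mul_index M
      rw [hF.card_sylow, hl, hMi, show l = (l - 1) + 1 by omega, pow_succ] at h1
      rw [← Nat.eq_of_mul_eq_mul_right two_pos h1]
      exact Nat.card_congr
        { toFun := fun t => ⟨⟨t.1, t.2.1⟩, (hmem t.2.1).mpr (Subgroup.mem_subgroupOf.mpr t.2.2.2)⟩
          invFun := fun t => ⟨t.1.1, t.1.2, hF.sq_eq_one_of_elem hp t.1.2,
            Subgroup.mem_subgroupOf.mp ((hmem t.1.2).mp t.2)⟩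
          left_inv := fun _ => rfl
          right_inv := fun _ => rfl }
    have hq4 : 2 ^ m = 4 * (K + 1) := by
      rw [← hp, hl, show l = (l - 1) + 1 by omega, pow_succ, ← hU2, hU]
      ring
    have hdvd : 2 * K + 1 ∣ numI N := by
      rw [← h.key hb hx, hf0, hX]
      exact Dvd.dvd.add (dvd_mul_right _ _) dvd_rfl
    rw [h.numI_val hF, hp, hq4, show 4 * (K + 1) + 1 = 4 * K + 5 by ring,
      show 4 * (K + 1) - 1 = 4 * K + 3 by omega,
      show (4 * K + 5) * (4 * K + 3) = (2 * K + 1) * (8 * K + 12) + 3 by ring] at hdvd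
    have h3 := Nat.le_of_dvd (by norm_num) ((Nat.dvd_add_right (dvd_mul_right _ _)).mp hdvd)
    have hK' : K = 1 := by omega
    have h8 := (hF.linear_fix hp hαS hα2 hin).1
    rw [hq4, hK'] at h8
    generalize Nat.card {t : N // t ∈ (S' : Subgroup N) ∧ α t = t} = r at h8
    have : r ≤ 3 := by nlinarith
    interval_cases r <;> omega
  · exact hin (hF.sz_inner hp hαS hα2)
  · -- `U₃(q)`: an element of odd order fixes the two-element quotient
    have hq := hF.q_four
    obtain ⟨r, hr, hre⟩ := Nat.exists_prime_and_dvd (show e ≠ 1 by omega)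
    have hr2 : r ≠ 2 := fun e1 => Nat.not_even_iff_odd.mpr hF.e_odd (even_iff_two_dvd.mpr (e1 ▸ hre))
    haveI := Fact.mk hr
    obtain ⟨d', hd'⟩ := exists_prime_orderOf_dvd_card' (G := H) r (by
      rcases hr.dvd_mul.mp (dvd_trans (dvd_trans hre (dvd_mul_left e p)) hdiv) with h1 | h1
      · exact absurd ((Nat.prime_dvd_prime_iff_eq hr Nat.prime_two).mp h1) hr2
      · exact h1)
    set d : N := (d' : N) with hd
    have hdr : orderOf d = r := (Subgroup.orderOf_coe d').trans hd'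
    have hdS := hnorm d d'.2
    -- it fixes a second Sylow subgroup
    obtain ⟨U, hUne, hdU⟩ : ∃ U : Sylow 2 N, U ≠ S ∧ d • U = U := by
      by_contra hc
      push Not at hc
      have hP : IsPGroup r (Subgroup.zpowers d) := IsPGroup.of_card (n := 1) (by rw [Nat.card_zpowers, hdr, pow_one])
      have h1 := hP.card_modEq_card_fixedPoints (Sylow 2 N)
      have hfix : MulAction.fixedPoints (Subgroup.zpowers d) (Sylow 2 N) = {S} := by
        ext U
        refine ⟨fun hU => by_contra fun hne => hc U hne (hU ⟨d, Subgroup.mem_zpowers d⟩), ?_⟩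
        rintro rfl ⟨w, hw⟩
        exact (Subgroup.zpowers_le.mpr (mem_stabilizer_iff.mpr hdS) hw : w ∈ stabilizer N U)
      rw [hfix, hF.card_points] at h1
      simp only [Nat.card_unique] at h1
      have h2 : r ∣ p := Nat.modEq_zero_iff_dvd.mp (Nat.ModEq.add_right_cancel' 1 (h1.trans (Nat.ModEq.refl _)))
      exact hr2 ((Nat.prime_dvd_prime_iff_eq hr Nat.prime_two).mp (hr.dvd_of_dvd_pow (hl ▸ h2)))
    obtain ⟨C⟩ := hF.coord S
    have hpm : p ≠ 2 ^ m := by
      intro e2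
      have := Nat.pow_lt_pow_right (a := 2 ^ m) (by omega) (by norm_num : 1 < 3)
      rw [pow_one] at this
      omega
    obtain ⟨s, hs⟩ : ∃ s : (S : Subgroup N), s ∉ M := by
      by_contra hc
      push Not at hc
      rw [Subgroup.index_eq_one.mpr (top_le_iff.mp fun s _ => hc s)] at hMi
      omega
    have hds : d * s * d⁻¹ ∈ (S : Subgroup N) := conj_mem_of_fix hdS s.2
    have hdH : ∀ w : N, d * w * d⁻¹ ∈ H ↔ w ∈ H := fun w =>
      ⟨fun e1 => by
        rw [show w = d⁻¹ * (d * w * d⁻¹) * d by group]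
        exact mul_mem (mul_mem (inv_mem d'.2) e1) d'.2,
        fun e1 => mul_mem (mul_mem d'.2 e1) (inv_mem d'.2)⟩
    refine hs ((hmem s.2).mpr (hF.fpf hUne (mem_torus.mpr ⟨hdS, hdU⟩)
      (fun e1 => hr.one_lt.ne' (by rw [← hdr, e1, orderOf_one])) (K := (S : Subgroup N) ⊓ H) ?_ inf_le_left
      (fun w hw => ⟨conj_mem_of_fix hdS hw.1, (hdH w).mpr hw.2⟩) s.2
      ⟨Subgroup.mul_mem (S : Subgroup N) hds (Subgroup.inv_mem (S : Subgroup N) s.2), ?_⟩).2)
    · intro z hz hz2
      obtain ⟨t, ht, rfl⟩ := (C.ker z hz).mp ((hF.ker_iff hpm C hz).mpr hz2)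
      exact ⟨hz, (hmem hz).mp ((Subgroup.mul_mem_iff_of_index_two hMi (a := ⟨t, ht⟩) (b := ⟨t, ht⟩)).mpr Iff.rfl)⟩
    · refine (hmem _).mp ((Subgroup.mul_mem_iff_of_index_two hMi (a := ⟨d * s * d⁻¹, hds⟩) (b := s⁻¹)).mpr ?_)
      rw [inv_mem_iff, hmem, hdH, hmem]

end CfsgLib.RankOnePoint
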