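import Cfsg.Agent.Lib.RankOnePoint.Lines
import Cfsg.Agent.Lib.RankOnePoint.OddTools

/-!
Lines when members fixing a point lie in `N`: two points lie on one, the fixed points of a member divide `p`, a
member fixing a point of a line it stabilises has that line.

Blueprint: `blueprint/S2208.md`, part C.
-/

set_option autoImplicit false
set_option linter.unusedSectionVars false
set_option linter.style.haveILetI false

namespace CfsgLib.RankOnePoint

open MulAction CfsgLib.BinaryCoset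
open scoped Pointwise

universe u v

variable {G : Type u} {Ω : Type v} [Group G] [MulAction G Ω]

/-- A 2-element stabilising a set of odd size fixes a point of it. -/
theorem exists_fix_of_odd [Finite Ω] {γ : G} {k : ℕ} (hk : γ ^ 2 ^ k = 1) {A : Set Ω} (hA : ∀ c ∈ A, γ • c ∈ A)
    (ho : Odd (Nat.card A)) : ∃ c ∈ A, γ • c = c := by
  classical
  haveI := Fintype.ofFinite A
  haveI := Fact.mk Nat.prime_two
  by_contra hc
  push Not at hc
  let σ : Equiv.Perm A := Equiv.ofBijective (fun c => ⟨γ • c.1, hA c c.2⟩)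
    (Finite.injective_iff_bijective.mp fun c d e => Subtype.ext (smul_left_cancel γ (congrArg Subtype.val e :)))
  have hpow : ∀ (j : ℕ) (c : A), ((σ ^ j) c : Ω) = γ ^ j • (c : Ω) := by
    intro j
    induction j with
    | zero => intro c; simp
    | succ j ih => intro c; rw [pow_succ', Equiv.Perm.mul_apply, pow_succ', mul_smul, ← ih c]; rfl
  have h0 : σ.supportᶜ.card = 0 := by
    rw [Finset.card_eq_zero, Finset.eq_empty_iff_forall_notMem]
    intro x hx
    rw [Finset.mem_compl, Equiv.Perm.notMem_support] at hx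
    exact hc x x.2 (congrArg Subtype.val hx :)
  have h1 := Equiv.Perm.card_compl_support_modEq (p := 2) (n := k) (σ := σ)
    (Equiv.ext fun c => Subtype.ext (by rw [hpow, hk, one_smul]; rfl))
  rw [h0] at h1
  rw [Nat.card_eq_fintype_card] at ho
  exact Nat.not_even_iff_odd.mpr ho (even_iff_two_dvd.mpr (Nat.modEq_zero_iff_dvd.mp h1.symm))

theorem fix_smul {g x : G} {c : Ω} : g⁻¹ • c ∈ fixedBy Ω (g⁻¹ * x * g) ↔ c ∈ fixedBy Ω x := by
  rw [mem_fixedBy, mem_fixedBy, mul_smul, mul_smul, smul_inv_smul, smul_left_cancel_iff]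

variable [Finite G] [Finite Ω] [FaithfulSMul G Ω] {a : Ω} {N : Subgroup G} (h : Pt G a N) [IsSimpleGroup N]
  {m p e : ℕ} (hF : Facts N m p e) (h1 : H1 a N) (hev : ¬ Ev a N)
include h hF h1 hev

theorem Pt.hline : ∀ x ∈ cls N, x • a = a → ∃ S : Sylow 2 N, fixedBy Ω x = line S := fun x hx hxa => by
  obtain ⟨S, hS⟩ := h.invol_sylow (y := (⟨x, h1 x hx hxa⟩ : N)) (Subtype.ext hx.1.2)
  exact ⟨S, h.fix_line hF hev (z := ⟨x, h1 x hx hxa⟩) hS hx.1⟩

omit h1 in
/-- An involution at a point of a line lies in its Sylow subgroup. -/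
theorem Pt.mem_of_line {S : Sylow 2 N} {c : Ω} (hc : c ≠ a) (hcS : c ∈ (line S : Set Ω)) {y : N}
    (hyi : Invol (y : G)) (hyc : (y : G) • c = c) : y ∈ (S : Subgroup N) := by
  obtain ⟨U, hU⟩ := h.invol_sylow (y := y) (Subtype.ext hyi.2)
  have hcU : c ∈ (line U : Set Ω) := (h.fix_line hF hev hU hyi).le hyc
  exact h.line_unique hF hev hc hcU hcS ▸ hU

omit h1 in
/-- A Sylow subgroup fixes its line. -/
theorem Pt.sfix_line {S : Sylow 2 N} {c : Ω} (hc : c ≠ a) (hcS : c ∈ (line S : Set Ω)) : SFix S c := by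
  obtain ⟨U, hU, -⟩ := h.nev_one hF hev hc
  exact h.line_unique hF hev hc (fun y hy _ => hU y hy) hcS ▸ hU

omit h1 in
/-- An element of a Sylow subgroup fixes only its line. -/
theorem Pt.line_of_fix {S : Sylow 2 N} {s : N} (hs : s ∈ (S : Subgroup N)) (hs1 : s ≠ 1) {c : Ω}
    (hsc : (s : G) • c = c) : c ∈ (line S : Set Ω) := by
  rcases eq_or_ne c a with rfl | hc
  · exact h.mem_line hF S
  obtain ⟨U, hU, -⟩ := h.nev_one hF hev hc
  by_cases hUS : U = S
  · exact hUS ▸ (fun y hy _ => hU y hy : c ∈ (line U : Set Ω))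
  · exact absurd (hF.eq_one_of_fix hUS hs (h.sfix_normal (h.rn hF) hc hU hsc)) hs1

omit h1 hev in
/-- The line of the image of a Sylow subgroup. -/
theorem Pt.line_act (γ : stabilizer G a) (S : Sylow 2 N) (c : Ω) :
    c ∈ (line (h.act γ • S) : Set Ω) ↔ (γ : G)⁻¹ • c ∈ (line S : Set Ω) := by
  have key : ∀ (y : N), ((h.act γ y : N) : G) • c = c ↔ (y : G) • (γ : G)⁻¹ • c = (γ : G)⁻¹ • c := fun y => by
    rw [h.act_apply, mul_smul, mul_smul, smul_eq_iff_eq_inv_smul]
  constructor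
  · intro hc y hy hy2
    refine (key y).mp (hc _ ?_ (by rw [← map_mul, hy2, map_one]))
    rw [mem_smul_iff, MulAut.inv_apply_self]
    exact hy
  · intro hc y hy hy2
    rw [mem_smul_iff] at hy
    have := (key ((h.act γ)⁻¹ y)).mpr (hc _ hy (by rw [← map_mul, hy2, map_one]))
    rwa [MulAut.apply_inv_self] at this

omit h1 in
/-- An element fixing the point and mapping a further point of a line into it fixes its Sylow subgroup. -/
theorem Pt.act_fix {γ : G} (hγ : γ • a = a) {S : Sylow 2 N} {c : Ω} (hc : c ≠ a) (hcS : c ∈ (line S : Set Ω))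
    (hγc : γ • c ∈ (line S : Set Ω)) : h.act ⟨γ, mem_stabilizer_iff.mpr hγ⟩ • S = S := by
  refine h.line_unique hF hev (c := γ • c) (fun e1 => hc (smul_left_cancel γ (e1.trans hγ.symm))) ?_ hγc
  rw [h.line_act hF, inv_smul_smul]
  exact hcS

omit h1 in
/-- An element fixing the point and a Sylow subgroup stabilises its line. -/
theorem Pt.line_stab {γ : G} (hγ : γ • a = a) {S : Sylow 2 N}
    (hS : h.act ⟨γ, mem_stabilizer_iff.mpr hγ⟩ • S = S) {c : Ω} (hcS : c ∈ (line S : Set Ω)) :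
    γ • c ∈ (line S : Set Ω) := by
  have h2 := (h.line_act hF ⟨γ, mem_stabilizer_iff.mpr hγ⟩ S (γ • c)).mpr (by rw [inv_smul_smul]; exact hcS)
  rwa [hS] at h2

/-- **Two points lie on one line only.** -/
theorem Pt.two_points {x y : G} (hx : x ∈ cls N) (hy : y ∈ cls N) {c d : Ω} (hcd : c ≠ d) (hxc : x • c = c)
    (hxd : x • d = d) (hyc : y • c = c) (hyd : y • d = d) : fixedBy Ω x = fixedBy Ω y := by
  haveI := h.pretrans
  obtain ⟨g, rfl⟩ := exists_smul_eq G a c
  have hd : g⁻¹ • d ≠ a := fun e1 => hcd (inv_smul_eq_iff.mp e1).symm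
  have key : ∀ x ∈ cls N, x • g • a = g • a → x • d = d →
      ∃ U : Sylow 2 N, fixedBy Ω (g⁻¹ * x * g) = line U ∧ g⁻¹ • d ∈ (line U : Set Ω) := by
    intro x hx hxc hxd
    obtain ⟨U, hU⟩ := h.hline hF h1 hev _ (by simpa using cls_conj hx g⁻¹)
      (show (g⁻¹ * x * g) • a = a by rw [mul_smul, mul_smul, hxc, inv_smul_smul])
    exact ⟨U, hU, hU ▸ fix_smul.mpr hxd⟩
  obtain ⟨U, hU, hUd⟩ := key x hx hxc hxd
  obtain ⟨V, hV, hVd⟩ := key y hy hyc hyd
  rw [h.line_unique hF hev hd hUd hVd, ← hV] at hU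
  ext z
  rw [← fix_smul (g := g), hU, fix_smul]

/-- **A member fixing a point of a line it stabilises has that line.** -/
theorem Pt.axis {x y : G} (hx : x ∈ cls N) (hy : y ∈ cls N) {c : Ω} (hxc : x • c = c) (hyc : y • c = c)
    (hst : ∀ d ∈ fixedBy Ω y, x • d ∈ fixedBy Ω y) : fixedBy Ω x = fixedBy Ω y := by
  haveI := h.pretrans
  obtain ⟨g, rfl⟩ := exists_smul_eq G a c
  have hxa : (g⁻¹ * x * g) • a = a := by rw [mul_smul, mul_smul, hxc, inv_smul_smul]
  have hx' := h1 _ (by simpa using cls_conj hx g⁻¹) hxa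
  have hxi : Invol (g⁻¹ * x * g) := by simpa using hx.1.conj g⁻¹
  obtain ⟨T, hT⟩ := h.hline hF h1 hev _ (by simpa using cls_conj hy g⁻¹)
    (show (g⁻¹ * y * g) • a = a by rw [mul_smul, mul_smul, hyc, inv_smul_smul])
  obtain ⟨d, hda, hdT⟩ := h.line_second hF hev T
  have hd' : g • d ∈ fixedBy Ω y := by
    rw [← fix_smul (g := g), inv_smul_smul, hT]; exact hdT
  have hmv : (g⁻¹ * x * g) • d ∈ (line T : Set Ω) := by
    rw [mul_smul, mul_smul, ← hT]
    exact fix_smul.mpr (hst _ hd')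
  have hfixT := h.act_fix hF hev hxa hda hdT hmv
  have hnorm : (⟨_, hx'⟩ : N) • T = T := by
    refine Eq.trans ?_ hfixT
    show MulAut.conj (⟨_, hx'⟩ : N) • T = _
    congr 1
  have hxT := mem_of_norm (S := T) (Subtype.ext hxi.2) hnorm
  have hxl := h.fix_line hF hev (z := (⟨_, hx'⟩ : N)) hxT hxi
  ext z
  rw [← fix_smul (g := g), show fixedBy Ω (g⁻¹ * x * g) = fixedBy Ω (g⁻¹ * y * g) from hxl.trans hT.symm, fix_smul]

/-- A member has as many members with its fixed points as there are involutions in a Sylow subgroup. -/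
theorem Pt.same_fix_eq {x : G} (hx : x ∈ cls N) :
    Nat.card {y : cls N // fixedBy Ω y.1 = fixedBy Ω x} = 2 ^ m - 1 := by
  have hM := h.card_same_fix hF hev (h.hline hF h1 hev) hx
  rw [h.numP_fix h1 hx, mul_comm (numF Ω x)] at hM
  exact Nat.eq_of_mul_eq_mul_right (by have := h.two_le_numF hF hev hx; omega) hM

/-- The fixed points of a member number a divisor of `p`. -/
theorem Pt.numF_dvd {x : G} (hx : x ∈ cls N) : numF Ω x ∣ p := by
  obtain ⟨b, hb⟩ := h.exists_ne
  have hn := h.nev_n hF hev hx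
  have hf2 := h.two_le_numF hF hev hx
  obtain ⟨j, hj⟩ := (h.same_fix_eq hF h1 hev hx) ▸ h.same_fix_dvd hF hev hx
  have hJ := h.card_cls hx
  rw [h.numP_fix h1 hx, h.numI_val hF, hj] at hJ
  have hq := hF.q_four
  have hjf : j * numF Ω x = Nat.card Ω * (p + 1) := by
    refine Nat.eq_of_mul_eq_mul_left (show 0 < 2 ^ m - 1 by omega) ?_
    rw [← mul_assoc, hJ]; ring
  have hn1 : 1 ≤ Nat.card Ω := Nat.card_pos_iff.mpr ⟨⟨a⟩, inferInstance⟩
  have h2 : numF Ω x ∣ p * (p + 1) := by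
    have e1 : Nat.card Ω + p = numF Ω x * (p + 1) := by
      have : (p + 1) * (numF Ω x - 1) + (p + 1) = numF Ω x * (p + 1) := by
        rw [← Nat.mul_succ, show (numF Ω x - 1).succ = numF Ω x by omega, mul_comm]
      omega
    have h3 : numF Ω x ∣ Nat.card Ω * (p + 1) + p * (p + 1) := by
      rw [← add_mul, e1, mul_assoc]; exact dvd_mul_right _ _
    exact (Nat.dvd_add_right ⟨j, by rw [← hjf, mul_comm]⟩).mp h3
  have h3 : numF Ω x ∣ p * (2 ^ m - 1) := ⟨numW N a b, by rw [← h.nev_key hF hev hb hx, h.numP_fix h1 hx]⟩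
  have hg : Nat.Coprime (p + 1) (2 ^ m - 1) := by
    obtain ⟨r, hr⟩ : ∃ r, p = (2 ^ m) ^ r := by
      rcases hF.kind with ⟨hp, -⟩ | ⟨hp, -⟩ | ⟨hp, -⟩
      · exact ⟨1, by rw [pow_one]; exact hp⟩
      · exact ⟨2, hp⟩
      · exact ⟨3, hp⟩
    refine Nat.coprime_of_dvd' fun d hd hd1 hd2 => ?_
    have hdp : d ∣ p - 1 := by
      refine hd2.trans ?_
      rw [hr]
      simpa using Nat.sub_dvd_pow_sub_pow (2 ^ m) 1 r
    have hd' : d ∣ 2 := by
      have hp1 : 1 ≤ p := hr ▸ Nat.one_le_pow _ _ (by omega)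
      have := Nat.dvd_sub hd1 hdp
      rwa [show p + 1 - (p - 1) = 2 by omega] at this
    have hd2' : d = 2 := (Nat.prime_dvd_prime_iff_eq hd Nat.prime_two).mp hd'
    subst hd2'
    obtain ⟨c, hc⟩ := hd2
    obtain ⟨c', hc'⟩ : 2 ∣ 2 ^ m := dvd_pow_self 2 (by have := hF.two_le; omega)
    omega
  have := Nat.dvd_gcd h2 h3
  rwa [Nat.gcd_mul_left, hg, mul_one] at this

omit h1 in
/-- With an even degree every line has an odd number of further points. -/
theorem Pt.line_odd (hn : Even (Nat.card Ω)) (S : Sylow 2 N) :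
    Odd (Nat.card {c : Ω | c ∈ (line S : Set Ω) ∧ c ≠ a}) := by
  obtain ⟨z, hz, hz1, hz2⟩ := h.exists_invol_sylow hF S
  have hzc := h.mem_cls z.2 (h.invol_of hF hz1 hz2)
  have hn' := h.nev_n hF hev hzc
  have e1 : {c : Ω | c ∈ (line S : Set Ω) ∧ c ≠ a} = (line S : Set Ω) \ {a} := rfl
  rw [e1, Nat.card_coe_set_eq, Set.ncard_sdiff_singleton_of_mem (h.mem_line hF S), ← Nat.card_coe_set_eq,
    h.card_line hF hev S hzc]
  have hn1 : 1 ≤ Nat.card Ω := Nat.card_pos_iff.mpr ⟨⟨a⟩, inferInstance⟩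
  by_contra hodd
  rw [Nat.not_odd_iff_even] at hodd
  obtain ⟨c, hc⟩ := hodd.mul_left (p + 1)
  rw [← hn'] at hc
  obtain ⟨d, hd⟩ := hn
  omega

end CfsgLib.RankOnePoint
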