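import Cfsg.Agent.Lib.RankOnePoint.EvenSeq

/-!
Even degree: a line has two points, or the number of its further points is a multiple of `q - 1`, so its size is a
power of `q`.

Blueprint: `blueprint/S2208.md`, part C.
-/

set_option autoImplicit false
set_option linter.unusedSectionVars false
set_option linter.style.haveILetI false

namespace CfsgLib.RankOnePoint

open MulAction CfsgLib.BinaryCoset
open scoped Pointwise

universe u v

/-- An element of prime order fixes a point of a set it stabilises of size prime to the order. -/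
theorem exists_fix_of_prime {G : Type u} {Ω : Type v} [Group G] [MulAction G Ω] [Finite Ω] {γ : G} {r : ℕ}
    (hr : r.Prime) (hγ : γ ^ r = 1) {A : Set Ω} (hA : ∀ c ∈ A, γ • c ∈ A) (hnd : ¬ r ∣ Nat.card A) :
    ∃ c ∈ A, γ • c = c := by
  classical
  haveI := Fintype.ofFinite A
  haveI := Fact.mk hr
  by_contra hc
  push Not at hc
  let σ : Equiv.Perm A := Equiv.ofBijective (fun c => ⟨γ • c.1, hA c c.2⟩)
    (Finite.injective_iff_bijective.mp fun c d e => Subtype.ext (smul_left_cancel γ (congrArg Subtype.val e :)))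
  have hpow : ∀ (j : ℕ) (c : A), ((σ ^ j) c : Ω) = γ ^ j • (c : Ω) := by
    intro j
    induction j with
    | zero => intro c; simp
    | succ j ih => intro c; rw [pow_succ', Equiv.Perm.mul_apply, pow_succ', mul_smul, ← ih c]; rfl
  have h0 : σ.supportᶜ.card = 0 := by
    rw [Finset.card_eq_zero, Finset.eq_empty_iff_forall_notMem]
    intro x hx
    rw [Finset.mem_compl, Equiv.Perm.notMem_support] at hx
    exact hc x x.2 (congrArg Subtype.val hx :)
  have h1 := Equiv.Perm.card_compl_support_modEq (p := r) (n := 1) (σ := σ)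
    (Equiv.ext fun c => Subtype.ext (by rw [pow_one, hpow, hγ, one_smul]; rfl))
  rw [h0, ← Nat.card_eq_fintype_card] at h1
  exact hnd (Nat.modEq_zero_iff_dvd.mp h1.symm)

/-- A cyclic group has one subgroup of each order. -/
theorem mem_zpowers_of_cyclic {Q : Type u} [Group Q] [Finite Q] [IsCyclic Q] {x y : Q} (hx : x ^ orderOf y = 1) :
    x ∈ Subgroup.zpowers y := by
  classical
  haveI := Fintype.ofFinite Q
  have hsub : (Subgroup.zpowers y : Set Q).toFinset ⊆ Finset.univ.filter fun z : Q => z ^ orderOf y = 1 := by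
    intro z hz
    obtain ⟨k, rfl⟩ := Subgroup.mem_zpowers_iff.mp (Set.mem_toFinset.mp hz)
    refine Finset.mem_filter.mpr ⟨Finset.mem_univ _, ?_⟩
    rw [← zpow_natCast, ← zpow_mul, mul_comm, zpow_mul, zpow_natCast, pow_orderOf_eq_one, one_zpow]
  have heq := Finset.eq_of_subset_of_card_le hsub (by
    rw [Set.toFinset_card, show Fintype.card (Subgroup.zpowers y : Set Q) = orderOf y from Fintype.card_zpowers]
    exact IsCyclic.card_pow_eq_one_le (orderOf_pos y))
  exact Set.mem_toFinset.mp (heq ▸ Finset.mem_filter.mpr ⟨Finset.mem_univ x, hx⟩)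

section Fact

variable {X : Type u} [Group X] [Finite X] [IsSimpleGroup X] {m p e : ℕ} (h : Facts X m p e)
include h

/-- Modulo a Sylow subgroup its normaliser has one subgroup of each order. -/
theorem Facts.pow_of_order {S : Sylow 2 X} {d d' : X} (hd : d • S = S) (hd' : d' • S = S) {r : ℕ} (hr : r.Prime)
    (hdr : d ^ r = 1) (hd'r : orderOf d' = r) (hd'S : d' ∉ (S : Subgroup X)) :
    ∃ k : ℤ, ∃ s ∈ (S : Subgroup X), d = d' ^ k * s := by
  set K := stabilizer X S
  set SK := (S : Subgroup X).subgroupOf K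
  haveI : SK.Normal := ⟨fun s hs k => Subgroup.mem_subgroupOf.mpr
    (conj_mem_of_fix (mem_stabilizer_iff.mp k.2) (Subgroup.mem_subgroupOf.mp hs))⟩
  obtain ⟨g, hg, hgen⟩ := h.torus_cyclic S
  haveI : IsCyclic (K ⧸ SK) := ⟨⟨QuotientGroup.mk' SK ⟨g, hg⟩, fun q => by
    obtain ⟨x, rfl⟩ := QuotientGroup.mk'_surjective SK q
    obtain ⟨k, hk⟩ := hgen x (mem_stabilizer_iff.mp x.2)
    refine ⟨k, ?_⟩
    show (QuotientGroup.mk' SK ⟨g, hg⟩) ^ (k : ℤ) = QuotientGroup.mk' SK x
    rw [zpow_natCast, ← map_pow, eq_comm]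
    exact QuotientGroup.eq.mpr (Subgroup.mem_subgroupOf.mpr hk)⟩⟩
  set y : K ⧸ SK := QuotientGroup.mk' SK ⟨d', hd'⟩ with hy
  have hyr : orderOf y = r := by
    haveI := Fact.mk hr
    refine orderOf_eq_prime ?_ fun e1 => hd'S ?_
    · rw [hy, ← map_pow, show (⟨d', hd'⟩ : K) ^ r = 1 from Subtype.ext (by
        rw [Subgroup.coe_pow, ← hd'r]; exact pow_orderOf_eq_one d'), map_one]
    · exact Subgroup.mem_subgroupOf.mp ((QuotientGroup.eq_one_iff _).mp e1)
  obtain ⟨k, hk⟩ := Subgroup.mem_zpowers_iff.mp (mem_zpowers_of_cyclic (x := QuotientGroup.mk' SK ⟨d, hd⟩) (y := y)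
    (by rw [hyr, ← map_pow, show (⟨d, hd⟩ : K) ^ r = 1 from Subtype.ext (by rw [Subgroup.coe_pow]; exact hdr),
      map_one]))
  rw [hy, ← map_zpow] at hk
  exact ⟨k, (d' ^ k)⁻¹ * d, Subgroup.mem_subgroupOf.mp (QuotientGroup.eq.mp hk), (mul_inv_cancel_left _ _).symm⟩

/-- `q - 1` is prime to `p e`. -/
theorem Facts.coprime_pe {r : ℕ} (hr : r.Prime) (hrq : r ∣ 2 ^ m - 1) : ¬ r ∣ p * e := by
  intro hd
  obtain ⟨c, hc⟩ := hrq
  obtain ⟨c', hc'⟩ : 2 ∣ 2 ^ m := dvd_pow_self 2 (by have := h.two_le; omega)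
  have hq := h.q_four
  have hr2 : r ≠ 2 := by rintro rfl; omega
  rcases hr.dvd_mul.mp hd with hp | he
  · obtain ⟨i, hi⟩ : ∃ i, p = 2 ^ i := by
      rcases h.kind with ⟨hp, -⟩ | ⟨hp, -⟩ | ⟨hp, -⟩
      · exact ⟨m, hp⟩
      · exact ⟨_, hp.trans (pow_mul 2 m 2).symm⟩
      · exact ⟨_, hp.trans (pow_mul 2 m 3).symm⟩
    exact hr2 ((Nat.prime_dvd_prime_iff_eq hr Nat.prime_two).mp (hr.dvd_of_dvd_pow (hi ▸ hp)))
  · have hd2 : r ∣ 2 ^ m + 1 ∨ e = 1 := by
      rcases h.kind with ⟨-, he1⟩ | ⟨-, -, he1⟩ | ⟨-, he1 | he1⟩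
      · exact Or.inr he1
      · exact Or.inr he1
      · exact Or.inl (he1 ▸ he)
      · exact Or.inl (he1 ▸ he.mul_left 3)
    rcases hd2 with hd2 | he1
    · have h2 := Nat.dvd_sub hd2 (⟨c, hc⟩ : r ∣ 2 ^ m - 1)
      rw [show 2 ^ m + 1 - (2 ^ m - 1) = 2 by omega] at h2
      exact hr2 ((Nat.prime_dvd_prime_iff_eq hr Nat.prime_two).mp h2)
    · exact hr.not_dvd_one (he1 ▸ he)

end Fact

variable {G : Type u} {Ω : Type v} [Group G] [MulAction G Ω] [Finite G] [Finite Ω] [FaithfulSMul G Ω]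
  {a : Ω} {N : Subgroup G} (h : Pt G a N) [IsSimpleGroup N] {m p e : ℕ} (hF : Facts N m p e) (h1 : H1 a N)
  (hev : ¬ Ev a N) (hn : Even (Nat.card Ω))
include h hF h1 hev hn

omit h1 hev hn in
/-- The line of a conjugate Sylow subgroup. -/
theorem Pt.line_smul_N (n : N) {S : Sylow 2 N} {c : Ω} (hc : c ∈ (line S : Set Ω)) :
    (n : G) • c ∈ (line (n • S) : Set Ω) := by
  intro y hy hy2
  have h2 := hc (n⁻¹ * y * n) (CfsgLib.CyclicInt.mem_smul_sylow.mp hy)
    (by rw [show n⁻¹ * y * n * (n⁻¹ * y * n) = n⁻¹ * (y * y) * n by group, hy2, mul_one, inv_mul_cancel])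
  rw [Subgroup.coe_mul, Subgroup.coe_mul, InvMemClass.coe_inv, mul_smul, mul_smul, inv_smul_eq_iff] at h2
  exact h2

/-- **A line has two points, or `q - 1` divides the number of its further points**, and then an element of `N`
fixing a further point centralises the elements of square one. -/
theorem Pt.dich_cent {x : G} (hx : x ∈ cls N) (S : Sylow 2 N) : numF Ω x = 2 ∨ (2 ^ m - 1 ∣ numF Ω x - 1 ∧
    ∀ c ∈ (line S : Set Ω), c ≠ a → ∀ n : N, (n : G) • c = c →
      ∀ z ∈ (S : Subgroup N), z * z = 1 → n * z = z * n) := by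
  classical
  haveI := Fintype.ofFinite N
  obtain ⟨U0, hU0⟩ := two_le_sylow hF S
  obtain ⟨z0, hz0, hz01, hz02⟩ := h.exists_invol_sylow hF S
  -- the normaliser acts on the involutions of the Sylow subgroup
  set K := stabilizer N S
  let Z : Type u := {z : N // z ∈ (S : Subgroup N) ∧ z ≠ 1 ∧ z * z = 1}
  letI : MulAction K Z :=
    { smul := fun k z => ⟨k.1 * z.1 * k.1⁻¹, conj_mem_of_fix (mem_stabilizer_iff.mp k.2) z.2.1,
        fun e1 => z.2.2.1 (conj_eq_one_iff.mp e1),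
        by rw [show k.1 * z.1 * k.1⁻¹ * (k.1 * z.1 * k.1⁻¹) = k.1 * (z.1 * z.1) * k.1⁻¹ by group, z.2.2.2, mul_one,
          mul_inv_cancel]⟩
      one_smul := fun z => Subtype.ext (show (1 : N) * z.1 * (1 : N)⁻¹ = z.1 by group)
      mul_smul := fun k k' z => Subtype.ext
        (show (k.1 * k'.1) * z.1 * (k.1 * k'.1)⁻¹ = k.1 * (k'.1 * z.1 * k'.1⁻¹) * k.1⁻¹ by group) }
  have hZsm : ∀ (k : K) (z : Z), (k • z : Z).1 = k.1 * z.1 * k.1⁻¹ := fun _ _ => rfl
  set C := stabilizer K (⟨z0, hz0, hz01, hz02⟩ : Z)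
  have hC : ∀ k : K, k ∈ C ↔ k.1 * z0 = z0 * k.1 := fun k => by
    rw [mem_stabilizer_iff, Subtype.ext_iff, hZsm, mul_inv_eq_iff_eq_mul]
  have hCall : ∀ k ∈ C, ∀ z ∈ (S : Subgroup N), z * z = 1 → k.1 * z = z * k.1 := by
    intro k hk z hz hz2
    obtain ⟨s, hs, d, hd, hkd⟩ := hF.decomp hU0 (mem_stabilizer_iff.mp k.2)
    have hdz : d * z0 = z0 * d := by
      have h2 := (hC k).mp hk
      rw [hkd, mul_assoc, ← mul_assoc z0, hF.central hz0 hz02 hs, mul_assoc] at h2
      exact mul_left_cancel h2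
    rw [hkd, mul_assoc, hF.cent_all hU0 hd hz0 hz01 hz02 hdz hz hz2, ← mul_assoc, ← hF.central hz hz2 hs, mul_assoc]
  have hindex : C.index = 2 ^ m - 1 := by
    rw [MulAction.index_stabilizer]
    have huniv : orbit K (⟨z0, hz0, hz01, hz02⟩ : Z) = Set.univ := Set.eq_univ_of_forall fun z => by
      obtain ⟨d, hd, hdz⟩ := hF.torus_trans hU0 hz0 hz01 hz02 z.2.1 z.2.2.1 z.2.2.2
      exact ⟨⟨d, (mem_torus.mp hd).1⟩, Subtype.ext hdz⟩
    rw [huniv, Set.ncard_univ, Nat.card_congr (Equiv.subtypeEquivRight (q := fun z : N =>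
      (z ∈ (S : Subgroup N) ∧ z * z = 1) ∧ z ≠ 1) fun z => by tauto),
      Nat.card_eq_fintype_card, Fintype.card_subtype]
    have h2 := hF.card_sq_one S
    rw [Nat.card_eq_fintype_card, Fintype.card_subtype] at h2
    rw [← h2, ← Finset.card_erase_of_mem (a := (1 : N)) (s := Finset.univ.filter fun z : N =>
      z ∈ (S : Subgroup N) ∧ z * z = 1) (Finset.mem_filter.mpr ⟨Finset.mem_univ _, one_mem _, mul_one 1⟩)]
    congr 1
    ext z
    simp only [Finset.mem_filter, Finset.mem_univ, true_and, Finset.mem_erase]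
    tauto
  have hKmem : ∀ {c : Ω}, c ≠ a → c ∈ (line S : Set Ω) → ∀ {n : N}, (n : G) • c = c → n • S = S :=
    fun hc hcS n hn' => h.sfix_normal (h.rn hF) hc (h.sfix_line hF hev hc hcS) hn'
  by_cases hall : ∀ c ∈ (line S : Set Ω), c ≠ a → ∀ k : K, ((k : N) : G) • c = c → k ∈ C
  · -- the orbits on the further points of the line
    right
    refine ⟨?_, fun c hc hca n hn' z hz hz2 =>
      hCall ⟨n, mem_stabilizer_iff.mpr (hKmem hca hc hn')⟩ (hall c hc hca _ hn') z hz hz2⟩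
    let L : Type v := {c : Ω // c ∈ (line S : Set Ω) ∧ c ≠ a}
    letI : MulAction K L :=
      { smul := fun k c => ⟨((k : N) : G) • c.1, by
          have h2 := h.line_smul_N hF k.1 c.2.1
          rwa [mem_stabilizer_iff.mp k.2] at h2, fun e1 => c.2.2 (smul_left_cancel _ (e1.trans (h.fix k.1.2).symm))⟩
        one_smul := fun c => Subtype.ext (one_smul G c.1)
        mul_smul := fun k k' c => Subtype.ext (mul_smul ((k : N) : G) ((k' : N) : G) c.1) }
    have hL : Nat.card L = numF Ω x - 1 := by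
      rw [← h.card_line hF hev S hx, Nat.card_coe_set_eq, ← Set.ncard_sdiff_singleton_of_mem (h.mem_line hF S),
        ← Nat.card_coe_set_eq]
      exact Nat.card_congr (Equiv.subtypeEquivRight fun c => by simp)
    haveI := Fintype.ofFinite (orbitRel.Quotient K L)
    rw [← hL, Nat.card_congr (MulAction.selfEquivSigmaOrbits K L), Nat.card_sigma]
    refine Finset.dvd_sum fun ω _ => ?_
    rw [Nat.card_coe_set_eq, ← MulAction.index_stabilizer, ← hindex]
    exact Subgroup.index_dvd_of_le fun k hk =>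
      hall _ ω.out.2.1 ω.out.2.2 k (congrArg Subtype.val (mem_stabilizer_iff.mp hk) :)
  left
  push Not at hall
  obtain ⟨b, hbS, hb, k, hkb, hkC⟩ := hall
  -- an element of prime order moving the involutions
  set χ : K →* Equiv.Perm Z := MulAction.toPermHom K Z
  have hker : χ.ker = C := by
    ext j
    constructor
    · exact fun hj => mem_stabilizer_iff.mpr (Equiv.ext_iff.mp hj _)
    · exact fun hj => Equiv.ext fun z => Subtype.ext (by
        show j.1 * z.1 * j.1⁻¹ = z.1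
        rw [hCall j hj z.1 z.2.1 z.2.2.2, mul_inv_cancel_right])
  have hrange : orderOf (χ k) ∣ 2 ^ m - 1 := by
    rw [← hindex, ← hker, Subgroup.index_ker]
    exact Subgroup.orderOf_dvd_natCard _ ⟨k, rfl⟩
  have hne1 : orderOf (χ k) ≠ 1 := fun e1 => hkC (hker ▸ MonoidHom.mem_ker.mpr (orderOf_eq_one_iff.mp e1))
  set r := (orderOf (χ k)).minFac
  have hr : r.Prime := Nat.minFac_prime hne1
  have hrk : r ∣ orderOf k := (Nat.minFac_dvd _).trans (orderOf_map_dvd χ k)
  have hrpe := hF.coprime_pe hr ((Nat.minFac_dvd _).trans hrange)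
  set d : K := k ^ (orderOf k / r)
  have hdr : orderOf d = r := orderOf_pow_orderOf_div (orderOf_pos k).ne' hrk
  have hdr' : orderOf (d : N) = r := by rw [← hdr]; exact Subgroup.orderOf_coe d
  have hdb : ((d : N) : G) • b = b := by
    have h2 : k ∈ (stabilizer G b).comap (N.subtype.comp K.subtype) := hkb
    exact pow_mem h2 (orderOf k / r)
  have hdC : d ∉ C := by
    intro hdC
    refine hrpe (hdr ▸ ?_)
    have hcard : Nat.card C * (2 ^ m - 1) = p * e * (2 ^ m - 1) := by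
      rw [← hindex, Subgroup.card_mul_index, hF.card_stab S, hindex]; ring
    rw [← Nat.eq_of_mul_eq_mul_right (by have := hF.q_four; omega) hcard]
    exact Subgroup.orderOf_dvd_natCard _ hdC
  have hdnot : ∀ z ∈ (S : Subgroup N), z ≠ 1 → z * z = 1 → ∀ U : Sylow 2 N, U ≠ S → (d : N) • U = U →
      (d : N) * z ≠ z * d := fun z hz hz1 hz2 U hU hdU e1 => hdC ((hC d).mpr
    (hF.cent_all hU (mem_torus.mpr ⟨mem_stabilizer_iff.mp d.2, hdU⟩) hz hz1 hz2 e1 hz0 hz02))
  have hnotS : (d : N) ∉ (S : Subgroup N) := fun hdS => hrpe (dvd_mul_of_dvd_left (by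
    rw [← hdr', ← hF.card_sylow S]; exact Subgroup.orderOf_dvd_natCard _ hdS) e)
  have hdpow : (d : N) ^ r = 1 := by rw [← hdr']; exact pow_orderOf_eq_one _
  -- it fixes the line pointwise
  have hline : ∀ c ∈ (line S : Set Ω), ((d : N) : G) • c = c := by
    intro c hc
    rcases eq_or_ne c a with rfl | hca
    · exact h.fix (d : N).2
    obtain ⟨γ, hγa, hγb⟩ := h.stab_move hb hca
    set d' : N := h.act ⟨γ, mem_stabilizer_iff.mpr hγa⟩ (d : N)
    have hd'c : (d' : G) • c = c := by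
      rw [h.act_apply, mul_smul, mul_smul, ← hγb, inv_smul_smul, hdb]
    have hfix : h.act ⟨γ, mem_stabilizer_iff.mpr hγa⟩ • S = S := h.act_fix hF hev hγa hb hbS (hγb.symm ▸ hc)
    obtain ⟨i, s, hs, hds⟩ := hF.pow_of_order (mem_stabilizer_iff.mp d.2) (hKmem hca hc hd'c) hr hdpow
      ((MulEquiv.orderOf_eq _ _).trans hdr') (fun hd' => hnotS ((fix_iff hfix _).mpr hd'))
    rw [hds, Subgroup.coe_mul, SubgroupClass.coe_zpow, mul_smul, h.sfix_line hF hev hca hc s hs]
    exact zpow_mem (show (d' : G) ∈ stabilizer G c from hd'c) i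
  -- and another line
  obtain ⟨U, hUS, hdU⟩ := exists_fix_of_prime hr hdpow (A := {U : Sylow 2 N | U ≠ S})
    (fun U hU e1 => hU (smul_left_cancel (d : N) (e1.trans (mem_stabilizer_iff.mp d.2).symm)))
    (fun hdvd => hrpe (dvd_mul_of_dvd_left (by
      rw [show Nat.card {U : Sylow 2 N | U ≠ S} = p by
        rw [show ({U : Sylow 2 N | U ≠ S}) = Set.univ \ {S} by ext; simp, Nat.card_coe_set_eq,
          Set.ncard_sdiff_singleton_of_mem (Set.mem_univ S), Set.ncard_univ, hF.card_points, Nat.add_sub_cancel]]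
        at hdvd
      exact hdvd) e))
  obtain ⟨n1, hn1⟩ := exists_smul_eq N S U
  obtain ⟨s1, hs1, hs1'⟩ := hF.move (S := U) (U := n1 • U) (V := S)
    (fun e1 => hUS (smul_left_cancel n1 (e1.trans hn1.symm))) (Ne.symm hUS)
  set n0 := s1 * n1
  have hn0S : n0 • S = U := by rw [mul_smul, hn1, smul_eq_self hs1]
  have hn0U : n0 • U = S := by rw [mul_smul, hs1']
  have hlineU : ∀ c ∈ (line U : Set Ω), ((d : N) : G) • c = c := by
    intro c hc
    set d' : N := n0 * (d : N) * n0⁻¹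
    have hd'S : d' • S = S := by
      rw [mul_smul, mul_smul, inv_smul_eq_iff.mpr hn0U.symm, hdU, hn0U]
    have hd'U : d' • U = U := by
      rw [mul_smul, mul_smul, inv_smul_eq_iff.mpr hn0S.symm, mem_stabilizer_iff.mp d.2, hn0S]
    have hd'r : orderOf d' = r := (MulEquiv.orderOf_eq (MulAut.conj n0) (d : N)).trans hdr'
    obtain ⟨i, s, hs, hds⟩ := hF.pow_of_order (mem_stabilizer_iff.mp d.2) hd'S hr hdpow hd'r
      (fun hd' => hr.one_lt.ne' (by
        have h2 := hF.eq_one_of_fix hUS hd' hd'U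
        rw [← hd'r, h2, orderOf_one]))
    have hsU : s • U = U := by
      rw [show s = (d' ^ i)⁻¹ * (d : N) by rw [hds, inv_mul_cancel_left], mul_smul, hdU, inv_smul_eq_iff]
      exact (zpow_mem (show d' ∈ stabilizer N U from hd'U) i).symm
    rw [hF.eq_one_of_fix hUS hs hsU, mul_one] at hds
    have hc' : (d' : G) • c = c := by
      have h2 : ((n0⁻¹ : N) : G) • c ∈ (line S : Set Ω) := by
        have h3 := h.line_smul_N hF n0⁻¹ hc
        rwa [inv_smul_eq_iff.mpr hn0S.symm] at h3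
      rw [Subgroup.coe_mul, Subgroup.coe_mul, mul_smul, mul_smul, hline _ h2, InvMemClass.coe_inv, smul_inv_smul]
    rw [hds, SubgroupClass.coe_zpow]
    exact zpow_mem (show (d' : G) ∈ stabilizer G c from hc') i
  -- seen from the second point it fixes only two Sylow subgroups
  obtain ⟨g, hab, hba⟩ := h.exists_swap hb
  have hab' : g⁻¹ • a = b := inv_smul_eq_iff.mpr hba.symm
  have hba' : g⁻¹ • b = a := inv_smul_eq_iff.mpr hab.symm
  set dd : G := g⁻¹ * ((d : N) : G) * g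
  have hdd : dd • a = a := h.swap_fix hab hdb
  set α := h.act ⟨dd, mem_stabilizer_iff.mpr hdd⟩
  have hαS : α • S = S := h.act_fix hF hev hdd hb hbS (by rw [h.swap_fix' hba (h.fix (d : N).2)]; exact hbS)
  have hαfree : ∀ z ∈ (S : Subgroup N), z ≠ 1 → z * z = 1 → α z ≠ z := by
    intro z hz hz1 hz2 hαz
    obtain ⟨w, hw, hw2, hwe⟩ := h.seq_invol hF h1 hev hab' hba' hb hbS hz hz2
    rw [inv_inv] at hwe
    refine hdnot w hw (fun e1 => hz1 (Subtype.ext ?_)) hw2 U hUS hdU (Subtype.ext ?_)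
    · have h2 : g * (z : G) * g⁻¹ = 1 := by rw [← hwe, e1]; rfl
      exact conj_eq_one_iff.mp h2
    · have h2 := congrArg Subtype.val hαz
      rw [h.act_apply] at h2
      rw [Subgroup.coe_mul, Subgroup.coe_mul, hwe]
      calc ((d : N) : G) * (g * z * g⁻¹) = g * (dd * z * dd⁻¹) * dd * g⁻¹ := by simp only [dd]; group
        _ = g * z * g⁻¹ * ((d : N) : G) := by rw [h2]; simp only [dd]; group
  have hone : ∀ V V' : Sylow 2 N, V ≠ S → V' ≠ S → α • V = V → α • V' = V' → V = V' := by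
    intro V V' hV hV' e1 e2
    obtain ⟨s, hs, hsV⟩ := hF.move hV hV'
    have hαs : α s = s := hF.move_inj hV ((fix_iff hαS s).mp hs) hs (by
      have h2 := e2
      rw [← hsV, smul_smul_sylow, e1] at h2
      exact h2)
    by_cases hs1 : s = 1
    · rw [← hsV, hs1, one_smul]
    exfalso
    by_cases hs2 : s * s = 1
    · exact hαfree s hs hs1 hs2 hαs
    · exact hαfree _ (mul_mem hs hs) hs2 (hF.sq_sq hs) (by rw [map_mul, hαs])
  -- two further points on the second line give a line through both points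
  by_contra hf2
  have hf := h.two_le_numF hF hev hx
  obtain ⟨c1, c2, hc1, hc2, hne⟩ := (Set.one_lt_ncard_iff (s := (line U : Set Ω) \ {a})).mp (by
    rw [Set.ncard_sdiff_singleton_of_mem (h.mem_line hF U), ← Nat.card_coe_set_eq, h.card_line hF hev U hx]
    omega)
  have hbU : b ∉ (line U : Set Ω) := fun hbU => hUS (h.line_unique hF hev hb hbU hbS)
  have key : ∀ c ∈ (line U : Set Ω) \ {a}, ∃ V : Sylow 2 N, V ≠ S ∧ α • V = V ∧ g⁻¹ • c ∈ (line V : Set Ω) := by
    intro c hc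
    have hca : g⁻¹ • c ≠ a := fun e1 => hbU (by rw [inv_smul_eq_iff, hab] at e1; exact e1 ▸ hc.1)
    obtain ⟨V, hV, -⟩ := h.nev_one hF hev hca
    have hcV : g⁻¹ • c ∈ (line V : Set Ω) := fun y hy _ => hV y hy
    refine ⟨V, fun e1 => ?_, h.act_fix hF hev hdd hca hcV ?_, hcV⟩
    · subst e1
      exact hUS (h.line_unique hF hev hc.2 hc.1
        (h.seq_line hF h1 hev hab' hba' hb hbS hcV))
    · rw [show dd • g⁻¹ • c = g⁻¹ • ((d : N) : G) • c by simp [dd, mul_smul], hlineU c hc.1]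
      exact hcV
  obtain ⟨V, hV, hαV, hc1V⟩ := key c1 hc1
  obtain ⟨V', hV', hαV', hc2V⟩ := key c2 hc2
  rw [← hone V V' hV hV' hαV hαV'] at hc2V
  obtain ⟨u, hu, hu1, hu2⟩ := h.exists_invol_sylow hF V
  obtain ⟨w, hw, hw1, hw2⟩ := h.exists_invol_sylow hF U
  have hui := h.invol_of hF hu1 hu2
  have hgu : ∀ c, g⁻¹ • c ∈ (line V : Set Ω) → (g * (u : G) * g⁻¹) • c = c := fun c hc => by
    rw [mul_smul, mul_smul, hc u hu hu2, smul_inv_smul]
  have e2 := h.two_points hF h1 hev (cls_conj (h.mem_cls u.2 hui) g) (h.mem_cls w.2 (h.invol_of hF hw1 hw2)) hne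
    (hgu c1 hc1V) (hgu c2 hc2V) (hc1.1 w hw hw2) (hc2.1 w hw hw2)
  rw [h.fix_line hF hev hw (h.invol_of hF hw1 hw2)] at e2
  refine hbU (e2.le ?_)
  rw [mem_fixedBy, mul_smul, mul_smul, hba', h.fix u.2, hab]

theorem Pt.dich {x : G} (hx : x ∈ cls N) : numF Ω x = 2 ∨ 2 ^ m - 1 ∣ numF Ω x - 1 := by
  obtain ⟨S⟩ : Nonempty (Sylow 2 N) := inferInstance
  exact (h.dich_cent hF h1 hev hn hx S).imp_right And.left

/-- **The possible line sizes.** -/
theorem Pt.f_cases {x : G} (hx : x ∈ cls N) : numF Ω x = 2 ∨ numF Ω x = p ∨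
    (p ≠ 2 ^ m ∧ numF Ω x = 2 ^ m) ∨ (p = (2 ^ m) ^ 3 ∧ numF Ω x = (2 ^ m) ^ 2) := by
  rcases h.dich hF h1 hev hn hx with h2 | hdvd
  · exact Or.inl h2
  obtain ⟨t, ht, hpt⟩ : ∃ t, (t = 1 ∨ t = 2 ∨ t = 3) ∧ p = (2 ^ m) ^ t := by
    rcases hF.kind with ⟨hp, -⟩ | ⟨hp, -⟩ | ⟨hp, -⟩
    · exact ⟨1, Or.inl rfl, by rw [pow_one]; exact hp⟩
    · exact ⟨2, Or.inr (Or.inl rfl), hp⟩
    · exact ⟨3, Or.inr (Or.inr rfl), hp⟩
  obtain ⟨j, hj, hfj⟩ := (Nat.dvd_prime_pow Nat.prime_two).mp (show numF Ω x ∣ 2 ^ (m * t) by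
    rw [pow_mul, ← hpt]; exact h.numF_dvd hF h1 hev hx)
  have hm := hF.two_le
  have hg := Nat.pow_sub_one_gcd_pow_sub_one 2 m j
  rw [Nat.gcd_eq_left (hfj ▸ hdvd)] at hg
  have hmg : m = Nat.gcd m j := Nat.pow_right_injective le_rfl (by
    have h1' := Nat.one_le_two_pow (n := m)
    have h2' := Nat.one_le_two_pow (n := Nat.gcd m j)
    show 2 ^ m = 2 ^ Nat.gcd m j
    omega)
  obtain ⟨i, rfl⟩ : m ∣ j := Nat.gcd_eq_left_iff_dvd.mp hmg.symm
  have hit : i ≤ t := Nat.le_of_mul_le_mul_left hj (by omega)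
  have hi1 : 1 ≤ i := by
    by_contra hi
    have := h.two_le_numF hF hev hx
    rw [hfj, show i = 0 by omega] at this
    simp at this
  rw [hfj, pow_mul]
  have hq := hF.q_four
  rcases ht with rfl | rfl | rfl <;> interval_cases i
  · exact Or.inr (Or.inl hpt.symm)
  · refine Or.inr (Or.inr (Or.inl ⟨fun e1 => ?_, pow_one _⟩))
    rw [hpt, pow_two] at e1; nlinarith
  · exact Or.inr (Or.inl hpt.symm)
  · refine Or.inr (Or.inr (Or.inl ⟨fun e1 => ?_, pow_one _⟩))
    rw [hpt, pow_succ, pow_two] at e1; nlinarith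
  · exact Or.inr (Or.inr (Or.inr ⟨hpt, rfl⟩))
  · exact Or.inr (Or.inl hpt.symm)

end CfsgLib.RankOnePoint
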