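import Cfsg.Agent.Lib.RankOnePoint.EvenOrder

/-!
Non-abelian Sylow subgroups: the members exchanging the two points of a line act on its Sylow subgroup trivially on
the coordinates or by the involutive field automorphism, so a line has neither `q` nor `q²` points.

Blueprint: `blueprint/S2208.md`, part C.
-/

set_option autoImplicit false
set_option linter.unusedSectionVars false
set_option linter.style.haveILetI false

namespace CfsgLib.RankOnePoint

open MulAction CfsgLib.BinaryCoset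
open scoped Pointwise

universe u v

/-- A map with small fibres has a large range. -/
theorem card_le_mul_of_fibre {A : Type*} [Group A] [Finite A] {B : Type*} [Finite B] (f : A → B) (P : A → Prop)
    (hf : ∀ s t, f s = f t → P (s⁻¹ * t)) : Nat.card A ≤ Nat.card {s : A // P s} * Nat.card B := by
  classical
  rw [← Nat.card_prod]
  have hex : ∀ s : A, f (Function.invFun f (f s)) = f s := fun s => Function.invFun_eq ⟨s, rfl⟩
  refine Nat.card_le_card_of_injective
    (fun s => (⟨(Function.invFun f (f s))⁻¹ * s, hf _ _ (hex s)⟩, f s)) fun s t e => ?_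
  obtain ⟨e1, e2⟩ := Prod.mk.inj e
  have e3 := congrArg Subtype.val e1
  simp only at e3
  rw [e2] at e3
  exact mul_left_cancel e3

/-- A subgroup with more than half of the elements is everything. -/
theorem eq_top_of_half {A : Type*} [Group A] [Finite A] {H : Subgroup A} (h : Nat.card A < 2 * Nat.card H) :
    H = ⊤ := by
  refine Subgroup.index_eq_one.mp ?_
  have h1 := H.card_mul_index
  have h0 : H.index ≠ 0 := Subgroup.index_ne_zero_of_finite
  by_contra h2
  have : Nat.card H * 2 ≤ Nat.card H * H.index := Nat.mul_le_mul_left _ (by omega)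
  omega

section Fact

variable {X : Type u} [Group X] [Finite X] [IsSimpleGroup X] {m p e : ℕ} (h : Facts X m p e) {S : Sylow 2 X}
include h

omit [IsSimpleGroup X] h in
/-- A semilinear automorphism with the involutive field automorphism, of square one on the coordinates. -/
def Sigma (C : Coord X S m p) (θ : MulAut (S : Subgroup X)) : Prop :=
  ∃ (u : C.F) (φ : C.F ≃+* C.F), (∀ s : (S : Subgroup X), C.π (θ s : X) = u * φ (C.π s)) ∧ u * φ u = 1 ∧
    (∀ c, φ (φ c) = c) ∧ (∀ c, φ c = c ^ 2 ^ m) ∧ ∃ c, φ c ≠ c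

omit [IsSimpleGroup X] h in
/-- Trivial on the coordinates. -/
def Triv (C : Coord X S m p) (θ : MulAut (S : Subgroup X)) : Prop :=
  ∀ s : (S : Subgroup X), C.π (θ s : X) = C.π s

/-- An automorphism of square one on the coordinates has one of the two types. -/
theorem Facts.swap_type (hp : p ≠ 2 ^ m) (C : Coord X S m p) {θ : MulAut (S : Subgroup X)}
    (h2 : ∀ s : (S : Subgroup X), C.π (θ (θ s) : X) = C.π s) :
    Triv C θ ∨ (p = (2 ^ m) ^ 3 ∧ Sigma C θ) := by
  obtain ⟨u, φ, ha⟩ := C.semiS hp θ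
  obtain ⟨k, hk, hk3, hk2⟩ := h.card_F_pow C
  have key : ∀ c, (u : C.F) * φ u * φ (φ c) = c := fun c => by
    obtain ⟨x, hx, rfl⟩ := C.surj c
    have h3 := h2 ⟨x, hx⟩
    rw [ha, ha ⟨x, hx⟩, map_mul, ← mul_assoc] at h3
    exact h3
  have hu : (u : C.F) * φ u = 1 := by simpa using key 1
  have hφ : ∀ c, φ (φ c) = c := fun c => by simpa [hu] using key c
  by_cases hid : ∀ c, φ c = c
  · left
    intro s
    have hu1 : (u : C.F) = 1 := eq_one_of_pow_two (k := 1) (by rw [pow_one, pow_two]; rwa [hid] at hu)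
    rw [ha, hu1, hid, one_mul]
  obtain ⟨hev, hpow⟩ := (ringAut_invol hk φ hφ).resolve_left hid
  push Not at hid
  have hq := h.q_four
  rcases h.kind_ne hp with ⟨hp2, ho, -⟩ | ⟨hp3, -⟩
  · rw [hk2 (hp2 ▸ (Nat.pow_lt_pow_right (by omega) (by omega : 2 < 3)).ne)] at hev
    exact absurd hev (Nat.not_even_iff_odd.mpr ho)
  refine Or.inr ⟨hp3, u, φ, ha, hu, hφ, fun c => ?_, hid⟩
  rw [hpow, hk3 hp3, show 2 * m / 2 = m by omega]

/-- Trivial on the coordinates, an automorphism fixes many elements. -/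
theorem Facts.triv_cent (hp : p ≠ 2 ^ m) (C : Coord X S m p) {θ : MulAut (S : Subgroup X)} (ht : Triv C θ) :
    p ≤ Nat.card {s : (S : Subgroup X) // θ s = s} * 2 ^ m := by
  rw [← h.card_sylow S]
  have h1 := card_le_mul_of_fibre (A := (S : Subgroup X)) (B := {x : X // x ∈ (S : Subgroup X) ∧ x * x = 1})
    (fun s => ⟨(θ s * s⁻¹ : (S : Subgroup X)), (θ s * s⁻¹).2, (h.ker_iff hp C (θ s * s⁻¹).2).mp (by
      rw [Subgroup.coe_mul, InvMemClass.coe_inv, C.hom _ (θ s).2 _ (inv_mem s.2), C.map_inv s.2, ht,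
        CharTwo.add_self_eq_zero])⟩) (fun s => θ s = s) fun s t e => by
      have e1 : θ s * s⁻¹ = θ t * t⁻¹ := Subtype.ext (congrArg Subtype.val e :)
      rw [map_mul, map_inv, inv_mul_eq_iff_eq_mul, ← mul_assoc]
      rw [e1]
      group
  rwa [h.card_sq_one] at h1

/-- With the field automorphism, an involutive automorphism fixes only elements of square one. -/
theorem Facts.sigma_cent (hp : p ≠ 2 ^ m) (C : Coord X S m p) {θ : MulAut (S : Subgroup X)} (hθ : θ * θ = 1)
    (hs : Sigma C θ) {s : (S : Subgroup X)} (hfix : θ s = s) : (s : X) * s = 1 := by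
  obtain ⟨u, φ, ha, hu, hφ, -, c, hc⟩ := hs
  have hθθ : ∀ y, θ (θ y) = y := fun y => by rw [← MulAut.mul_apply, hθ, MulAut.one_apply]
  have hsum : c + φ c ≠ 0 := fun e1 => hc (CharTwo.add_eq_zero.mp e1).symm
  set b0 := c / (c + φ c)
  have hb0 : b0 + φ b0 = 1 := by
    rw [map_div₀, map_add, hφ, add_comm (φ c) c, ← add_div, div_self hsum]
  obtain ⟨r, hr, hrπ⟩ := C.surj (C.π s * b0)
  set i : (S : Subgroup X) := (⟨r, hr⟩ : (S : Subgroup X))⁻¹ * θ ⟨r, hr⟩
  have hfs : (u : C.F) * φ (C.π s) = C.π s := by rw [← ha, hfix]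
  have hiπ : C.π (i : X) = C.π s := by
    rw [Subgroup.coe_mul, C.hom _ (SetLike.coe_mem _) _ (SetLike.coe_mem _), InvMemClass.coe_inv, C.map_inv hr, ha,
      hrπ, map_mul, ← mul_assoc, hfs, ← mul_add, hb0, mul_one]
  have hiθ : θ i = i⁻¹ := by
    simp only [i]; rw [map_mul, map_inv, hθθ]; group
  have hz : C.π ((s⁻¹ * i : (S : Subgroup X)) : X) = 0 := by
    rw [Subgroup.coe_mul, InvMemClass.coe_inv, C.hom _ (inv_mem s.2) _ i.2, C.map_inv s.2, hiπ,
      CharTwo.add_self_eq_zero]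
  have hzfix := h.fix_omega hp hθ (z := s⁻¹ * i) (Subtype.ext ((h.ker_iff hp C (s⁻¹ * i).2).mp hz))
  rw [map_mul, map_inv, hfix, hiθ, mul_left_cancel_iff] at hzfix
  have hi2 : (i : X) * i = 1 := by
    refine mul_eq_one_iff_eq_inv.mpr ?_
    rw [← InvMemClass.coe_inv, hzfix]
  refine (h.ker_iff hp C s.2).mp ?_
  rw [← hiπ]
  exact (h.ker_iff hp C i.2).mpr hi2

/-- The elements on which the field automorphism acts trivially move under the torus elements centralising the
elements of square one, whatever they are. -/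
theorem Facts.sigma_torus (hp : p = (2 ^ m) ^ 3) (C : Coord X S m p) {θ : MulAut (S : Subgroup X)} (hs : Sigma C θ)
    {U : Sylow 2 X} (hU : U ≠ S) {d : X} (hd : d ∈ torus S U) (hd1 : d ≠ 1)
    (hdZ : ∀ z ∈ (S : Subgroup X), z * z = 1 → d * z = z * d)
    (hcomm : ∀ s t : (S : Subgroup X), (t : X) = d * s * d⁻¹ → (θ t : X) = d * θ s * d⁻¹) : False := by
  have hq := h.q_four
  have hne : p ≠ 2 ^ m := fun e1 => by rw [hp, pow_succ, pow_two] at e1; nlinarith
  obtain ⟨u, φ, ha, hu, hφ, hpow, c, hc⟩ := hs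
  have hdS := (mem_torus.mp hd).1
  -- a fixed coordinate
  obtain ⟨v, hv0, hvf⟩ : ∃ v : C.F, v ≠ 0 ∧ u * φ v = v := by
    obtain ⟨w, hw⟩ : ∃ w, w + u * φ w ≠ 0 := by
      by_contra hc'
      push Not at hc'
      have h1 := hc' 1
      rw [map_one, mul_one, CharTwo.add_eq_zero] at h1
      have h3 := hc' c
      rw [← h1, one_mul, CharTwo.add_eq_zero] at h3
      exact hc h3.symm
    refine ⟨_, hw, ?_⟩
    rw [map_add, map_mul, hφ, mul_add, ← mul_assoc, hu, one_mul, add_comm]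
  obtain ⟨s, hs', rfl⟩ := C.surj v
  have ht : d * s * d⁻¹ ∈ (S : Subgroup X) := conj_mem_of_fix hdS hs'
  have hαS : MulAut.conj d • S = S := hdS
  have htf : u * φ (C.π (d * s * d⁻¹)) = C.π (d * s * d⁻¹) := by
    have h1 := ha ⟨_, ht⟩
    rw [hcomm ⟨s, hs'⟩ ⟨_, ht⟩ rfl] at h1
    refine h1.symm.trans ?_
    have h2 := C.congr hαS (θ ⟨s, hs'⟩).2 hs' ((ha ⟨s, hs'⟩).trans hvf)
    simpa [MulAut.conj_apply] using h2
  -- it has the same norm
  have hsq : d * s * d⁻¹ * (d * s * d⁻¹) = s * s := by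
    rw [show d * s * d⁻¹ * (d * s * d⁻¹) = d * (s * s) * d⁻¹ by group, hdZ _ (mul_mem hs' hs') (h.sq_sq hs'),
      mul_inv_cancel_right]
  have hN := (C.norm hp _ ht _ hs').mp hsq
  rw [← hpow, ← hpow] at hN
  set v' := C.π (d * s * d⁻¹)
  have hu0 : u ≠ 0 := fun e1 => by rw [e1, zero_mul] at hu; exact zero_ne_one hu
  have heq : (v' + C.π s) ^ 2 = 0 := by
    have e1 : u * (v' * φ v') = v' ^ 2 := by rw [mul_left_comm, htf, pow_two]
    have e2 : u * (C.π s * φ (C.π s)) = C.π s ^ 2 := by rw [mul_left_comm, hvf, pow_two]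
    rw [CharTwo.add_sq, ← e1, ← e2, hN, CharTwo.add_self_eq_zero]
  have hvv := CharTwo.add_eq_zero.mp (pow_eq_zero_iff two_ne_zero |>.mp heq)
  -- so the torus element fixes it modulo the squares
  let Z : Subgroup X :=
    { carrier := {x | x ∈ (S : Subgroup X) ∧ C.π x = 0}
      one_mem' := ⟨one_mem _, C.map_one⟩
      mul_mem' := fun {x y} hx hy => ⟨mul_mem hx.1 hy.1, by rw [C.hom _ hx.1 _ hy.1, hx.2, hy.2, add_zero]⟩
      inv_mem' := fun {x} hx => ⟨inv_mem hx.1, by rw [C.map_inv hx.1]; exact hx.2⟩ }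
  refine hv0 (h.fpf hU hd hd1 (K := Z) (fun z hz hz2 => ⟨hz, (h.ker_iff hne C hz).mpr hz2⟩) (fun z hz => hz.1)
    (fun z hz => ?_) hs' ⟨mul_mem ht (inv_mem hs'), ?_⟩).2
  · rw [hdZ z hz.1 ((h.ker_iff hne C hz.1).mp hz.2), mul_inv_cancel_right]
    exact hz
  · rw [C.hom _ ht _ (inv_mem hs'), C.map_inv hs']
    exact CharTwo.add_eq_zero.mpr hvv

end Fact

variable {G : Type u} {Ω : Type v} [Group G] [MulAction G Ω] [Finite G] [Finite Ω] [FaithfulSMul G Ω]
  {a : Ω} {N : Subgroup G} (h : Pt G a N) [IsSimpleGroup N] {m p e : ℕ} (hF : Facts N m p e) (h1 : H1 a N)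
  (hev : ¬ Ev a N) (hn : Even (Nat.card Ω))
include h hF h1 hev hn

/-- An element stabilising a line acts on its Sylow subgroup. -/
theorem Pt.conj_aut {γ : G} {S : Sylow 2 N} (hγ : ∀ c ∈ (line S : Set Ω), γ • c ∈ (line S : Set Ω)) :
    ∃ θ : MulAut (S : Subgroup N), ∀ s : (S : Subgroup N), ((θ s : N) : G) = γ * (s : N) * γ⁻¹ := by
  have hnm := Subgroup.mem_normalizer_iff.mp (h.norm_line hF h1 hev hn hγ)
  have hex : ∀ s : (S : Subgroup N), ∃ t : (S : Subgroup N), ((t : N) : G) = γ * (s : N) * γ⁻¹ := fun s => by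
    obtain ⟨t, ht, hte⟩ := (hnm ((s : N) : G)).mp ⟨s, s.2, rfl⟩
    exact ⟨⟨t, ht⟩, hte⟩
  choose f hf using hex
  refine ⟨MulEquiv.ofBijective (MonoidHom.mk' f fun s t => Subtype.ext (Subtype.ext ?_)) (Finite.injective_iff_bijective.mp
    fun s t e => Subtype.ext (Subtype.ext ?_)), hf⟩
  · rw [Subgroup.coe_mul, Subgroup.coe_mul, hf, hf, hf, Subgroup.coe_mul, Subgroup.coe_mul]; group
  · have e' : f s = f t := e
    have := hf s
    rw [e', hf] at this
    exact (mul_left_cancel (mul_right_cancel this)).symm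

section Swap

variable {S : Sylow 2 N} {b : Ω} (hb : b ≠ a) (hbS : b ∈ (line S : Set Ω)) {x : G} (hx : x ∈ cls N)
  (hxa : x • a = b)
include hb hbS hx hxa

omit hn in
theorem Pt.swap_line : ∀ c ∈ (line S : Set Ω), x • c ∈ (line S : Set Ω) := by
  intro c hc y hy hy2
  have hxb : x • b = a := by rw [← hxa, ← mul_smul, hx.1.2, one_smul]
  obtain ⟨w, hw, hw2, hwe⟩ := h.seq_invol hF h1 hev hxa hxb hb hbS hy hy2
  have h3 := hc w hw hw2
  rw [hwe, mul_smul, mul_smul, inv_smul_eq_iff] at h3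
  exact h3

/-- The automorphism of the Sylow subgroup given by a swapper. -/
theorem Pt.swap_aut : ∃ θ : MulAut (S : Subgroup N), θ * θ = 1 ∧
    ∀ s : (S : Subgroup N), ((θ s : N) : G) = x * (s : N) * x := by
  obtain ⟨θ, hθ⟩ := h.conj_aut hF h1 hev hn (h.swap_line hF h1 hev hb hbS hx hxa)
  have hxi : x⁻¹ = x := inv_eq_of_mul_eq_one_right hx.1.2
  refine ⟨θ, MulEquiv.ext fun s => Subtype.ext (Subtype.ext ?_), fun s => by rw [hθ, hxi]⟩
  rw [MulAut.mul_apply, hθ, hθ, MulAut.one_apply, hxi]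
  calc x * (x * ((s : N) : G) * x) * x = (x * x) * ((s : N) : G) * (x * x) := by group
    _ = ((s : N) : G) := by rw [hx.1.2, one_mul, mul_one]

omit hn in
/-- The fixed points of a swapper are off the line. -/
theorem Pt.swap_off {c : Ω} (hxc : x • c = c) : c ∉ (line S : Set Ω) := by
  intro hc
  obtain ⟨z, hz, hz1, hz2⟩ := h.exists_invol_sylow hF S
  have hzi := h.invol_of hF hz1 hz2
  have e1 := h.axis hF h1 hev hx (h.mem_cls z.2 hzi) hxc (hc z hz hz2) (by
    rw [h.fix_line hF hev hz hzi]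
    exact h.swap_line hF h1 hev hb hbS hx hxa)
  have h2 : x • a = a := by
    show a ∈ fixedBy Ω x
    rw [e1]
    exact h.fix z.2
  exact hb (hxa.symm.trans h2)

omit hn in
/-- The centraliser of a swapper acts semiregularly on its fixed points. -/
theorem Pt.swap_cent_le : Nat.card {s : (S : Subgroup N) // x * (s : N) = (s : N) * x} ≤ numF Ω x := by
  have hpos : 0 < numF Ω x := by have := h.two_le_numF hF hev hx; omega
  obtain ⟨c0⟩ := (Nat.card_pos_iff.mp hpos).1
  have hc0 : x • c0.1 = c0.1 := c0.2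
  refine Nat.card_le_card_of_injective (fun s => ⟨((s.1 : N) : G) • c0.1, ?_⟩) fun s t e => ?_
  · show x • (((s.1 : N) : G) • c0.1) = ((s.1 : N) : G) • c0.1
    rw [← mul_smul, s.2, mul_smul, hc0]
  by_contra hne
  have e1 : ((s.1 : N) : G) • c0.1 = ((t.1 : N) : G) • c0.1 := congrArg Subtype.val e
  refine h.swap_off hF h1 hev hb hbS hx hxa hc0 (h.line_of_fix hF hev
    (s := ((t.1 : N))⁻¹ * (s.1 : N)) (mul_mem (inv_mem t.1.2) s.1.2) (fun e2 => hne (Subtype.ext (Subtype.ext
      (inv_mul_eq_one.mp e2).symm))) ?_)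
  rw [Subgroup.coe_mul, InvMemClass.coe_inv, mul_smul, e1, inv_smul_smul]

/-- The swappers are at least as many as the cosets of the centraliser of one. -/
theorem Pt.swap_conj_le : p ≤ Nat.card {s : (S : Subgroup N) // x * (s : N) = (s : N) * x} * numW N a b := by
  rw [← hF.card_sylow S]
  refine card_le_mul_of_fibre (A := (S : Subgroup N)) (B := {y : G // y ∈ cls N ∧ y • a = b})
    (fun s => ⟨((s : N) : G) * x * ((s : N) : G)⁻¹, cls_conj hx _, ?_⟩) _ fun s t e => ?_
  · rw [mul_smul, mul_smul, inv_smul_eq_iff.mpr (h.fix (s : N).2).symm, hxa]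
    exact h.sfix_line hF hev hb hbS (s : N) s.2
  · have e1 : ((s : N) : G) * x * ((s : N) : G)⁻¹ = ((t : N) : G) * x * ((t : N) : G)⁻¹ := congrArg Subtype.val e
    rw [Subgroup.coe_mul, Subgroup.coe_mul, InvMemClass.coe_inv, InvMemClass.coe_inv]
    calc x * (((s : N) : G)⁻¹ * ((t : N) : G))
        = ((s : N) : G)⁻¹ * (((s : N) : G) * x * ((s : N) : G)⁻¹) * ((t : N) : G) := by group
      _ = ((s : N) : G)⁻¹ * ((t : N) : G) * x := by rw [e1]; group

/-- With `q²` points on a line every swapper is trivial on the coordinates. -/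
theorem Pt.swap_triv (hp : p = (2 ^ m) ^ 3) (hf : numF Ω x = (2 ^ m) ^ 2) (C : Coord N S m p)
    {θ : MulAut (S : Subgroup N)} (hθ : θ * θ = 1) (hθx : ∀ s : (S : Subgroup N), ((θ s : N) : G) = x * (s : N) * x) :
    Triv C θ := by
  have hq := hF.q_four
  have hne : p ≠ 2 ^ m := fun e1 => by rw [hp, pow_succ, pow_two] at e1; nlinarith
  rcases hF.swap_type hne C (θ := θ) (fun s => by rw [← MulAut.mul_apply, hθ, MulAut.one_apply]) with ht | ⟨-, hs⟩
  · exact ht
  exfalso
  have hC : Nat.card {s : (S : Subgroup N) // x * (s : N) = (s : N) * x} ≤ 2 ^ m := by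
    rw [← hF.card_sq_one S]
    refine Nat.card_le_card_of_injective (fun s => ⟨(s.1 : N), s.1.2, hF.sigma_cent hne C hθ hs (s := s.1)
      (Subtype.ext (Subtype.ext ?_))⟩) fun s t e => Subtype.ext (Subtype.ext (congrArg Subtype.val e :))
    rw [hθx, s.2, mul_assoc, hx.1.2, mul_one]
  have hk := h.nev_key hF hev hb hx
  rw [h.numP_fix h1 hx, hf, hp, show (2 ^ m) ^ 3 * (2 ^ m - 1) = (2 ^ m) ^ 2 * (2 ^ m * (2 ^ m - 1)) by ring] at hk
  have hw := Nat.eq_of_mul_eq_mul_left (by positivity) hk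
  have := (h.swap_conj_le hF h1 hev hn hb hbS hx hxa).trans (Nat.mul_le_mul_right _ hC)
  rw [hw, hp, pow_succ', pow_two] at this
  have h3 : 2 ^ m * (2 ^ m * (2 ^ m - 1)) < 2 ^ m * (2 ^ m * 2 ^ m) :=
    Nat.mul_lt_mul_of_pos_left (Nat.mul_lt_mul_of_pos_left (by omega) (by omega)) (by omega)
  omega

end Swap

/-- A line of `Sz(q)` does not have `q` points. -/
theorem Pt.not_f_sz (hp : p = (2 ^ m) ^ 2) (hf : ∀ x ∈ cls N, numF Ω x = 2 ^ m) : False := by
  classical
  have hq := hF.q_four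
  have hne : p ≠ 2 ^ m := fun e1 => by rw [hp, pow_two] at e1; nlinarith
  have hp3 : p ≠ (2 ^ m) ^ 3 := hp ▸ (Nat.pow_lt_pow_right (by omega) (by omega : 2 < 3)).ne
  have hm : 3 ≤ m := by
    have := hF.two_le
    rcases hF.kind_ne hne with ⟨-, ho, -⟩ | ⟨hp', -⟩
    · rcases ho with ⟨r, hr⟩; omega
    · exact absurd hp' hp3
  have hq8 : 8 ≤ 2 ^ m := le_trans (by norm_num) (Nat.pow_le_pow_right two_pos hm)
  obtain ⟨S⟩ : Nonempty (Sylow 2 N) := inferInstance
  obtain ⟨b, hb, hbS⟩ := h.line_second hF hev S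
  obtain ⟨C⟩ := hF.coord S
  obtain ⟨x0, hx0, hxi0⟩ := h.exists_invol
  have hk := h.nev_key hF hev hb (h.mem_cls hx0 hxi0)
  rw [h.numP_fix h1 (h.mem_cls hx0 hxi0), hf _ (h.mem_cls hx0 hxi0), hp, pow_two, mul_assoc] at hk
  have hw : numW N a b = 2 ^ m * (2 ^ m - 1) := Nat.eq_of_mul_eq_mul_left (by omega) hk
  obtain ⟨⟨x, hx, hxa⟩⟩ : Nonempty {y : G // y ∈ cls N ∧ y • a = b} := (Nat.card_pos_iff.mp (by
    show 0 < numW N a b
    rw [hw]; exact Nat.mul_pos (by omega) (by omega))).1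
  obtain ⟨θ, hθ2, hθ⟩ := h.swap_aut hF h1 hev hn hb hbS hx hxa
  have htriv : ∀ {η : MulAut (S : Subgroup N)}, η * η = 1 → Triv C η := fun {η} h2 =>
    (hF.swap_type hne C (θ := η) (fun s => by rw [← MulAut.mul_apply, h2, MulAut.one_apply])).resolve_right
      fun h3 => hp3 h3.1
  haveI := Fintype.ofFinite (S : Subgroup N)
  set T : Finset (S : Subgroup N) := Finset.univ.filter fun s => θ s = s⁻¹ with hT
  -- all swappers in one coset
  have hwT : numW N a b ≤ T.card := by
    have hex : ∀ y : {y : G // y ∈ cls N ∧ y • a = b}, ∃ w : (S : Subgroup N), ((w : N) : G) = x * y.1 := by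
      intro y
      obtain ⟨η, hη2, hη⟩ := h.swap_aut hF h1 hev hn hb hbS y.2.1 y.2.2
      have hxb : x • b = a := by rw [← hxa, ← mul_smul, hx.1.2, one_smul]
      have hyb : y.1 • b = a :=
        (congrArg (fun c => y.1 • c) y.2.2).symm.trans (by rw [← mul_smul, y.2.1.1.2, one_smul])
      obtain ⟨w, hw, hwe⟩ := h.ker hF h1 hev hn (γ := x * y.1) (by rw [mul_smul, y.2.2, hxb]) hb
        (by rw [mul_smul, hyb, hxa]) hbS C fun s hy hs => by
          rw [show (⟨_, hy⟩ : N) = (θ (η ⟨s, hs⟩) : N) from Subtype.ext (by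
            show x * y.1 * (s : G) * (x * y.1)⁻¹ = _
            rw [hθ, hη, inv_eq_of_mul_eq_one_right (show (x * y.1) * (y.1 * x) = 1 by
              rw [mul_assoc, ← mul_assoc y.1, y.2.1.1.2, one_mul, hx.1.2])]
            group)]
          rw [htriv hθ2, htriv hη2]
      exact ⟨⟨w, hw⟩, hwe⟩
    choose w hwe using hex
    rw [show numW N a b = Nat.card {y : G // y ∈ cls N ∧ y • a = b} from rfl, ← Fintype.card_coe T,
      ← Nat.card_eq_fintype_card]
    refine Nat.card_le_card_of_injective (fun y => ⟨w y, ?_⟩) fun y y' e => Subtype.ext ?_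
    · refine Finset.mem_filter.mpr ⟨Finset.mem_univ _, Subtype.ext (Subtype.ext ?_)⟩
      rw [hθ, InvMemClass.coe_inv, InvMemClass.coe_inv, hwe, _root_.mul_inv_rev, inv_eq_of_mul_eq_one_right hx.1.2,
        inv_eq_of_mul_eq_one_right y.2.1.1.2]
      rw [← mul_assoc x x, hx.1.2, one_mul]
    · have e1 : w y = w y' := congrArg Subtype.val e
      have e2 := hwe y
      rw [e1, hwe] at e2
      exact (mul_left_cancel e2).symm
  rw [hw] at hwT
  have hS : Nat.card (S : Subgroup N) = 2 ^ m * 2 ^ m := by rw [hF.card_sylow, hp, pow_two]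
  have harith : 2 ^ m * (2 ^ m - 1) + 2 ^ m = 2 ^ m * 2 ^ m := by
    rw [← Nat.mul_succ]; congr 1; omega
  have h8 : 2 ^ m * 8 ≤ 2 ^ m * 2 ^ m := Nat.mul_le_mul_left _ hq8
  -- they commute
  have hcent : ∀ s ∈ T, s ∈ Subgroup.center (S : Subgroup N) := by
    intro s hs
    have htop : Subgroup.centralizer ({s} : Set (S : Subgroup N)) = ⊤ := eq_top_of_half (by
      have h2 : (T ∩ T.image (s⁻¹ * ·)).card ≤ Nat.card (Subgroup.centralizer ({s} : Set (S : Subgroup N))) := by
        rw [← Fintype.card_coe, ← Nat.card_eq_fintype_card]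
        refine Nat.card_le_card_of_injective (fun t => ⟨t.1, Subgroup.mem_centralizer_singleton_iff.mpr ?_⟩)
          fun t t' e => Subtype.ext (congrArg Subtype.val e :)
        obtain ⟨ht1, ht2⟩ := Finset.mem_inter.mp t.2
        obtain ⟨r, hr, hrt⟩ := Finset.mem_image.mp ht2
        have e1 := (Finset.mem_filter.mp hs).2
        have e2 := (Finset.mem_filter.mp ht1).2
        have e3 := (Finset.mem_filter.mp hr).2
        rw [show r = s * t.1 by rw [← hrt, mul_inv_cancel_left], map_mul, e1, e2, _root_.mul_inv_rev] at e3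
        rw [← inv_inj, _root_.mul_inv_rev, _root_.mul_inv_rev]
        exact e3
      have h3 := Finset.card_union_add_card_inter T (T.image (s⁻¹ * ·))
      have h4 : (T ∪ T.image (s⁻¹ * ·)).card ≤ Nat.card (S : Subgroup N) := by
        rw [Nat.card_eq_fintype_card]; exact Finset.card_le_univ _
      rw [Finset.card_image_of_injective _ (mul_right_injective _)] at h3
      omega)
    refine Subgroup.mem_center_iff.mpr fun g => ?_
    exact Subgroup.mem_centralizer_singleton_iff.mp (htop ▸ Subgroup.mem_top g)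
  have hZ : Subgroup.center (S : Subgroup N) = ⊤ := eq_top_of_half (by
    have : T.card ≤ Nat.card (Subgroup.center (S : Subgroup N)) := by
      rw [← Fintype.card_coe, ← Nat.card_eq_fintype_card]
      exact Nat.card_le_card_of_injective (fun t => ⟨t.1, hcent t.1 t.2⟩)
        fun t t' e => Subtype.ext (congrArg Subtype.val e :)
    omega)
  exact hF.comm_false hne fun s hs t ht => (congrArg Subtype.val
    (Subgroup.mem_center_iff.mp (hZ ▸ Subgroup.mem_top (⟨s, hs⟩ : (S : Subgroup N))) ⟨t, ht⟩)).symm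

/-- A line of `U₃(q)` does not have `q` points. -/
theorem Pt.not_f_q (hp : p = (2 ^ m) ^ 3) (hf : ∀ x ∈ cls N, numF Ω x = 2 ^ m) : False := by
  classical
  have hq := hF.q_four
  have hne : p ≠ 2 ^ m := fun e1 => by rw [hp, pow_succ, pow_two] at e1; nlinarith
  obtain ⟨S⟩ : Nonempty (Sylow 2 N) := inferInstance
  obtain ⟨b, hb, hbS⟩ := h.line_second hF hev S
  obtain ⟨C⟩ := hF.coord S
  obtain ⟨U, hU⟩ := two_le_sylow hF S
  obtain ⟨z0, hz0, hz01, hz02⟩ := h.exists_invol_sylow hF S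
  have hzc := h.mem_cls z0.2 (h.invol_of hF hz01 hz02)
  have hcb := ((h.dich_cent hF h1 hev hn hzc S).resolve_left fun e1 => by rw [hf _ hzc] at e1; omega).2 b hbS hb
  -- the torus elements centralising the elements of square one fix the point
  set T0 : Subgroup N := torus S U ⊓ Subgroup.centralizer {z0} with hT0
  have hT0card : Nat.card T0 = e := by
    rw [← hF.card_cent hU hz0 hz01 hz02]
    exact Nat.card_congr (Equiv.subtypeEquivRight fun d => by
      simp [hT0, Subgroup.mem_centralizer_singleton_iff, eq_comm])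
  have hTb : ∀ d ∈ T0, (d : G) • b = b := by
    have hle := card_le_mul_of_fibre (A := torus S U) (B := {c : Ω // c ∈ (line S : Set Ω) ∧ c ≠ a})
      (fun d => ⟨((d : N) : G) • b, by
        have h2 := h.line_smul_N hF (d : N) hbS
        rwa [(mem_torus.mp d.2).1] at h2, fun e1 => hb (smul_left_cancel _ (e1.trans (h.fix (d : N).2).symm))⟩)
      (fun d => ((d : N) : G) • b = b) fun s t e => by
        have e1 : ((s : N) : G) • b = ((t : N) : G) • b := congrArg Subtype.val e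
        rw [Subgroup.coe_mul, Subgroup.coe_mul, mul_smul, ← e1, InvMemClass.coe_inv, InvMemClass.coe_inv,
          inv_smul_smul]
    have hL : Nat.card {c : Ω // c ∈ (line S : Set Ω) ∧ c ≠ a} = 2 ^ m - 1 := by
      rw [← hf _ hzc, ← h.card_line hF hev S hzc, Nat.card_coe_set_eq,
        ← Set.ncard_sdiff_singleton_of_mem (h.mem_line hF S), ← Nat.card_coe_set_eq]
      exact Nat.card_congr (Equiv.subtypeEquivRight fun c => by simp)
    rw [hF.card_torus hU, hL, mul_comm] at hle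
    have hle' := Nat.le_of_mul_le_mul_right hle (by omega)
    let F : {d : torus S U // ((d : N) : G) • b = b} → T0 := fun d => ⟨(d.1 : N),
      d.1.2, Subgroup.mem_centralizer_singleton_iff.mpr (hcb _ d.2 z0 hz0 hz02)⟩
    have hinj : Function.Injective F := fun d d' e => Subtype.ext (Subtype.ext (congrArg Subtype.val e :))
    have hbij := (Nat.bijective_iff_injective_and_card F).mpr ⟨hinj,
      le_antisymm (Nat.card_le_card_of_injective F hinj) (hT0card ▸ hle')⟩
    intro d hd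
    obtain ⟨d', hd'⟩ := hbij.2 ⟨d, hd⟩
    rw [← show (d'.1 : N) = d from congrArg Subtype.val hd']
    exact d'.2
  have he1 : e ≠ 1 := by
    rcases hF.kind_ne hne with ⟨hp', -⟩ | ⟨-, he | he⟩
    · exact absurd (hp ▸ hp') (Nat.pow_lt_pow_right (by omega) (by omega : 2 < 3)).ne'
    · omega
    · omega
  set r := e.minFac
  have hr : r.Prime := Nat.minFac_prime he1
  haveI := Fact.mk hr
  obtain ⟨⟨d, hdT⟩, hdr⟩ := exists_prime_orderOf_dvd_card' (G := T0) r (hT0card ▸ Nat.minFac_dvd e)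
  have hdr' : orderOf d = r := by rw [← hdr]; exact (Subgroup.orderOf_mk d hdT).symm
  have hdb := hTb d hdT
  obtain ⟨hdtor, hdz⟩ := Subgroup.mem_inf.mp hdT
  have hdZ : ∀ z ∈ (S : Subgroup N), z * z = 1 → d * z = z * d := fun z hz hz2 => hcb d hdb z hz hz2
  -- it fixes a swapper
  have hk := h.nev_key hF hev hb hzc
  rw [h.numP_fix h1 hzc, hf _ hzc, hp, pow_succ', mul_assoc] at hk
  have hw : numW N a b = (2 ^ m) ^ 2 * (2 ^ m - 1) := Nat.eq_of_mul_eq_mul_left (by omega) hk
  have hrnd : ¬ r ∣ numW N a b := by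
    intro hd
    rw [hw] at hd
    rcases hr.dvd_mul.mp hd with h2 | h2
    · have h3 := (Nat.prime_dvd_prime_iff_eq hr Nat.prime_two).mp (hr.dvd_of_dvd_pow (hr.dvd_of_dvd_pow h2))
      exact Nat.not_even_iff_odd.mpr hF.e_odd (even_iff_two_dvd.mpr (h3 ▸ Nat.minFac_dvd e))
    · exact hF.coprime_pe hr h2 (dvd_mul_of_dvd_right (Nat.minFac_dvd e) p)
  obtain ⟨x, ⟨hx, hxa⟩, hdx⟩ := exists_fix_of_prime (G := ConjAct G) (γ := ConjAct.toConjAct (d : G)) hr
    (by rw [← map_pow, show (d : G) ^ r = 1 by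
      rw [← hdr', ← Subgroup.orderOf_coe, pow_orderOf_eq_one], map_one])
    (A := {y : G | y ∈ cls N ∧ y • a = b})
    (fun y hy => ⟨by rw [ConjAct.toConjAct_smul]; exact cls_conj hy.1 _, by
      rw [ConjAct.toConjAct_smul, mul_smul, mul_smul, inv_smul_eq_iff.mpr (h.fix d.2).symm, hy.2, hdb]⟩)
    hrnd
  rw [ConjAct.toConjAct_smul, mul_inv_eq_iff_eq_mul] at hdx
  obtain ⟨θ, hθ2, hθ⟩ := h.swap_aut hF h1 hev hn hb hbS hx hxa
  rcases hF.swap_type hne C (θ := θ) (fun s => by rw [← MulAut.mul_apply, hθ2, MulAut.one_apply]) with ht | ⟨-, hs⟩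
  · have h2 := hF.triv_cent hne C ht
    have h3 : Nat.card {s : (S : Subgroup N) // θ s = s} ≤ numF Ω x := by
      refine le_trans ?_ (h.swap_cent_le hF h1 hev hb hbS hx hxa)
      refine Nat.card_le_card_of_injective (fun s => ⟨s.1, ?_⟩) fun s t e => Subtype.ext (congrArg Subtype.val e :)
      have h4 := hθ s.1
      rw [s.2] at h4
      conv_rhs => rw [h4]
      rw [mul_assoc, hx.1.2, mul_one]
    rw [hf x hx] at h3
    have h5 := h2.trans (Nat.mul_le_mul_right _ h3)
    rw [hp, pow_succ, pow_two] at h5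
    nlinarith
  · refine hF.sigma_torus hp C hs hU hdtor (fun e1 => hr.one_lt.ne' (by rw [← hdr', e1, orderOf_one])) hdZ
      fun s t hst => Subtype.ext ?_
    rw [hθ, hst, Subgroup.coe_mul, Subgroup.coe_mul, InvMemClass.coe_inv, Subgroup.coe_mul, Subgroup.coe_mul,
      InvMemClass.coe_inv, hθ]
    calc x * ((d : G) * ((s : N) : G) * (d : G)⁻¹) * x = (x * d) * ((s : N) : G) * ((d : G)⁻¹ * x) := by group
      _ = (d * x) * ((s : N) : G) * ((d : G)⁻¹ * x) := by rw [hdx]
      _ = (d : G) * (x * ((s : N) : G) * x) * (d : G)⁻¹ := by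
        rw [show (d : G)⁻¹ * x = x * (d : G)⁻¹ by
          rw [inv_mul_eq_iff_eq_mul, ← mul_assoc, hdx, mul_inv_cancel_right]]
        group

/-- A line of `U₃(q)` does not have `q²` points. -/
theorem Pt.not_f_q2 (hp : p = (2 ^ m) ^ 3) (hf : ∀ x ∈ cls N, numF Ω x = (2 ^ m) ^ 2) : False := by
  classical
  haveI := h.pretrans
  have hq := hF.q_four
  have hne : p ≠ 2 ^ m := fun e1 => by rw [hp, pow_succ, pow_two] at e1; nlinarith
  obtain ⟨S⟩ : Nonempty (Sylow 2 N) := inferInstance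
  obtain ⟨b, hb, hbS⟩ := h.line_second hF hev S
  obtain ⟨C⟩ := hF.coord S
  obtain ⟨z0, hz0, hz01, hz02⟩ := h.exists_invol_sylow hF S
  have hzc := h.mem_cls z0.2 (h.invol_of hF hz01 hz02)
  have hk := h.nev_key hF hev hb hzc
  rw [h.numP_fix h1 hzc, hf _ hzc, hp] at hk
  obtain ⟨⟨x, hx, hxa⟩⟩ : Nonempty {y : G // y ∈ cls N ∧ y • a = b} := (Nat.card_pos_iff.mp (by
    show 0 < numW N a b
    rcases Nat.eq_zero_or_pos (numW N a b) with h0 | h0
    · rw [h0, mul_zero] at hk
      exact absurd hk.symm (Nat.mul_pos (by positivity) (by omega)).ne'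
    · exact h0)).1
  obtain ⟨θ, hθ2, hθ⟩ := h.swap_aut hF h1 hev hn hb hbS hx hxa
  have htriv := h.swap_triv hF h1 hev hn hb hbS hx hxa hp (hf x hx) C hθ2 hθ
  -- the centraliser of the swapper
  let Cx : Subgroup (S : Subgroup N) := MonoidHom.eqLocus θ.toMonoidHom (MonoidHom.id _)
  have hCx : (2 ^ m) ^ 2 ≤ Nat.card Cx := by
    have h2 := hF.triv_cent hne C htriv
    rw [hp, pow_succ] at h2
    exact Nat.le_of_mul_le_mul_right h2 (by omega)
  have hcomm : ∀ s ∈ Cx, x * ((s : N) : G) = ((s : N) : G) * x := fun s hs => by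
    have h4 := hθ s
    rw [show θ s = s from hs] at h4
    conv_rhs => rw [h4]
    rw [mul_assoc, hx.1.2, mul_one]
  -- seen from a fixed point
  obtain ⟨c0⟩ := (Nat.card_pos_iff.mp (show 0 < numF Ω x by rw [hf x hx]; positivity)).1
  obtain ⟨k, hk0⟩ := exists_smul_eq G a c0.1
  have hxc : x • k • a = k • a := by rw [hk0]; exact c0.2
  set x' := k⁻¹ * x * k with hx'
  have hx'cls : x' ∈ cls N := by simpa [hx'] using cls_conj hx k⁻¹
  have hx'a : x' • a = a := by rw [hx', mul_smul, mul_smul, hxc, inv_smul_smul]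
  obtain ⟨R, hR⟩ := h.hline hF h1 hev _ hx'cls hx'a
  obtain ⟨D⟩ := hF.coord R
  have hpres : ∀ s ∈ Cx, ∀ c ∈ (line R : Set Ω), (k⁻¹ * ((s : N) : G) * k) • c ∈ (line R : Set Ω) := by
    intro s hs c hc
    rw [← hR, mem_fixedBy] at hc ⊢
    rw [← mul_smul, show x' * (k⁻¹ * ((s : N) : G) * k) = (k⁻¹ * ((s : N) : G) * k) * x' by
      simp only [hx']
      calc k⁻¹ * x * k * (k⁻¹ * ((s : N) : G) * k) = k⁻¹ * (x * ((s : N) : G)) * k := by group
        _ = k⁻¹ * ((s : N) : G) * k * (k⁻¹ * x * k) := by rw [hcomm s hs]; group, mul_smul, hc]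
  -- a non-trivial element of square one moves the point, along the line
  have hmove : ∀ z ∈ Cx, z * z = 1 → z ≠ 1 → (k⁻¹ * ((z : N) : G) * k) ∈ cls N ∧
      (k⁻¹ * ((z : N) : G) * k) • a ≠ a ∧ (k⁻¹ * ((z : N) : G) * k) • a ∈ (line R : Set Ω) := by
    intro z hz hz2 hz1
    have hzi := h.invol_of hF (fun e1 => hz1 (Subtype.ext e1)) (congrArg Subtype.val hz2)
    refine ⟨by simpa using cls_conj (h.mem_cls (z : N).2 hzi) k⁻¹, fun e1 => ?_,
      hpres z hz a (h.mem_line hF R)⟩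
    rw [mul_smul, mul_smul, inv_smul_eq_iff] at e1
    exact h.swap_off hF h1 hev hb hbS hx hxa hxc
      (h.line_of_fix hF hev z.2 (fun e2 => hz1 (Subtype.ext e2)) e1)
  have haut : ∀ s : Cx, ∃ η : MulAut (R : Subgroup N), ∀ r : (R : Subgroup N),
      ((η r : N) : G) = (k⁻¹ * ((s.1 : N) : G) * k) * (r : N) * (k⁻¹ * ((s.1 : N) : G) * k)⁻¹ :=
    fun s => h.conj_aut hF h1 hev hn (hpres s.1 s.2)
  choose η hη using haut
  have hmul : ∀ s t : Cx, η (s * t) = η s * η t := fun s t => MulEquiv.ext fun r => Subtype.ext (Subtype.ext (by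
    rw [MulAut.mul_apply, hη, hη, hη]; simp only [Subgroup.coe_mul]; group))
  -- squares act trivially on the coordinates
  have hsq : ∀ s : Cx, ∀ r : (R : Subgroup N), D.π (η s (η s r) : N) = D.π r := by
    intro s r
    rw [← MulAut.mul_apply, ← hmul]
    by_cases hs1 : s * s = 1
    · rw [hs1, show η 1 = 1 from MulEquiv.ext fun r => Subtype.ext (Subtype.ext (by simp [hη]))]
      rfl
    have hz2 : (s * s : Cx).1 * (s * s : Cx).1 = 1 := Subtype.ext (hF.sq_sq s.1.2)
    obtain ⟨hc1, hc2, hc3⟩ := hmove _ (s * s).2 hz2 fun e1 => hs1 (Subtype.ext e1)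
    obtain ⟨ξ, hξ2, hξ⟩ := h.swap_aut hF h1 hev hn hc2 hc3 hc1 rfl
    have e1 : η (s * s) = ξ := MulEquiv.ext fun r => Subtype.ext (Subtype.ext (by
      rw [hη, hξ, inv_eq_of_mul_eq_one_right hc1.1.2]))
    rw [e1]
    exact h.swap_triv hF h1 hev hn hc2 hc3 hc1 rfl hp (hf _ hc1) D hξ2 hξ r
  -- so at least half act trivially
  haveI := Fintype.ofFinite Cx
  let T : Finset Cx := Finset.univ.filter fun s => Triv D (η s)
  have hhalf : Nat.card Cx ≤ 2 * T.card := by
    rw [Nat.card_eq_fintype_card, ← Finset.card_add_card_compl T, two_mul]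
    refine Nat.add_le_add_left ?_ _
    by_cases hempty : Tᶜ = ∅
    · rw [hempty]; simp
    obtain ⟨s0, hs0⟩ := Finset.nonempty_iff_ne_empty.mpr hempty
    refine Finset.card_le_card_of_injOn (s0 * ·) (fun t ht => ?_) (mul_right_injective s0).injOn
    have ht' : t ∈ Tᶜ := ht
    simp only [T, Finset.mem_compl, Finset.mem_filter, Finset.mem_univ, true_and] at hs0 ht'
    refine Finset.mem_coe.mpr (Finset.mem_filter.mpr ⟨Finset.mem_univ _, ?_⟩)
    obtain ⟨-, u, φ, hu, -, hφ, hpow, -⟩ := (hF.swap_type hne D (hsq s0)).resolve_left hs0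
    obtain ⟨-, v, ψ, hv, -, -, hpow', -⟩ := (hF.swap_type hne D (hsq t)).resolve_left ht'
    have hlin : ∀ r, D.π (η (s0 * t) r : N) = u * φ v * D.π r := fun r => by
      rw [hmul, MulAut.mul_apply, hu, hv, map_mul, show ψ (D.π r) = φ (D.π r) by rw [hpow', hpow], hφ, mul_assoc]
    intro r
    obtain ⟨y, hy, hye⟩ := D.surj 1
    have h3 := hsq (s0 * t) ⟨y, hy⟩
    rw [hlin, hlin, hye, mul_one] at h3
    rw [hlin, eq_one_of_pow_two (k := 1) (show (u * φ v) ^ 2 ^ 1 = 1 by rw [pow_one, pow_two]; exact h3), one_mul]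
  -- one of them has order four
  obtain ⟨s, hsT, hs4⟩ : ∃ s ∈ T, s * s ≠ 1 := by
    by_contra! hall
    have h4 : T.card ≤ 2 ^ m := by
      rw [← hF.card_sq_one S, ← Fintype.card_coe, ← Nat.card_eq_fintype_card]
      exact Nat.card_le_card_of_injective
        (fun t => ⟨(t.1.1 : N), t.1.1.2, congrArg (fun w : Cx => ((w.1 : (S : Subgroup N)) : N)) (hall t.1 t.2)⟩)
        fun t t' e => Subtype.ext (Subtype.ext (Subtype.ext (congrArg Subtype.val e :)))
    rw [pow_two] at hCx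
    nlinarith
  have hsTriv : Triv D (η s) := (Finset.mem_filter.mp hsT).2
  have hfixR : ∀ r : (R : Subgroup N), η (s * s) r = r := by
    intro r
    have hδ : ∀ y : (R : Subgroup N), (((y⁻¹ * η s y : (R : Subgroup N)) : N)) *
        ((y⁻¹ * η s y : (R : Subgroup N)) : N) = 1 := fun y => (hF.ker_iff hne D (y⁻¹ * η s y).2).mp (by
      rw [Subgroup.coe_mul, InvMemClass.coe_inv, D.hom _ (inv_mem y.2) _ (η s y).2, D.map_inv y.2, hsTriv,
        CharTwo.add_self_eq_zero])
    have hZfix : ∀ z : (R : Subgroup N), (z : N) * z = 1 → η s z = z := by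
      intro z hz
      obtain ⟨y, hy, hyz⟩ := (D.ker z z.2).mp ((hF.ker_iff hne D z.2).mpr hz)
      obtain rfl : z = (⟨y, hy⟩ : (R : Subgroup N)) * ⟨y, hy⟩ := Subtype.ext hyz.symm
      set y' : (R : Subgroup N) := ⟨y, hy⟩
      have e1 : η s y' = y' * (y'⁻¹ * η s y') := by group
      have hc : (y'⁻¹ * η s y') * y' = y' * (y'⁻¹ * η s y') :=
        Subtype.ext (hF.central (y'⁻¹ * η s y').2 (hδ y') y'.2)
      rw [map_mul, e1]
      calc y' * (y'⁻¹ * η s y') * (y' * (y'⁻¹ * η s y'))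
          = y' * ((y'⁻¹ * η s y') * y') * (y'⁻¹ * η s y') := by group
        _ = y' * (y' * (y'⁻¹ * η s y')) * (y'⁻¹ * η s y') := by rw [hc]
        _ = y' * y' * ((y'⁻¹ * η s y') * (y'⁻¹ * η s y')) := by group
        _ = y' * y' := by rw [show (y'⁻¹ * η s y') * (y'⁻¹ * η s y') = 1 from Subtype.ext (hδ y'), mul_one]
    rw [hmul, MulAut.mul_apply]
    set δ := r⁻¹ * η s r with hδdef
    have e2 : η s r = r * δ := by rw [hδdef, mul_inv_cancel_left]
    calc η s (η s r) = η s (r * δ) := congrArg _ e2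
      _ = r * δ * δ := by rw [map_mul, hZfix δ (hδ r), e2]
      _ = r := by rw [mul_assoc, show δ * δ = 1 from Subtype.ext (hδ r), mul_one]
  have hz2 : (s * s : Cx).1 * (s * s : Cx).1 = 1 := Subtype.ext (hF.sq_sq s.1.2)
  obtain ⟨hc1, hc2, hc3⟩ := hmove _ (s * s).2 hz2 fun e1 => hs4 (Subtype.ext e1)
  have hbound := h.swap_cent_le hF h1 hev hc2 hc3 hc1 rfl
  set z' := k⁻¹ * (((s * s : Cx).1 : N) : G) * k
  have hall : Nat.card (R : Subgroup N) ≤ Nat.card {r : (R : Subgroup N) // z' * (r : N) = (r : N) * z'} := by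
    refine Nat.card_le_card_of_injective (fun r => ⟨r, ?_⟩) fun r r' e => congrArg Subtype.val e
    have h5 := hη (s * s) r
    rw [hfixR] at h5
    exact (eq_mul_inv_iff_mul_eq.mp h5).symm
  rw [hF.card_sylow] at hall
  rw [hf _ hc1] at hbound
  have h6 := hall.trans hbound
  rw [hp, pow_succ, pow_two] at h6
  nlinarith

end CfsgLib.RankOnePoint
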