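import Cfsg.Agent.Lib.RankOnePoint.Defs
import Cfsg.Agent.Lib.CyclicInt.CaseAAux

/-!
Transporting the coordinates and the torus of a standard Sylow 2-subgroup.

Blueprint: `blueprint/S2208.md`.
-/

set_option autoImplicit false
set_option linter.unusedSectionVars false
set_option linter.style.haveILetI false

namespace CfsgLib.RankOnePoint

open MulAction CfsgLib.BinaryCoset CfsgLib.CyclicInt
open scoped Pointwise

universe u v

variable {X : Type u} [Group X] [Finite X]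

theorem smul_eq_iff_conj {x : X} {S : Sylow 2 X} :
    x • S = S ↔ ∀ y : X, y ∈ (S : Subgroup X) ↔ x * y * x⁻¹ ∈ (S : Subgroup X) := by
  rw [smul_eq_iff_normalizer, Subgroup.mem_normalizer_iff]

/-- An element conjugating a Sylow subgroup into itself fixes it. -/
theorem smul_eq_of_conj {x : X} {S : Sylow 2 X}
    (h : ∀ y ∈ (S : Subgroup X), x * y * x⁻¹ ∈ (S : Subgroup X)) : x • S = S := by
  refine (Sylow.ext ((x • S).is_maximal' S.2 ?_)).symm
  intro y hy
  have := h _ (mem_smul_sylow.mp hy)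
  rwa [show x * (x⁻¹ * y * x) * x⁻¹ = y by group] at this

theorem pow_smul_eq {g : X} {S : Sylow 2 X} (h : g • S = S) (k : ℕ) : g ^ k • S = S := by
  induction k with
  | zero => rw [pow_zero, one_smul]
  | succ k ih => rw [pow_succ, mul_smul, h, ih]

/-- Automorphisms of the group restricted to a fixed Sylow subgroup. -/
theorem semi_of_semiS {F : Type} [Field F] {S : Sylow 2 X} {π : X → F}
    (h : ∀ θ : MulAut (S : Subgroup X),
      ∃ (u : Fˣ) (φ : F ≃+* F), ∀ x : (S : Subgroup X), π (θ x : X) = u * φ (π x))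
    (α : MulAut X) (hα : ∀ x : X, x ∈ (S : Subgroup X) ↔ α x ∈ (S : Subgroup X)) :
    ∃ (u : Fˣ) (φ : F ≃+* F), ∀ x ∈ (S : Subgroup X), π (α x) = u * φ (π x) := by
  let θ : MulAut (S : Subgroup X) :=
    MulEquiv.mk' (α.toEquiv.subtypeEquiv fun x => hα x) fun x y => Subtype.ext (map_mul α (x : X) y)
  obtain ⟨u, φ, hu⟩ := h θ
  exact ⟨u, φ, fun x hx => hu ⟨x, hx⟩⟩

/-- An isomorphism carries any Sylow subgroup to the given one. -/
theorem exists_equiv_sylow {Y : Type v} [Group Y] [Finite Y] (e : X ≃* Y) (S : Sylow 2 X) (T : Sylow 2 Y) :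
    ∃ e' : X ≃* Y, ∀ x : X, x ∈ (S : Subgroup X) ↔ e' x ∈ (T : Subgroup Y) := by
  haveI : Fact (Nat.Prime 2) := ⟨Nat.prime_two⟩
  let S' : Sylow 2 Y := S.mapSurjective (f := e.toMonoidHom) e.surjective
  obtain ⟨g, hg⟩ := MulAction.exists_smul_eq Y S' T
  refine ⟨e.trans (MulAut.conj g), fun x => ?_⟩
  rw [← hg, mem_smul_sylow]
  show x ∈ (S : Subgroup X) ↔ g⁻¹ * (g * e x * g⁻¹) * g ∈ (S : Subgroup X).map e.toMonoidHom
  rw [show g⁻¹ * (g * e x * g⁻¹) * g = e x by group]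
  exact (Subgroup.mem_map_iff_mem (f := e.toMonoidHom) e.injective).symm

section Transport

variable {Y : Type v} [Group Y] [Finite Y] {T : Sylow 2 Y} {S : Sylow 2 X} (e : X ≃* Y)
  (hS : ∀ x : X, x ∈ (S : Subgroup X) ↔ e x ∈ (T : Subgroup Y))
include hS

theorem smul_map {x : X} : x • S = S ↔ e x • T = T := by
  rw [smul_eq_iff_conj, smul_eq_iff_conj, e.surjective.forall]
  refine forall_congr' fun y => ?_
  rw [hS, hS, map_mul, map_mul, map_inv]

/-- Coordinates move along isomorphisms. -/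
theorem Coord.comap {m p : ℕ} (C : Coord Y T m p) : Nonempty (Coord X S m p) := by
  letI := C.field
  letI := C.fintype
  haveI := C.char
  let r : (S : Subgroup X) ≃* (T : Subgroup Y) :=
    MulEquiv.mk' (e.toEquiv.subtypeEquiv fun x => hS x) fun x y => Subtype.ext (map_mul e (x : X) y)
  refine ⟨{
    F := C.F
    field := C.field
    fintype := C.fintype
    char := C.char
    π := fun x => C.π (e x)
    card := C.card
    hom := fun x hx y hy => by rw [map_mul]; exact C.hom _ ((hS x).mp hx) _ ((hS y).mp hy)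
    surj := fun v => ?_
    ker := fun x hx => ?_
    semi := fun α hα => ?_
    semiS := fun hp θ => ?_
    norm := fun hp x hx y hy => ?_ }⟩
  · obtain ⟨y, hy, hv⟩ := C.surj v
    exact ⟨e.symm y, (hS _).mpr (by rwa [e.apply_symm_apply]), by rw [e.apply_symm_apply, hv]⟩
  · rw [C.ker _ ((hS x).mp hx)]
    constructor
    · rintro ⟨y, hy, hyy⟩
      exact ⟨e.symm y, (hS _).mpr (by rwa [e.apply_symm_apply]), e.injective (by
        rw [map_mul, e.apply_symm_apply, hyy])⟩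
    · rintro ⟨y, hy, hyy⟩
      exact ⟨e y, (hS _).mp hy, by rw [← map_mul, hyy]⟩
  · obtain ⟨u, φ, hu⟩ := C.semi ((e.symm.trans α).trans e) fun y => by
      obtain ⟨x, rfl⟩ := e.surjective y
      show e x ∈ (T : Subgroup Y) ↔ e (α (e.symm (e x))) ∈ (T : Subgroup Y)
      rw [e.symm_apply_apply, ← hS, ← hS]
      exact hα x
    refine ⟨u, φ, fun x hx => ?_⟩
    have h := hu (e x) ((hS x).mp hx)
    change C.π (e (α (e.symm (e x)))) = _ at h
    rwa [e.symm_apply_apply] at h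
  · obtain ⟨u, φ, hu⟩ := C.semiS hp ((r.symm.trans θ).trans r)
    refine ⟨u, φ, fun x => ?_⟩
    have h := hu (r x)
    change C.π (r (θ (r.symm (r x))) : Y) = _ at h
    rw [r.symm_apply_apply] at h
    exact h
  · rw [← C.norm hp _ ((hS x).mp hx) _ ((hS y).mp hy), ← map_mul, ← map_mul, e.injective.eq_iff]

end Transport

/-- A standard Sylow subgroup with its torus and coordinates. -/
structure Pre {Y : Type v} [Group Y] [Finite Y] (T : Sylow 2 Y) (m p e : ℕ) : Prop where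
  card_T : Nat.card (T : Subgroup Y) = p
  card_group : Nat.card Y = p * ((2 ^ m - 1) * e * (p + 1))
  card_sq : Nat.card {x : Y // x ∈ (T : Subgroup Y) ∧ x * x = 1} = 2 ^ m
  cyc : ∃ g : Y, g • T = T ∧ ∀ x : Y, x • T = T → ∃ k : ℕ, x⁻¹ * g ^ k ∈ (T : Subgroup Y)
  coord : Nonempty (Coord Y T m p)

/-- The facts from a standard Sylow subgroup. -/
theorem Pre.facts {Y : Type v} [Group Y] [Finite Y] {T : Sylow 2 Y} {m p e : ℕ} (P : Pre T m p e) (E : X ≃* Y)
    (hs : IsSimpleGroup X) (hX : ¬ IsMulCommutative X) (hTI : CfsgLib.CyclicInt.TI X) (hm : 2 ≤ m)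
    (hcent : CentSq X)
    (kind : (p = 2 ^ m ∧ e = 1) ∨ (p = (2 ^ m) ^ 2 ∧ Odd m ∧ e = 1) ∨
      (p = (2 ^ m) ^ 3 ∧ (e = 2 ^ m + 1 ∨ 3 * e = 2 ^ m + 1)))
    (alt : p = 4 → Nonempty (X ≃* ↥(alternatingGroup (Fin 5)))) : Facts X m p e := by
  haveI : Fact (Nat.Prime 2) := ⟨Nat.prime_two⟩
  haveI := hs
  obtain ⟨g, hgT, hg⟩ := P.cyc
  have hcard : ∀ S : Sylow 2 X, Nat.card (S : Subgroup X) = p := fun S => by
    obtain ⟨e', he'⟩ := exists_equiv_sylow E S T
    exact (Nat.card_congr (e'.toEquiv.subtypeEquiv fun x => he' x)).trans P.card_T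
  have hcyc : ∀ S : Sylow 2 X, ∃ g : X, g • S = S ∧
      ∀ x : X, x • S = S → ∃ k : ℕ, x⁻¹ * g ^ k ∈ (S : Subgroup X) := fun S => by
    obtain ⟨e', he'⟩ := exists_equiv_sylow E S T
    refine ⟨e'.symm g, (smul_map e' he').mpr (by rwa [e'.apply_symm_apply]), fun x hx => ?_⟩
    obtain ⟨k, hk⟩ := hg (e' x) ((smul_map e' he').mp hx)
    exact ⟨k, (he' _).mpr (by rwa [map_mul, map_inv, map_pow, e'.apply_symm_apply])⟩
  refine ⟨hs, hX, hTI, hm, kind, hcard, fun S => ?_, hcent, fun S => ?_, fun S x y hx hy => ?_, hcyc,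
    fun S => ?_, alt⟩
  · obtain ⟨e', he'⟩ := exists_equiv_sylow E S T
    refine (Nat.card_congr (e'.toEquiv.subtypeEquiv fun x => ?_)).trans P.card_sq
    show _ ↔ e' x ∈ (T : Subgroup Y) ∧ e' x * e' x = 1
    rw [← he', ← map_mul, MulEquiv.map_eq_one_iff]
  · have h1 := Subgroup.card_mul_index (stabilizer X S)
    rw [MulAction.index_stabilizer_of_transitive, ctx_card_sylow hX hTI S, hcard S,
      Nat.card_congr E.toEquiv, P.card_group] at h1
    exact Nat.eq_of_mul_eq_mul_right (show 0 < p + 1 by omega) (h1.trans (by ring))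
  · obtain ⟨g, hg, hk⟩ := hcyc S
    obtain ⟨i, hi⟩ := hk x hx
    obtain ⟨j, hj⟩ := hk y hy
    have hc : ∀ (n : ℕ) (s : X), s ∈ (S : Subgroup X) → g ^ n * s * (g ^ n)⁻¹ ∈ (S : Subgroup X) := fun n s hs =>
      (smul_eq_iff_conj.mp (pow_smul_eq hg n) s).mp hs
    obtain ⟨a, ha, rfl⟩ : ∃ a ∈ (S : Subgroup X), x = g ^ i * a⁻¹ := ⟨x⁻¹ * g ^ i, hi, by group⟩
    obtain ⟨b, hb, rfl⟩ : ∃ b ∈ (S : Subgroup X), y = g ^ j * b⁻¹ := ⟨y⁻¹ * g ^ j, hj, by group⟩
    have key : g ^ i * a⁻¹ * (g ^ j * b⁻¹) * (g ^ i * a⁻¹)⁻¹ * (g ^ j * b⁻¹)⁻¹ =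
        g ^ i * a⁻¹ * (g ^ i)⁻¹ * (g ^ (i + j) * (b⁻¹ * a) * (g ^ (i + j))⁻¹) * (g ^ j * b * (g ^ j)⁻¹) := by
      rw [pow_add]
      group
    rw [key]
    exact mul_mem (mul_mem (hc _ _ (inv_mem ha)) (hc _ _ (mul_mem (inv_mem hb) ha))) (hc _ _ hb)
  · obtain ⟨e', he'⟩ := exists_equiv_sylow E S T
    obtain ⟨C⟩ := P.coord
    exact C.comap e' he'

/-- A simple group with five Sylow 2-subgroups is alternating. -/
theorem alt_of_card {p : ℕ} (hs : IsSimpleGroup X) (hX : ¬ IsMulCommutative X) (hTI : CfsgLib.CyclicInt.TI X)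
    (hc : ∀ S : Sylow 2 X, Nat.card (S : Subgroup X) = p) (hp : p = 4) :
    Nonempty (X ≃* ↥(alternatingGroup (Fin 5))) := by
  haveI : Fact (Nat.Prime 2) := ⟨Nat.prime_two⟩
  haveI := hs
  haveI := faithful_sylow (L := X) hX
  obtain ⟨S⟩ : Nonempty (Sylow 2 X) := inferInstance
  exact CfsgLib.CyclicInt.iso_alt_five hX (by rw [ctx_card_sylow hX hTI S, hc S, hp])
    (hp ▸ hc S ▸ Subgroup.card_subgroup_dvd_card (S : Subgroup X))

end CfsgLib.RankOnePoint
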