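import Cfsg.Agent.Lib.RankOnePoint.FactsBase

/-!
The standard Sylow 2-subgroup of `SL₂(q)`, `q` even, with torus and coordinates.

Blueprint: `blueprint/S2208.md`.
-/

set_option autoImplicit false
set_option linter.unusedSectionVars false
set_option linter.style.haveILetI false

namespace CfsgLib.RankOnePoint

open MulAction CfsgLib.Dickson
open scoped Pointwise

variable {F : Type} [Field F]

local notation "SL" => Matrix.SpecialLinearGroup (Fin 2) F

/-- The diagonal torus. -/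
def diagUp : Fˣ →* SL where
  toFun x := ⟨!![(x : F), 0; 0, ((x⁻¹ : Fˣ) : F)], by simp [Matrix.det_fin_two]⟩
  map_one' := ext_entries (by simp) (by simp) (by simp) (by simp)
  map_mul' x y := by
    ext i j
    show !![((x * y : Fˣ) : F), 0; 0, (((x * y)⁻¹ : Fˣ) : F)] i j =
      (!![(x : F), 0; 0, ((x⁻¹ : Fˣ) : F)] * !![(y : F), 0; 0, ((y⁻¹ : Fˣ) : F)]) i j
    fin_cases i <;> fin_cases j <;> simp [Matrix.mul_apply, Fin.sum_univ_two, mul_comm]

theorem diagUp_coe (x : Fˣ) : (diagUp x).1 = !![(x : F), 0; 0, ((x⁻¹ : Fˣ) : F)] := rfl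

/-- The upper unitriangular group. -/
def upHom : Multiplicative F →* SL where
  toFun v := up v.toAdd
  map_one' := up_zero
  map_mul' v w := (up_mul v.toAdd w.toAdd).symm

theorem mem_up {g : SL} : g ∈ (upHom (F := F)).range ↔ ∃ t, g = up t :=
  ⟨fun ⟨v, hv⟩ => ⟨v.toAdd, hv.symm⟩, fun ⟨t, ht⟩ => ⟨Multiplicative.ofAdd t, ht.symm⟩⟩

theorem up_conj {g : SL} (h10 : g.1 1 0 = 0) (t : F) : g * up t * g⁻¹ = up (t * g.1 0 0 ^ 2) := by
  obtain ⟨h1, h2, -⟩ := conj_up g t
  obtain ⟨t', ht⟩ := (eq_up_iff (g := g * up t * g⁻¹)).mpr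
    ⟨by rw [h2, h10, zero_pow two_ne_zero, mul_zero, neg_zero], by rw [trace_conj, trace_up]⟩
  rw [ht]
  congr 1
  rw [← h1, ht]
  simp

theorem below_of_conj {g : SL} (h : ∃ t, g * up (1 : F) * g⁻¹ = up t) : g.1 1 0 = 0 := by
  obtain ⟨t, ht⟩ := h
  have h2 := (conj_up g (1 : F)).2.1
  rw [ht, one_mul] at h2
  simpa using h2

variable [Fintype F]

theorem exists_pre_sl {m : ℕ} (hm : 2 ≤ m) (hF : Fintype.card F = 2 ^ m) :
    ∃ T : Sylow 2 (Matrix.SpecialLinearGroup (Fin 2) F), Pre T m (2 ^ m) 1 := by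
  classical
  haveI : Fact (Nat.Prime 2) := ⟨Nat.prime_two⟩
  haveI : CharP F 2 := CfsgLib.BinaryCoset.charP_two hF
  have hq : 2 ∣ 2 ^ m := dvd_pow_self 2 (by omega)
  have hpos : 1 ≤ 2 ^ m := Nat.one_le_two_pow
  have hU : Nat.card (upHom (F := F)).range = 2 ^ m := by
    rw [← hF, ← Nat.card_eq_fintype_card]
    refine (Nat.card_congr (Equiv.ofBijective (fun t : F => (⟨up t, mem_up.mpr ⟨t, rfl⟩⟩ : (upHom (F := F)).range))
      ⟨fun s t e => ?_, ?_⟩)).symm
    · simpa using congrArg (fun A : SL => A.1 0 1) (congrArg Subtype.val e)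
    · rintro ⟨g, hg⟩
      obtain ⟨t, rfl⟩ := mem_up.mp hg
      exact ⟨t, rfl⟩
  have hG : Nat.card SL = 2 ^ m * ((2 ^ m - 1) * 1 * (2 ^ m + 1)) := by
    rw [CfsgLib.SLCard.card_SL_two, hF, mul_one]
    congr 1
    refine Nat.sub_eq_of_eq_add ?_
    obtain ⟨r, hr⟩ := Nat.exists_eq_add_of_le hpos
    rw [hr, Nat.add_sub_cancel_left]
    ring
  have hidx : ¬ 2 ∣ (upHom (F := F)).range.index := by
    have h := Subgroup.card_mul_index (upHom (F := F)).range
    rw [hU, hG] at h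
    rw [Nat.eq_of_mul_eq_mul_left (by positivity) h, Nat.prime_two.dvd_mul, Nat.prime_two.dvd_mul]
    omega
  let T : Sylow 2 SL := IsPGroup.toSylow (IsPGroup.of_card (n := m) hU) hidx
  have hT : ∀ g : SL, g ∈ (T : Subgroup SL) ↔ ∃ t, g = up t := fun g => mem_up
  have hB : ∀ g : SL, g • T = T → g.1 1 0 = 0 := fun g hg => below_of_conj
    ((hT _).mp ((smul_eq_iff_conj.mp hg (up 1)).mp ((hT _).mpr ⟨1, rfl⟩)))
  obtain ⟨ξ, hξ⟩ := IsCyclic.exists_monoid_generator (α := Fˣ)
  have hd10 : ∀ x : Fˣ, (diagUp x).1 1 0 = 0 := fun x => by simp [diagUp_coe]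
  have hsq : ∀ t : F, up t * up t = (1 : SL) := fun t => by rw [up_mul, CharTwo.add_self_eq_zero, up_zero]
  have hcoord : ∀ t : F, (up t).1 0 1 = t := fun t => by simp
  refine ⟨T, ⟨hU, hG, ?_, ⟨diagUp ξ, ?_, fun g hg => ?_⟩, ⟨{
    F := F
    π := fun g => g.1 0 1
    card := ?_
    hom := ?_
    surj := fun v => ⟨up v, (hT _).mpr ⟨v, rfl⟩, hcoord v⟩
    ker := ?_
    semi := ?_
    semiS := fun h => absurd rfl h
    norm := fun h => ?_ }⟩⟩⟩
  · rw [← hU]
    refine Nat.card_congr (Equiv.subtypeEquivRight fun g => ⟨fun h => h.1, fun h => ⟨h, ?_⟩⟩)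
    obtain ⟨t, rfl⟩ := (hT _).mp h
    exact hsq t
  · refine smul_eq_of_conj fun y hy => ?_
    obtain ⟨t, rfl⟩ := (hT _).mp hy
    exact (hT _).mpr ⟨_, up_conj (hd10 ξ) t⟩
  · have h10 := hB g hg
    have hdet := det_eq g
    rw [h10, mul_zero, sub_zero] at hdet
    obtain ⟨k, hk⟩ := Submonoid.mem_powers_iff _ _ |>.mp
      (hξ (Units.mk0 (g.1 0 0) (left_ne_zero_of_mul_eq_one hdet)))
    refine ⟨k, (hT _).mpr (eq_up_iff.mpr ?_)⟩
    rw [← map_pow, hk]
    obtain ⟨i00, i01, i10, i11⟩ := inv_entries g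
    refine ⟨by rw [mul_entry, i10, h10]; simp [diagUp_coe], ?_⟩
    rw [Matrix.trace_fin_two, mul_entry, mul_entry, i00, i01, i10, i11, h10]
    have h0 : g.1 0 0 ≠ 0 := left_ne_zero_of_mul_eq_one hdet
    simp [diagUp_coe, h0]
    linear_combination hdet
  · have : (2 : ℕ) ^ m ≠ (2 ^ m) ^ 3 := by
      intro h
      have : 2 ^ m * 1 < (2 ^ m) ^ 3 := by
        calc 2 ^ m * 1 < 2 ^ m * (2 ^ m) ^ 2 := Nat.mul_lt_mul_of_pos_left (Nat.one_lt_pow two_ne_zero (Nat.one_lt_two_pow (by omega))) (by positivity)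
          _ = _ := by ring
      omega
    rw [if_neg this, hF]
  · intro x hx y hy
    obtain ⟨s, rfl⟩ := (hT _).mp hx
    obtain ⟨t, rfl⟩ := (hT _).mp hy
    rw [up_mul]
    simp
  · intro x hx
    obtain ⟨t, rfl⟩ := (hT _).mp hx
    rw [hcoord]
    constructor
    · rintro rfl
      exact ⟨1, one_mem _, by rw [one_mul, up_zero]⟩
    · rintro ⟨y, hy, e⟩
      obtain ⟨s, rfl⟩ := (hT _).mp hy
      rw [hsq] at e
      simpa using congrArg (fun A : SL => A.1 0 1) e.symm
  · intro α hα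
    have hup : ∀ t : F, α (up t) = up ((α (up t)).1 0 1) := fun t => by
      obtain ⟨s, hs⟩ := (hT _).mp ((hα _).mp ((hT _).mpr ⟨t, rfl⟩))
      rw [hs, hcoord]
    let θ : F → F := fun t => (α (up t)).1 0 1
    have hadd : ∀ s t, θ (s + t) = θ s + θ t := fun s t => by
      have h := congrArg α (up_mul s t)
      rw [map_mul, hup s, hup t, up_mul, hup (s + t)] at h
      simpa [θ] using congrArg (fun A : SL => A.1 0 1) h.symm
    have h0 : θ 0 = 0 := by simpa using hadd 0 0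
    have hinj : ∀ t, θ t = 0 → t = 0 := fun t ht => by
      have : α (up t) = α 1 := by rw [hup t, show (α (up t)).1 0 1 = 0 from ht, up_zero, map_one]
      simpa using congrArg (fun A : SL => A.1 0 1) (α.injective this)
    have hu : θ 1 ≠ 0 := fun h => one_ne_zero (hinj 1 h)
    have hmul : ∀ s t, θ (s * t) * θ 1 = θ s * θ t := by
      intro s t
      obtain ⟨r, hr⟩ := (Finite.injective_iff_bijective.1 (frobenius_inj F 2)).2 s
      rw [frobenius_def] at hr
      rcases eq_or_ne r 0 with rfl | hr0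
      · rw [← hr, zero_pow two_ne_zero, zero_mul, h0, zero_mul, zero_mul]
      have key : ∀ w, θ (w * s) = θ w * (α (diagUp (Units.mk0 r hr0))).1 0 0 ^ 2 := fun w => by
        have hb : (α (diagUp (Units.mk0 r hr0))).1 1 0 = 0 := hB _ (smul_eq_of_conj fun y hy => by
          obtain ⟨x, rfl⟩ := α.surjective y
          obtain ⟨v, rfl⟩ := (hT _).mp ((hα x).mpr hy)
          rw [← map_inv, ← map_mul, ← map_mul, ← hα, up_conj (hd10 _)]
          exact (hT _).mpr ⟨_, rfl⟩)
        have h := congrArg α (up_conj (hd10 (Units.mk0 r hr0)) w)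
        rw [map_mul, map_mul, map_inv, hup w, up_conj hb] at h
        have h' := congrArg (fun A : SL => A.1 0 1) h
        simp only [hcoord] at h'
        rw [← hr, show r ^ 2 = (diagUp (Units.mk0 r hr0)).1 0 0 ^ 2 by simp [diagUp_coe]]
        exact h'.symm
      rw [mul_comm s t, key, show θ s = θ (1 * s) by rw [one_mul], key]
      ring
    let g : F →+* F :=
      { toFun := fun t => θ t / θ 1
        map_one' := div_self hu
        map_mul' := fun s t => by field_simp; linear_combination hmul s t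
        map_zero' := by simp [h0]
        map_add' := fun s t => by simp [hadd, add_div] }
    refine ⟨Units.mk0 (θ 1) hu, RingEquiv.ofBijective g (Finite.injective_iff_bijective.1 g.injective),
      fun x hx => ?_⟩
    obtain ⟨t, rfl⟩ := (hT _).mp hx
    rw [hcoord]
    show θ t = θ 1 * (θ t / θ 1)
    rw [mul_div_cancel₀ _ hu]
  · intro x hx y hy
    exfalso
    have : 2 ^ m * 1 < (2 ^ m) ^ 3 := by
      calc 2 ^ m * 1 < 2 ^ m * (2 ^ m) ^ 2 := Nat.mul_lt_mul_of_pos_left (Nat.one_lt_pow two_ne_zero (Nat.one_lt_two_pow (by omega))) (by positivity)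
        _ = _ := by ring
    omega

end CfsgLib.RankOnePoint
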