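import Cfsg.Agent.Lib.RankOnePoint.AtPoint

/-!
When Sylow subgroups fix second points: the fixed sets of the involutions of `N` are lines, one for each Sylow
subgroup, meeting in the point only, and the members with one line are counted.

Blueprint: `blueprint/S2208.md`, parts A and C.
-/

set_option autoImplicit false
set_option linter.unusedSectionVars false
set_option linter.style.haveILetI false

namespace CfsgLib.RankOnePoint

open MulAction CfsgLib.BinaryCoset
open scoped Pointwise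

universe u v

variable {G : Type u} {Ω : Type v} [Group G] [MulAction G Ω]

/-- The fixed points of the elements of square one of `S`. -/
def line {N : Subgroup G} (S : Sylow 2 N) : Set Ω :=
  {c | ∀ y : N, y ∈ (S : Subgroup N) → y * y = 1 → (y : G) • c = c}

theorem fix_conj {g x : G} {c : Ω} : (g * x * g⁻¹) • g • c = g • c ↔ x • c = c := by
  simp [mul_smul]

variable [Finite G] [Finite Ω] [FaithfulSMul G Ω] {a : Ω} {N : Subgroup G} (h : Pt G a N) [IsSimpleGroup N]
  {m p e : ℕ} (hF : Facts N m p e)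
include h hF

theorem Pt.exists_invol_sylow (S : Sylow 2 N) : ∃ z : N, z ∈ (S : Subgroup N) ∧ z ≠ 1 ∧ z * z = 1 := by
  by_contra hc
  push Not at hc
  have h1 : Nat.card {x : N // x ∈ (S : Subgroup N) ∧ x * x = 1} ≤ 1 :=
    Finite.card_le_one_iff_subsingleton.mpr ⟨fun y z => Subtype.ext (by
      rw [of_not_not fun e1 => hc y.1 y.2.1 e1 y.2.2, of_not_not fun e1 => hc z.1 z.2.1 e1 z.2.2])⟩
  rw [hF.card_sq_one] at h1
  have := hF.q_four
  omega

theorem Pt.mem_line (S : Sylow 2 N) : a ∈ (line S : Set Ω) := fun y _ _ => h.fix y.2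

variable (hev : ¬ Ev a N)
include hev

/-- **At a second point one Sylow subgroup holds all involutions, and fixes it.** -/
theorem Pt.nev_one {b : Ω} (hb : b ≠ a) :
    ∃ S : Sylow 2 N, SFix S b ∧ ∀ y : N, Invol (y : G) → (y : G) • b = b → y ∈ (S : Subgroup N) := by
  obtain ⟨S, hS⟩ := h.sfix_of_not_ev hev hb
  exact ⟨S, hS, fun y hyi hyb => mem_of_norm (Subtype.ext hyi.2) (h.sfix_normal (h.rn hF) hb hS hyb)⟩

/-- Two lines meet in the point only. -/
theorem Pt.line_unique {S T : Sylow 2 N} {c : Ω} (hc : c ≠ a) (hS : c ∈ (line S : Set Ω))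
    (hT : c ∈ (line T : Set Ω)) : S = T := by
  obtain ⟨U, -, hU⟩ := h.nev_one hF hev hc
  obtain ⟨s, hs, hs1, hs2⟩ := h.exists_invol_sylow hF S
  obtain ⟨t, ht, ht1, ht2⟩ := h.exists_invol_sylow hF T
  rw [hF.eq_of_mem hs1 hs (hU s (h.invol_of hF hs1 hs2) (hS s hs hs2)),
    hF.eq_of_mem ht1 ht (hU t (h.invol_of hF ht1 ht2) (hT t ht ht2))]

/-- **All involutions of a Sylow subgroup have its line as fixed points.** -/
theorem Pt.fix_line {S : Sylow 2 N} {z : N} (hz : z ∈ (S : Subgroup N)) (hzi : Invol (z : G)) :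
    fixedBy Ω (z : G) = line S := by
  ext c
  refine ⟨fun hc => ?_, fun hc => hc z hz (Subtype.ext hzi.2)⟩
  rcases eq_or_ne c a with rfl | hca
  · exact h.mem_line hF S
  · obtain ⟨U, hUf, hU⟩ := h.nev_one hF hev hca
    intro y hy _
    rw [hF.eq_of_mem (fun e1 => hzi.1 (by rw [e1]; rfl)) hz (hU z hzi hc)] at hy
    exact hUf y hy

theorem Pt.card_line (S : Sylow 2 N) {x : G} (hx : x ∈ cls N) : Nat.card (line S : Set Ω) = numF Ω x := by
  obtain ⟨z, hz, hz1, hz2⟩ := h.exists_invol_sylow hF S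
  rw [← h.numF_eq (h.mem_cls z.2 (h.invol_of hF hz1 hz2)) hx, ← h.fix_line hF hev hz (h.invol_of hF hz1 hz2)]
  rfl

theorem Pt.nev_ux {b : Ω} (hb : b ≠ a) {S : Sylow 2 N} (hS : SFix S b) :
    Nat.card {y : N // y ∈ UX S b} = 2 ^ m := by
  rw [← hF.card_sq_one S]
  exact Nat.card_congr (Equiv.subtypeEquivRight fun y => ⟨fun hy => ⟨hy.1, hy.2.1⟩,
    fun hy => ⟨hy.1, hy.2, hS y hy.1⟩⟩)

/-- As many involutions at a second point as in a Sylow subgroup. -/
theorem Pt.nev_numX {b : Ω} (hb : b ≠ a) : numX N b = 2 ^ m - 1 := by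
  obtain ⟨S, hS, hone⟩ := h.nev_one hF hev hb
  have := h.card_ux_all hF hone
  rw [h.nev_ux hF hev hb hS] at this
  omega

/-- The lines through the point cover the others. -/
theorem Pt.nev_n {x : G} (hx : x ∈ cls N) : Nat.card Ω - 1 = (p + 1) * (numF Ω x - 1) := by
  obtain ⟨b, hb⟩ := h.exists_ne
  have h1 := h.card_fix hb hx
  rw [h.numI_val hF, h.nev_numX hF hev hb] at h1
  have := hF.q_four
  refine (Nat.eq_of_mul_eq_mul_right (show 0 < 2 ^ m - 1 by omega) ?_).symm
  rw [← h1]; ring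

theorem Pt.two_le_numF {x : G} (hx : x ∈ cls N) : 2 ≤ numF Ω x := by
  obtain ⟨b, hb⟩ := h.exists_ne
  haveI : Nontrivial Ω := ⟨b, a, hb⟩
  have hn : 2 ≤ Nat.card Ω := Finite.one_lt_card
  have := h.nev_n hF hev hx
  by_contra hf
  rw [show numF Ω x - 1 = 0 by omega, mul_zero] at this
  omega

theorem Pt.line_second (S : Sylow 2 N) : ∃ c : Ω, c ≠ a ∧ c ∈ (line S : Set Ω) := by
  obtain ⟨z, hz, hz1, hz2⟩ := h.exists_invol_sylow hF S
  have h2 := h.two_le_numF hF hev (h.mem_cls z.2 (h.invol_of hF hz1 hz2))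
  by_contra hc
  push Not at hc
  have hle : Nat.card (line S : Set Ω) ≤ 1 := Finite.card_le_one_iff_subsingleton.mpr ⟨fun c d => Subtype.ext (by
    rw [by_contra fun e1 => hc c.1 e1 c.2, by_contra fun e1 => hc d.1 e1 d.2])⟩
  rw [h.card_line hF hev S (h.mem_cls z.2 (h.invol_of hF hz1 hz2))] at hle
  omega

theorem Pt.line_inj {S T : Sylow 2 N} (e1 : (line S : Set Ω) = line T) : S = T := by
  obtain ⟨c, hc, hcS⟩ := h.line_second hF hev S
  exact h.line_unique hF hev hc hcS (e1 ▸ hcS)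

/-- The members exchanging two points times the points of a member. -/
theorem Pt.nev_key {b : Ω} (hb : b ≠ a) {x : G} (hx : x ∈ cls N) :
    numP a N x * numW N a b = p * (2 ^ m - 1) := by
  have h1 := h.key hb hx
  rw [h.numI_val hF, h.nev_numX hF hev hb, add_mul, one_mul] at h1
  omega

/-- The members with the same fixed points, given that those of a member fixing the point form a line. -/
theorem Pt.card_same_fix (hline : ∀ x ∈ cls N, x • a = a → ∃ S : Sylow 2 N, fixedBy Ω x = line S) {x : G}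
    (hx : x ∈ cls N) :
    Nat.card {y : cls N // fixedBy Ω y.1 = fixedBy Ω x} * numP a N x = numF Ω x * (2 ^ m - 1) := by
  haveI := h.pretrans
  have hfix : ∀ (y : {y : cls N // fixedBy Ω y.1 = fixedBy Ω x}) (c : Ω), At a N c y.1.1 → x • c = c := by
    intro y c hc
    have h1 : c ∈ fixedBy Ω y.1.1 := h.at_fix hc
    rwa [y.2] at h1
  rw [← card_prod_fibre (fun (y : {y : cls N // fixedBy Ω y.1 = fixedBy Ω x}) (c : {c : Ω // x • c = c}) =>
      At a N c.1 y.1.1) (c := numP a N x) (fun y => ?_),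
    numF, ← card_prod_fibre (fun (c : {c : Ω // x • c = c}) (y : {y : cls N // fixedBy Ω y.1 = fixedBy Ω x}) =>
      At a N c.1 y.1.1) (c := 2 ^ m - 1) (fun c => ?_)]
  · exact Nat.card_congr ((Equiv.prodComm _ _).subtypeEquiv fun _ => Iff.rfl)
  · obtain ⟨g, hg⟩ := exists_smul_eq G a c.1
    have hxa : (g⁻¹ * x * g) • a = a := by rw [mul_smul, mul_smul, hg, c.2, ← hg, inv_smul_smul]
    obtain ⟨S, hS⟩ := hline _ (by simpa using cls_conj hx g⁻¹) hxa
    have hset : ∀ u : G, fixedBy Ω (g * u * g⁻¹) = fixedBy Ω x ↔ fixedBy Ω u = line S := by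
      intro u
      rw [← hS, Set.ext_iff, Set.ext_iff]
      have hgx : ∀ d : Ω, (g⁻¹ * x * g) • d = d ↔ x • g • d = g • d := fun d => by
        rw [mul_smul, mul_smul, inv_smul_eq_iff]
      refine ⟨fun e1 d => ?_, fun e1 d => ?_⟩
      · rw [mem_fixedBy, mem_fixedBy, hgx]
        exact fix_conj.symm.trans (e1 (g • d))
      · obtain ⟨d, rfl⟩ := (MulAction.toPerm g).surjective d
        show (g * u * g⁻¹) • g • d = g • d ↔ x • g • d = g • d
        rw [fix_conj, ← hgx]
        exact e1 d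
    have hcard : Nat.card {w : N // w ∈ (S : Subgroup N) ∧ Invol (w : G)} = 2 ^ m - 1 := by
      have h1 := h.numI_eq (h.rn hF) S
      rw [h.numI_val hF, hF.card_points] at h1
      exact (Nat.eq_of_mul_eq_mul_left (Nat.succ_pos p) h1).symm
    rw [← hcard]
    exact Nat.card_congr
      { toFun := fun y => ⟨⟨g⁻¹ * y.1.1.1 * g, (h.at_iff hg).mp y.2⟩, by
          have hi : Invol (g⁻¹ * y.1.1.1 * g) := by simpa using y.1.1.2.1.conj g⁻¹
          obtain ⟨T, hT⟩ := h.invol_sylow (y := (⟨_, (h.at_iff hg).mp y.2⟩ : N)) (Subtype.ext hi.2)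
          refine ⟨?_, hi⟩
          have e1 := (hset (g⁻¹ * y.1.1.1 * g)).mp ((congrArg (fixedBy Ω) (by group)).trans y.1.2)
          rw [h.fix_line hF hev hT hi] at e1
          exact h.line_inj hF hev e1 ▸ hT⟩
        invFun := fun w => ⟨⟨⟨g * w.1 * g⁻¹, cls_conj (h.mem_cls w.1.2 w.2.2) g⟩,
          (hset _).mpr (h.fix_line hF hev w.2.1 w.2.2)⟩, by
            have := (h.at_base.mpr w.1.2).conj g
            rwa [hg] at this⟩
        left_inv := fun y => Subtype.ext (Subtype.ext (Subtype.ext (by simp [mul_assoc])))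
        right_inv := fun w => Subtype.ext (Subtype.ext (by simp [mul_assoc])) }
  · rw [← h.numP_eq y.1.2 hx, numP]
    exact Nat.card_congr ⟨fun c => ⟨c.1.1, c.2⟩, fun c => ⟨⟨c.1, hfix y c.1 c.2⟩, c.2⟩, fun _ => rfl, fun _ => rfl⟩

/-- The members fall into classes of equal size by their fixed points. -/
theorem Pt.same_fix_dvd {x : G} (hx : x ∈ cls N) :
    Nat.card {y : cls N // fixedBy Ω y.1 = fixedBy Ω x} ∣ Nat.card (cls N) := by
  classical
  have hc : ∀ r : Set.range (fun y : cls N => fixedBy Ω y.1),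
      Nat.card {y : cls N // fixedBy Ω y.1 = r.1} = Nat.card {y : cls N // fixedBy Ω y.1 = fixedBy Ω x} := by
    rintro ⟨_, z, rfl⟩
    obtain ⟨g, hg⟩ := h.cls_class hx z.2
    let τ : cls N ≃ cls N :=
      { toFun := fun y => ⟨g * y.1 * g⁻¹, cls_conj y.2 g⟩
        invFun := fun y => ⟨g⁻¹ * y.1 * g, by simpa using cls_conj y.2 g⁻¹⟩
        left_inv := fun y => Subtype.ext (by simp [mul_assoc])
        right_inv := fun y => Subtype.ext (by simp [mul_assoc]) }
    refine (Nat.card_congr (τ.subtypeEquiv fun y => ?_)).symm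
    show fixedBy Ω y.1 = fixedBy Ω x ↔ fixedBy Ω (g * y.1 * g⁻¹) = fixedBy Ω z.1
    rw [← hg, Set.ext_iff, Set.ext_iff]
    refine ⟨fun e1 d => ?_, fun e1 d => ?_⟩
    · obtain ⟨d, rfl⟩ := (MulAction.toPerm g).surjective d
      show (g * y.1 * g⁻¹) • g • d = g • d ↔ (g * x * g⁻¹) • g • d = g • d
      rw [fix_conj, fix_conj]
      exact e1 d
    · exact fix_conj.symm.trans ((e1 (g • d)).trans fix_conj)
  refine ⟨Nat.card (Set.range (fun y : cls N => fixedBy Ω y.1)), ?_⟩
  rw [mul_comm, ← card_prod_fibre (fun (r : Set.range (fun y : cls N => fixedBy Ω y.1)) (y : cls N) =>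
    fixedBy Ω y.1 = r.1) hc]
  exact (Nat.card_congr (Equiv.ofBijective
    (fun z : {z : Set.range (fun y : cls N => fixedBy Ω y.1) × cls N // fixedBy Ω z.2.1 = z.1.1} => z.1.2)
    ⟨fun z z' e1 => Subtype.ext (Prod.ext (Subtype.ext (z.2.symm.trans ((congrArg (fun w : cls N => fixedBy Ω w.1) e1).trans z'.2))) e1),
      fun y => ⟨⟨(⟨_, y, rfl⟩, y), rfl⟩, rfl⟩⟩)).symm

end CfsgLib.RankOnePoint
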