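import Cfsg.Agent.Lib.RankOnePoint.Outer
import Cfsg.Agent.Lib.Involutions

/-!
Involutions of two Sylow subgroups at a second point: then none is a member there.  This happens for `L₂(4)` only, and
is impossible there.

Blueprint: `blueprint/S2208.md`, part A, first case.
-/

set_option autoImplicit false
set_option linter.unusedSectionVars false
set_option linter.style.haveILetI false

namespace CfsgLib.RankOnePoint

open MulAction CfsgLib.BinaryCoset
open scoped Pointwise

universe u v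

variable {G : Type u} {Ω : Type v} [Group G] [MulAction G Ω] [Finite G] [Finite Ω] [FaithfulSMul G Ω]
  {a : Ω} {N : Subgroup G} (h : Pt G a N) [IsSimpleGroup N] {m p e : ℕ} (hF : Facts N m p e)
include h hF

/-- Commuting involutions lie in the same Sylow subgroup. -/
theorem Pt.same_sylow {S : Sylow 2 N} {y z : N} (hy : y ∈ (S : Subgroup N)) (hy1 : y ≠ 1) (hz : z * z = 1)
    (hc : y * z = z * y) : z ∈ (S : Subgroup N) := by
  refine mem_of_norm hz (hF.eq_of_mem hy1 ?_ hy)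
  have := CfsgLib.CyclicInt.conj_mem_smul_sylow (g := z) hy
  rwa [← hc, mul_inv_cancel_right] at this

/-- Involutions of `N` in different Sylow subgroups are conjugate by an element generated by them. -/
theorem Pt.conj_two {S T : Sylow 2 N} (hST : S ≠ T) {y z : N} (hy : y ∈ (S : Subgroup N)) (hy1 : y ≠ 1)
    (hy2 : y * y = 1) (hz : z ∈ (T : Subgroup N)) (hz1 : z ≠ 1) (hz2 : z * z = 1) :
    Odd (orderOf (y * z)) ∧ ∃ d ∈ Subgroup.closure ({y, z} : Set N), d * y * d⁻¹ = z := by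
  have hodd : Odd (orderOf (y * z)) := by
    rw [← Nat.not_even_iff_odd]
    intro hev
    obtain ⟨c1, c2⟩ := CfsgLib.Involutions.central_half hy2 hz2 hev
    obtain ⟨hw2, hw1⟩ := CfsgLib.Involutions.orderOf_eq_two_iff'.mp
      (CfsgLib.Involutions.orderOf_half (x := y) (y := z) hev)
    have hwS := h.same_sylow hF hy hy1 hw2 c1.eq.symm
    have hwT := h.same_sylow hF hz hz1 hw2 c2.eq.symm
    exact hST (hF.eq_of_mem hw1 hwS hwT)
  exact ⟨hodd, CfsgLib.Involutions.exists_conj_eq_of_odd hy2 hz2 hodd⟩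

theorem Pt.closure_fix {b : Ω} {y z : N} (hy : (y : G) • b = b) (hz : (z : G) • b = b) {d : N}
    (hd : d ∈ Subgroup.closure ({y, z} : Set N)) : (d : G) • b = b := by
  induction hd using Subgroup.closure_induction with
  | mem w hw => rcases hw with rfl | rfl <;> assumption
  | one => rw [OneMemClass.coe_one, one_smul]
  | mul u v _ _ hu hv => rw [Subgroup.coe_mul, mul_smul, hv, hu]
  | inv u _ hu => rw [InvMemClass.coe_inv, inv_smul_eq_iff, hu]

/-- **Involutions of two Sylow subgroups at `b`, one no member there: none is a member there.** -/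
theorem Pt.none_at {b : Ω} (_hb : b ≠ a) {y0 : G} (hy0 : y0 ∈ N) (hy0i : Invol y0) (hy0b : y0 • b = b)
    (hn0 : ¬ At a N b y0) {S T : Sylow 2 N} (hST : S ≠ T) {s t : N} (hs : s ∈ (S : Subgroup N))
    (hs1 : Invol (s : G)) (hsb : (s : G) • b = b) (ht : t ∈ (T : Subgroup N)) (ht1 : Invol (t : G))
    (htb : (t : G) • b = b) : ∀ y ∈ N, Invol y → y • b = b → ¬ At a N b y := by
  have hN : ∀ {w : N}, Invol (w : G) → w ≠ 1 ∧ w * w = 1 := fun {w} hw =>
    ⟨fun e1 => hw.1 (by rw [e1]; rfl), Subtype.ext hw.2⟩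
  have hmove : ∀ (U V : Sylow 2 N), U ≠ V → ∀ u v : N, u ∈ (U : Subgroup N) → v ∈ (V : Subgroup N) →
      Invol (u : G) → Invol (v : G) → (u : G) • b = b → (v : G) • b = b → At a N b (u : G) → At a N b (v : G) := by
    intro U V hUV u v hu hv hui hvi hub hvb hat
    obtain ⟨-, d, hd, hdv⟩ := h.conj_two hF hUV hu (hN hui).1 (hN hui).2 hv (hN hvi).1 (hN hvi).2
    have h1 := hat.conj (d : G)
    rw [h.closure_fix hF hub hvb hd] at h1
    rw [← hdv]
    simpa using h1
  intro y hy hyi hyb hat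
  obtain ⟨U, hU⟩ := h.invol_sylow (y := ⟨y, hy⟩) (Subtype.ext hyi.2)
  obtain ⟨U0, hU0⟩ := h.invol_sylow (y := ⟨y0, hy0⟩) (Subtype.ext hy0i.2)
  by_cases hne : U = U0
  · -- go through a third involution
    obtain ⟨V, w, hV, hw, hwi, hwb⟩ : ∃ (V : Sylow 2 N) (w : N), V ≠ U ∧ w ∈ (V : Subgroup N) ∧ Invol (w : G) ∧
        (w : G) • b = b := by
      by_cases hSU : S = U
      · exact ⟨T, t, fun e1 => hST (hSU.trans e1.symm), ht, ht1, htb⟩
      · exact ⟨S, s, hSU, hs, hs1, hsb⟩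
    exact hn0 (hmove V U0 (hne ▸ hV) w ⟨y0, hy0⟩ hw hU0 hwi hy0i hwb hy0b
      (hmove U V hV.symm ⟨y, hy⟩ w hU hw hyi hwi hyb hwb hat))
  · exact hn0 (hmove U U0 hne ⟨y, hy⟩ ⟨y0, hy0⟩ hU hU0 hyi hy0i hyb hy0b hat)

theorem Pt.numI_pos : 0 < numI N := by
  obtain ⟨z, hz, hzi⟩ := h.exists_invol
  exact Nat.card_pos_iff.mpr ⟨⟨z, hz, hzi⟩, inferInstance⟩

/-- **When no involution of `N` fixing `b` is a member there: `L₂(4)`, two Sylow subgroups meet the stabiliser of
`b` in involutions commuting with an outer member.** -/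
theorem Pt.none_four {b : Ω} (hb : b ≠ a) (hnone : ∀ y ∈ N, Invol y → y • b = b → ¬ At a N b y) {x : G}
    (hx : x ∈ cls N) (hxa : x • a = a) (hxN : x ∉ N) (hxb : At a N b x) :
    p = 4 ∧ m = 2 ∧ (∀ S : Sylow 2 N, Nat.card {y : N // y ∈ UX S b} ≤ 2) ∧
      ∃ S T : Sylow 2 N, S ≠ T ∧ ∃ s ∈ (S : Subgroup N), ∃ t ∈ (T : Subgroup N),
        Invol (s : G) ∧ Invol (t : G) ∧ (s : G) • b = b ∧ (t : G) • b = b ∧ x * s = s * x ∧ x * t = t * x := by
  classical
  haveI : Fact (Nat.Prime 2) := ⟨Nat.prime_two⟩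
  have hK : numK a N b = 0 := by
    rw [numK, Nat.card_eq_zero]
    exact Or.inl ⟨fun w => hnone w.1 w.2.1.1 w.2.1.2 (h.at_fix w.2.2) w.2.2⟩
  have hP : numP a N x = 1 := by
    have h1 := h.card_at hb hx
    rw [hK, mul_zero] at h1
    have h2 := (Nat.mul_eq_zero.mp h1).resolve_left (h.numI_pos hF).ne'
    have h3 : 0 < numP a N x := Nat.card_pos_iff.mpr ⟨⟨b, hxb⟩, inferInstance⟩
    omega
  have huniq : ∀ c, At a N c x → c = b := fun c hc => by
    haveI := (Nat.card_eq_one_iff_unique.mp hP).1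
    exact congrArg Subtype.val (Subsingleton.elim (⟨c, hc⟩ : {c : Ω // At a N c x}) ⟨b, hxb⟩)
  set α := h.act ⟨x, mem_stabilizer_iff.mpr hxa⟩ with hα
  have hα2 : α * α = 1 := h.act_invol hxa hx.1.2
  have hin : ¬ Inn α := fun hi => hxN (h.inner_mem hF hx hxa hi)
  -- fixed elements fix `b`
  have hfix : ∀ w : N, α w = w → (x * w = w * x) ∧ (w : G) • b = b := by
    intro w hw
    have hc : x * w = w * x := mul_inv_eq_iff_eq_mul.mp (congrArg Subtype.val hw :)
    refine ⟨hc, huniq _ ?_⟩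
    have := hxb.conj (w : G)
    rwa [← hc, mul_inv_cancel_right] at this
  have hU2 : ∀ S : Sylow 2 N, Nat.card {y : N // y ∈ UX S b} ≤ 2 := by
    intro S
    by_cases hy : ∃ y, y ∈ UX S b ∧ y ≠ 1
    · obtain ⟨y0, hy0, hy1⟩ := hy
      have hn : ∀ y, y ∈ UX S b → y ≠ 1 → ¬ At a N b (y : G) := fun y hy hy1 =>
        hnone y y.2 ⟨fun e1 => hy1 (Subtype.ext e1), congrArg Subtype.val hy.2.1⟩ hy.2.2
      have hhalf := h.ux_half hF hb hy0 (hn y0 hy0 hy1)
      have h1 : Nat.card {y : N // y ∈ UX S b ∧ At a N b (y : G)} ≤ 1 :=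
        Finite.card_le_one_iff_subsingleton.mpr ⟨fun y z => Subtype.ext (by
          rw [of_not_not (fun e1 => hn y.1 y.2.1 e1 y.2.2), of_not_not (fun e1 => hn z.1 z.2.1 e1 z.2.2)])⟩
      have h2 : Nat.card {y : N // y ∈ UX S b} =
          Nat.card {y : N // y ∈ UX S b ∧ At a N b (y : G)} + Nat.card {y : N // y ∈ UX S b ∧ ¬ At a N b (y : G)} := by
        rw [← Nat.card_congr (Equiv.sumCompl fun y : {y : N // y ∈ UX S b} => At a N b (y.1 : G)), Nat.card_sum,
          Nat.card_congr (Equiv.subtypeSubtypeEquivSubtypeInter (· ∈ UX S b) (fun y : N => At a N b (y : G))),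
          Nat.card_congr (Equiv.subtypeSubtypeEquivSubtypeInter (· ∈ UX S b) (fun y : N => ¬ At a N b (y : G)))]
      omega
    · push Not at hy
      refine le_trans (Finite.card_le_one_iff_subsingleton.mpr ⟨fun y z => Subtype.ext ?_⟩) one_le_two
      rw [hy y.1 y.2, hy z.1 z.2]
  obtain ⟨S, hS'⟩ := h.fix_sylow hF (zpowers_two' hα2)
  have hS := hS' α (Subgroup.mem_zpowers α)
  have hq := hF.q_four
  have hbound : ∀ T : Sylow 2 N, α • T = T →
      Nat.card {w : N // w ∈ (T : Subgroup N) ∧ w * w = 1 ∧ α w = w} ≤ 2 := fun T _ =>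
    le_trans (Nat.card_le_card_of_injective (fun w => (⟨w.1, w.2.1, w.2.2.1, (hfix w.1 w.2.2.2).2⟩ :
      {y : N // y ∈ UX T b})) fun w w' e1 => Subtype.ext (congrArg Subtype.val e1 :)) (hU2 T)
  have hp : p = 2 ^ m := by
    by_contra hp
    let θ : MulAut (S : Subgroup N) :=
      { toFun := fun w => ⟨α w, (fix_iff hS w.1).mp w.2⟩
        invFun := fun w => ⟨α w, (fix_iff hS w.1).mp w.2⟩
        left_inv := fun w => Subtype.ext (by
          show α (α w) = w
          rw [← MulAut.mul_apply, hα2, MulAut.one_apply])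
        right_inv := fun w => Subtype.ext (by
          show α (α w) = w
          rw [← MulAut.mul_apply, hα2, MulAut.one_apply])
        map_mul' := fun w w' => Subtype.ext (map_mul α _ _) }
    have hθ : θ * θ = 1 := MulEquiv.ext fun w => Subtype.ext (by
      show α (α w) = w
      rw [← MulAut.mul_apply, hα2, MulAut.one_apply])
    have h1 : 2 ^ m ≤ 2 := le_trans (le_of_eq (by
      rw [← hF.card_sq_one S]
      exact Nat.card_congr
        { toFun := fun w => ⟨w.1, w.2.1, w.2.2, congrArg Subtype.val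
            (hF.fix_omega hp hθ (z := ⟨w.1, w.2.1⟩) (Subtype.ext w.2.2))⟩
          invFun := fun w => ⟨w.1, w.2.1, w.2.2.1⟩
          left_inv := fun _ => rfl
          right_inv := fun _ => rfl })) (hbound S hS)
    omega
  have hfour : ∀ T : Sylow 2 N, α • T = T → 2 ^ m = 4 ∧ ∃ w ∈ (T : Subgroup N), w ≠ 1 ∧ α w = w := by
    intro T hT
    have h1 := (hF.linear_fix hp hT hα2 hin).1
    have h2 : Nat.card {w : N // w ∈ (T : Subgroup N) ∧ α w = w} ≤ 2 := le_trans
      (Nat.card_le_card_of_injective (fun w => (⟨w.1, w.2.1, hF.sq_eq_one_of_elem hp w.2.1, w.2.2⟩ :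
        {w : N // w ∈ (T : Subgroup N) ∧ w * w = 1 ∧ α w = w})) fun w w' e1 =>
          Subtype.ext (congrArg Subtype.val e1 :)) (hbound T hT)
    refine ⟨?_, ?_⟩
    · interval_cases (Nat.card {w : N // w ∈ (T : Subgroup N) ∧ α w = w}) <;> omega
    · by_contra hc
      push Not at hc
      have : Nat.card {w : N // w ∈ (T : Subgroup N) ∧ α w = w} ≤ 1 :=
        Finite.card_le_one_iff_subsingleton.mpr ⟨fun y z => Subtype.ext (by
          rw [of_not_not (fun e1 => hc y.1 y.2.1 e1 y.2.2), of_not_not (fun e1 => hc z.1 z.2.1 e1 z.2.2)])⟩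
      interval_cases (Nat.card {w : N // w ∈ (T : Subgroup N) ∧ α w = w}) <;> omega
  obtain ⟨V, hV, hαV⟩ := hF.linear_second hp hS hα2 hin
  obtain ⟨h4, s, hs, hs1, hsα⟩ := hfour S hS
  obtain ⟨-, t, ht, ht1, htα⟩ := hfour V hαV
  refine ⟨hp.trans h4, Nat.pow_right_injective le_rfl (h4 : 2 ^ m = 2 ^ 2), hU2, S, V, hV.symm, s, hs, t, ht,
    ⟨fun e1 => hs1 (Subtype.ext e1), congrArg Subtype.val (hF.sq_eq_one_of_elem hp hs)⟩,
    ⟨fun e1 => ht1 (Subtype.ext e1), congrArg Subtype.val (hF.sq_eq_one_of_elem hp ht)⟩,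
    (hfix s hsα).2, (hfix t htα).2, (hfix s hsα).1, (hfix t htα).1⟩

end CfsgLib.RankOnePoint
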