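import Cfsg.Agent.Lib.RankOnePoint.OddTools
import Cfsg.Agent.Lib.RankOnePoint.Lines

/-!
Eleven points, a simple normal subgroup of order 660 with point stabiliser `N`: it is the whole group.

Blueprint: `blueprint/S2208.md`, part B, the end.
-/

set_option autoImplicit false
set_option linter.unusedSectionVars false
set_option linter.style.haveILetI false

namespace CfsgLib.RankOnePoint

open MulAction CfsgLib.BinaryCoset
open scoped Pointwise

universe u v

theorem perm_five_ten : ∀ σ : Equiv.Perm (Fin 5), σ ^ 10 = 1 → σ ^ 5 = 1 ∨ σ ^ 2 = 1 := by decide +kernel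

theorem pow_five_or_two {T : Type*} [Finite T] (hT : Nat.card T = 5) (σ : Equiv.Perm T) (h10 : σ ^ 10 = 1) :
    σ ^ 5 = 1 ∨ σ ^ 2 = 1 := by
  let φ : Equiv.Perm T ≃* Equiv.Perm (Fin 5) := (Finite.equivFinOfCardEq hT).permCongrHom
  rcases perm_five_ten (φ σ) (by rw [← map_pow, h10, map_one]) with e | e
  · exact Or.inl (φ.injective (by rw [map_pow, e, map_one]))
  · exact Or.inr (φ.injective (by rw [map_pow, e, map_one]))

variable {G : Type u} {Ω : Type v} [Group G] [MulAction G Ω] [Finite G] [Finite Ω] [FaithfulSMul G Ω]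
  {a : Ω} {N : Subgroup G} (h : Pt G a N) [IsSimpleGroup N] {m e : ℕ} (hF : Facts N m 4 e) (h1 : H1 a N)
include h hF h1

/-- `N` is transitive on the other ten points, with stabilisers of order six. -/
theorem Pt.eleven_stab (hn : Nat.card Ω = 11) (hf : ∀ x ∈ cls N, numF Ω x = 3) (hm : m = 2) (he : e = 1)
    {b : Ω} (hb : b ≠ a) : Nat.card ((stabilizer G b).subgroupOf N) = 6 ∧
      ∀ c, c ≠ a → ∃ n : N, (n : G) • b = c := by
  classical
  haveI := Fact.mk Nat.prime_two
  have h60 : Nat.card N = 60 := by rw [h.card_N hF, hm, he]; rfl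
  obtain ⟨z, hz, hzi⟩ := h.exists_invol
  have hzc := h.mem_cls hz hzi
  have hI : numI N = 15 := by rw [h.numI_val hF, hm]; rfl
  set H := (stabilizer G b).subgroupOf N
  have hHtop : H ≠ ⊤ := fun e1 => by
    obtain ⟨y, hy, hyb⟩ := h.not_fix_all hb
    exact hyb (Subgroup.mem_subgroupOf.mp (e1 ▸ Subgroup.mem_top (⟨y, hy⟩ : N)))
  have h5 := five_le_index h60 hHtop
  have hdvd : H.index ∣ 10 := by
    have := h.index_dvd hb
    rwa [hn] at this
  have hle : H.index ≤ 10 := Nat.le_of_dvd (by norm_num) hdvd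
  have hcm := H.card_mul_index
  rw [h60] at hcm
  -- index five would give lines
  have h10 : H.index = 10 := by
    by_contra hne
    have hi5 : H.index = 5 := by interval_cases hi : H.index <;> omega
    have h12 : Nat.card H = 12 := by rw [hi5] at hcm; omega
    obtain ⟨P, hP⟩ := Sylow.exists_subgroup_card_pow_prime 2 (G := H) (n := 2) (by rw [h12]; norm_num)
    obtain ⟨U, hU⟩ := ((IsPGroup.of_card hP).map H.subtype).exists_le_sylow
    have hev : ¬ Ev a N := fun hev => hb (hev U b fun s hs => by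
      have e1 : P.map H.subtype = (U : Subgroup N) := Subgroup.eq_of_le_of_card_ge hU (by
        rw [hF.card_sylow U, Subgroup.card_map_of_injective H.subtype_injective, hP]; norm_num)
      rw [← e1] at hs
      obtain ⟨w, -, rfl⟩ := hs
      exact mem_stabilizer_iff.mp (Subgroup.mem_subgroupOf.mp w.2))
    have hline : ∀ x ∈ cls N, x • a = a → ∃ S : Sylow 2 N, fixedBy Ω x = line S := fun x hx hxa => by
      obtain ⟨S, hS⟩ := h.invol_sylow (y := (⟨x, h1 x hx hxa⟩ : N)) (Subtype.ext hx.1.2)
      exact ⟨S, h.fix_line hF hev (z := ⟨x, h1 x hx hxa⟩) hS hx.1⟩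
    have hM := h.card_same_fix hF hev hline hzc
    have hJ := h.card_cls hzc
    rw [h.numP_fix h1 hzc, hf z hzc, hm] at hM
    rw [h.numP_fix h1 hzc, hf z hzc, hn, hI] at hJ
    have hd := h.same_fix_dvd hF hev hzc
    rw [show Nat.card {y : cls N // fixedBy Ω y.1 = fixedBy Ω z} = 3 by omega,
      show Nat.card (cls N) = 55 by omega] at hd
    norm_num at hd
  refine ⟨by rw [h10] at hcm; omega, ?_⟩
  have horb : MulAction.orbit N b = {c : Ω | c ≠ a} := by
    refine Set.eq_of_subset_of_ncard_le ?_ ?_ (Set.toFinite _)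
    · rintro c ⟨n, rfl⟩ e1
      have e2 : (n : G) • b = a := e1
      refine hb (smul_left_cancel (n : G) ?_)
      rw [e2, h.fix n.2]
    · have h11 : H = stabilizer N b := Subgroup.ext fun n => Iff.rfl
      rw [← MulAction.index_stabilizer, ← h11, h10, ← Nat.card_coe_set_eq]
      exact le_of_eq (by rw [show Nat.card {c : Ω | c ≠ a} = Nat.card Ω - 1 from card_ne a, hn])
  intro c hc
  obtain ⟨n, hn'⟩ := (Set.ext_iff.mp horb c).mpr hc
  exact ⟨n, hn'⟩

/-- **The simple subgroup is everything.** -/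
theorem Pt.eleven (hn : Nat.card Ω = 11) (hf : ∀ x ∈ cls N, numF Ω x = 3) (hm : m = 2) (he : e = 1)
    {M : Subgroup G} [hMn : M.Normal] [IsSimpleGroup M] (hNM : N ≤ M) (h660 : Nat.card M = 660)
    (hMa : ∀ x ∈ M, x • a = a → x ∈ N) : M = ⊤ := by
  classical
  haveI := Fact.mk Nat.prime_two
  haveI h11p : Fact (Nat.Prime 11) := ⟨by norm_num⟩
  haveI := h.pretrans
  obtain ⟨z, hz, hzi⟩ := h.exists_invol
  haveI := h.normal_trans (L := M) fun e1 => hzi.1 (Subgroup.mem_bot.mp (e1 ▸ hNM hz))
  have h60 : Nat.card N = 60 := by rw [h.card_N hF, hm, he]; rfl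
  obtain ⟨P⟩ : Nonempty (Sylow 11 M) := inferInstance
  have hP : Nat.card (P : Subgroup M) = 11 := by
    rw [P.card_eq_multiplicity, h660, show (660 : ℕ) = 11 ^ 1 * 60 by norm_num,
      Nat.factorization_mul (by norm_num) (by norm_num), Nat.Prime.factorization_pow (by norm_num),
      Finsupp.add_apply, Finsupp.single_eq_same, Nat.factorization_eq_zero_of_not_dvd (by norm_num)]
    norm_num
  have hn11 : Nat.card (Sylow 11 M) = 12 := by
    have hd := P.card_dvd_index
    have hi : (P : Subgroup M).index = 60 := by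
      have := (P : Subgroup M).card_mul_index
      rw [hP, h660] at this
      omega
    rw [hi] at hd
    have hmod := card_sylow_modEq_one 11 M
    unfold Nat.ModEq at hmod
    have hle := Nat.le_of_dvd (by norm_num) hd
    have hne : Nat.card (Sylow 11 M) ≠ 1 := fun e1 => by
      haveI := (Nat.card_eq_one_iff_unique.mp e1).1
      haveI : (P : Subgroup M).Normal := P.normal_of_subsingleton
      rcases IsSimpleGroup.eq_bot_or_eq_top_of_normal (P : Subgroup M) inferInstance with e2 | e2
      · rw [e2, Subgroup.card_bot] at hP; norm_num at hP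
      · rw [e2, Subgroup.card_top, h660] at hP; norm_num at hP
    interval_cases Nat.card (Sylow 11 M) <;> omega
  set Q : Subgroup G := (P : Subgroup M).map M.subtype with hQ
  have hQc : Nat.card Q = 11 := by rw [hQ, Subgroup.card_map_of_injective M.subtype_injective, hP]
  set K := Subgroup.normalizer (Q : Set G) with hK
  have hQK : Q ≤ K := Subgroup.le_normalizer
  -- `Q` is regular
  have hQt : ∀ c : Ω, ∃ y ∈ Q, y • a = c := by
    haveI : IsCyclic Q := isCyclic_of_prime_card hQc
    obtain ⟨y, hy, hya⟩ : ∃ y ∈ Q, y • a ≠ a := by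
      by_contra hc
      push Not at hc
      obtain ⟨y, hy⟩ := exists_prime_orderOf_dvd_card' (G := Q) 11 (by rw [hQc])
      have hyN : (y : G) ∈ N := hMa _ (Subgroup.map_subtype_le _ y.2) (hc _ y.2)
      have h2 := Subgroup.orderOf_dvd_natCard N hyN
      rw [h60, Subgroup.orderOf_coe, hy] at h2
      norm_num at h2
    have hstab : stabilizer Q a = ⊥ := (Subgroup.eq_bot_or_eq_top_of_prime_card (hp := ⟨hQc ▸ h11p.out⟩) _).resolve_right
      fun e1 => hya (mem_stabilizer_iff.mp (e1 ▸ Subgroup.mem_top (⟨y, hy⟩ : Q)) :)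
    have hcard : Nat.card (MulAction.orbit Q a) = 11 := by
      rw [Nat.card_coe_set_eq, ← MulAction.index_stabilizer, hstab, Subgroup.index_bot, hQc]
    intro c
    have huniv : MulAction.orbit Q a = Set.univ := Set.eq_of_subset_of_ncard_le (Set.subset_univ _) (by
      rw [Set.ncard_univ, hn, ← Nat.card_coe_set_eq, hcard]) (Set.toFinite _)
    obtain ⟨w, hw⟩ := (Set.ext_iff.mp huniv c).mpr trivial
    exact ⟨w, w.2, hw⟩
  haveI : IsPretransitive K Ω := ⟨fun c d => by
    obtain ⟨u, hu, rfl⟩ := hQt c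
    obtain ⟨w, hw, rfl⟩ := hQt d
    exact ⟨⟨w * u⁻¹, hQK (mul_mem hw (inv_mem hu))⟩, by
      show (w * u⁻¹) • u • a = w • a
      rw [mul_smul, inv_smul_smul]⟩⟩
  set C := stabilizer K a
  have hKc : Nat.card K = 11 * Nat.card C := by
    rw [← Subgroup.card_mul_index C, index_stabilizer_of_transitive, hn, mul_comm]
  -- the stabiliser acts faithfully on `Q`
  haveI : IsCyclic Q := isCyclic_of_prime_card hQc
  let φ : C →* MulAut Q :=
    { toFun := fun g =>
        { toFun := fun y => ⟨(g.1 : G) * y * (g.1 : G)⁻¹, (Subgroup.mem_normalizer_iff.mp g.1.2 y).mp y.2⟩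
          invFun := fun y => ⟨(g.1 : G)⁻¹ * y * g.1, by
            simpa using (Subgroup.mem_normalizer_iff.mp (inv_mem g.1.2) y).mp y.2⟩
          left_inv := fun y => Subtype.ext (by simp [mul_assoc])
          right_inv := fun y => Subtype.ext (by simp [mul_assoc])
          map_mul' := fun y y' => Subtype.ext (by simp [mul_assoc]) }
      map_one' := MulEquiv.ext fun y => Subtype.ext (by simp)
      map_mul' := fun g g' => MulEquiv.ext fun y => Subtype.ext (by simp [mul_assoc]) }
  have hφ : Function.Injective φ := (injective_iff_map_eq_one φ).mpr fun g hg => by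
    refine Subtype.ext (Subtype.ext (eq_of_smul_eq_smul (α := Ω) fun c => ?_))
    obtain ⟨y, hy, rfl⟩ := hQt c
    have h2 : (g.1 : G) * y * (g.1 : G)⁻¹ = y := congrArg Subtype.val (DFunLike.congr_fun hg ⟨y, hy⟩)
    rw [mul_inv_eq_iff_eq_mul] at h2
    show (g.1 : G) • y • a = (1 : G) • y • a
    rw [one_smul, ← mul_smul, h2, mul_smul, show (g.1 : G) • a = a from mem_stabilizer_iff.mp g.2]
  let ψ : C →* (ZMod (Nat.card Q))ˣ := (IsCyclic.mulAutMulEquiv Q).toMonoidHom.comp φ
  have hψ : Function.Injective ψ := (IsCyclic.mulAutMulEquiv Q).injective.comp hφ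
  have hCd : Nat.card C ∣ 10 := by
    have h2 := Subgroup.card_dvd_of_injective ψ hψ
    have h3 : Nat.card (ZMod (Nat.card Q))ˣ = 10 := by
      rw [hQc, Nat.card_eq_fintype_card, ZMod.card_units]
    rwa [h3] at h2
  have hCcyc : IsCyclic C := by
    haveI : Fact (Nat.card Q).Prime := ⟨hQc ▸ h11p.out⟩
    exact isCyclic_of_injective ψ hψ
  -- the orders
  have hG : Nat.card G = 132 * Nat.card C := by
    have hsup : K ⊔ M = ⊤ := Sylow.normalizer_sup_eq_top P
    have h2 : (M.subgroupOf K).index = M.index := by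
      rw [← Subgroup.relIndex, ← Subgroup.relIndex_sup_right (H := K) (K := M), hsup, Subgroup.relIndex_top_right]
    have h3 : Nat.card (M.subgroupOf K) = 55 := by
      have h4 := (Subgroup.normalizer (P : Set M)).card_mul_index
      rw [← P.card_eq_index_normalizer, hn11, h660] at h4
      rw [show (55 : ℕ) = Nat.card (Subgroup.normalizer (P : Set M)) by omega]
      refine Nat.card_congr
        { toFun := fun g => ⟨⟨g.1.1, g.2⟩, Subgroup.mem_normalizer_iff.mpr fun y => ?_⟩
          invFun := fun g => ⟨⟨g.1.1, Subgroup.mem_normalizer_iff.mpr fun y => ?_⟩, g.1.2⟩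
          left_inv := fun _ => rfl
          right_inv := fun _ => rfl }
      · rw [← Subgroup.mem_map_iff_mem (f := M.subtype) M.subtype_injective,
          ← Subgroup.mem_map_iff_mem (f := M.subtype) M.subtype_injective (K := (P : Subgroup M))]
        exact Subgroup.mem_normalizer_iff.mp g.1.2 y
      · constructor
        · rintro ⟨w, hw, rfl⟩
          exact ⟨_, (Subgroup.mem_normalizer_iff.mp g.2 w).mp hw, rfl⟩
        · rintro ⟨w, hw, hw'⟩
          have hy : y = (g.1 : G)⁻¹ * w * g.1 := by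
            rw [show (w : G) = (g.1 : G) * y * (g.1 : G)⁻¹ from hw']; group
          refine ⟨g.1⁻¹ * w * g.1, ?_, by rw [hy]; rfl⟩
          refine (Subgroup.mem_normalizer_iff.mp g.2 _).mpr ?_
          rwa [show g.1 * (g.1⁻¹ * w * g.1) * g.1⁻¹ = w by group]
    have h4 := (M.subgroupOf K).card_mul_index
    rw [h3, h2, hKc] at h4
    have h5 := M.card_mul_index
    rw [h660] at h5
    omega
  by_cases hC5 : Nat.card C = 5
  · exact Subgroup.eq_top_of_card_eq M (by rw [h660, hG, hC5])
  exfalso
  have hC10 : Nat.card C = 10 := by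
    have h5 : 5 ∣ Nat.card C := by
      have h6 := Subgroup.card_subgroup_dvd_card M
      rw [h660, hG, show (660 : ℕ) = 132 * 5 by norm_num] at h6
      exact (Nat.mul_dvd_mul_iff_left (by norm_num)).mp h6
    have := Nat.le_of_dvd (by norm_num) hCd
    have h0 : 0 < Nat.card C := Nat.card_pos
    obtain ⟨j, hj⟩ := h5
    omega
  have hM2 : M.index = 2 := by
    have := M.card_mul_index
    rw [h660, hG, hC10] at this
    omega
  obtain ⟨g, hg⟩ := hCcyc.exists_generator
  have hgo : orderOf (g.1 : G) = 10 := by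
    rw [Subgroup.orderOf_coe, Subgroup.orderOf_coe, orderOf_eq_card_of_forall_mem_zpowers hg, hC10]
  set w : G := (g.1 : G) with hw
  have hwa : w • a = a := mem_stabilizer_iff.mp g.2
  set W : stabilizer G a := ⟨w, mem_stabilizer_iff.mpr hwa⟩
  have hw2 : w * w ∈ N := hMa _ (Subgroup.mul_self_mem_of_index_two hM2 w) (by rw [mul_smul, hwa, hwa])
  -- the involution `w⁵` centralises `N`
  set c := w ^ 5 with hc
  have hca : c • a = a := mem_stabilizer_iff.mp (pow_mem (mem_stabilizer_iff.mpr hwa) 5)
  have hfive : Nat.card (Sylow 2 N) = 5 := hF.card_points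
  set σ := MulAction.toPermHom (MulAut N) (Sylow 2 N) (h.act W)
  have hσ10 : σ ^ 10 = 1 := by
    rw [← map_pow, ← map_pow, show W ^ 10 = 1 from Subtype.ext (by
      rw [SubmonoidClass.coe_pow]; exact hgo ▸ pow_orderOf_eq_one w), map_one, map_one]
  have hinj : ∀ α : MulAut N, MulAction.toPermHom (MulAut N) (Sylow 2 N) α = 1 → α = 1 := fun α hα =>
    eq_self_of_fix_all hF.nonab fun U => Equiv.congr_fun hα U
  have hcN : ∀ y ∈ N, c * y = y * c := by
    rcases pow_five_or_two hfive σ hσ10 with e1 | e1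
    · intro y hy
      rw [← map_pow, ← map_pow] at e1
      have h2 := congrArg Subtype.val (DFunLike.congr_fun (hinj _ e1) (⟨y, hy⟩ : N))
      rw [h.act_apply, MulAut.one_apply, SubmonoidClass.coe_pow] at h2
      exact mul_inv_eq_iff_eq_mul.mp h2
    · exfalso
      rw [← map_pow, ← map_pow] at e1
      have hz2 : (⟨w * w, hw2⟩ : N) ∈ Subgroup.center N := Subgroup.mem_center_iff.mpr fun y => by
        have h2 := congrArg Subtype.val (DFunLike.congr_fun (hinj _ e1) y)
        rw [h.act_apply, MulAut.one_apply, SubmonoidClass.coe_pow, pow_two] at h2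
        exact Subtype.ext (mul_inv_eq_iff_eq_mul.mp h2).symm
      rw [(IsSimpleGroup.eq_bot_or_eq_top_of_normal (Subgroup.center N) inferInstance).resolve_right fun e2 =>
        hF.nonab ⟨⟨fun x y => (Subgroup.mem_center_iff.mp (e2 ▸ Subgroup.mem_top y : y ∈ Subgroup.center N) x)⟩⟩,
        Subgroup.mem_bot] at hz2
      have h3 : w ^ 2 = 1 := by rw [pow_two]; exact congrArg Subtype.val hz2
      have h4 := orderOf_dvd_of_pow_eq_one h3
      rw [hgo] at h4
      norm_num at h4
  have hc1 : c ≠ 1 := fun e1 => by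
    have h4 := orderOf_dvd_of_pow_eq_one (show w ^ 5 = 1 from e1)
    rw [hgo] at h4
    norm_num at h4
  -- it pairs the other points
  obtain ⟨b, hb⟩ := h.exists_ne
  obtain ⟨hH, htr⟩ := h.eleven_stab hF h1 hn hf hm he hb
  have hcb : c • b ≠ b := fun e1 => hc1 (eq_of_smul_eq_smul (α := Ω) fun d => by
    rw [one_smul]
    rcases eq_or_ne d a with rfl | hd
    · exact hca
    · obtain ⟨n, rfl⟩ := htr d hd
      rw [← mul_smul, hcN n n.2, mul_smul, e1])
  have hcba : c • b ≠ a := fun e1 => hb (smul_left_cancel c (e1.trans hca.symm))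
  obtain ⟨n, hn'⟩ := htr _ hcba
  have hnH : n ∈ (stabilizer G b).subgroupOf N := six_self_norm hF h60 hH fun x => by
    rw [Subgroup.mem_subgroupOf, Subgroup.mem_subgroupOf, mem_stabilizer_iff, mem_stabilizer_iff]
    have hsame : ∀ y : N, (y : G) • c • b = c • b ↔ (y : G) • b = b := fun y => by
      rw [← mul_smul, ← hcN y y.2, mul_smul, smul_left_cancel_iff]
    rw [← hsame (n * x * n⁻¹), Subgroup.coe_mul, Subgroup.coe_mul, InvMemClass.coe_inv, mul_smul, mul_smul, ← hn',
      inv_smul_smul, smul_left_cancel_iff]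
  exact hcb (hn'.symm.trans (mem_stabilizer_iff.mp (Subgroup.mem_subgroupOf.mp hnH)))

end CfsgLib.RankOnePoint
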