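import Cfsg.Agent.Lib.RankOnePoint.Autos

/-!
The members at a point as automorphisms of `N`, and the involutions of a two-point stabiliser which are not members
at the second point: in each Sylow subgroup they form one coset of a subgroup of index two.

Blueprint: `blueprint/S2208.md`, part A.
-/

set_option autoImplicit false
set_option linter.unusedSectionVars false
set_option linter.style.haveILetI false

namespace CfsgLib.RankOnePoint

open MulAction CfsgLib.BinaryCoset
open scoped Pointwise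

universe u v

variable {G : Type u} {Ω : Type v} [Group G] [MulAction G Ω] {a : Ω} {N : Subgroup G}

/-- The involutions and the identity of `S` fixing `b`. -/
def UX (S : Sylow 2 N) (b : Ω) : Set N := {y | y ∈ (S : Subgroup N) ∧ y * y = 1 ∧ (y : G) • b = b}

theorem zpowers_two' {H : Type*} [Group H] {z : H} (hz : z * z = 1) : IsPGroup 2 (Subgroup.zpowers z) := by
  intro w
  obtain ⟨k, hk⟩ := Subgroup.mem_zpowers_iff.mp w.2
  refine ⟨1, Subtype.ext ?_⟩
  rw [pow_one, SubmonoidClass.coe_pow, ← hk, OneMemClass.coe_one, pow_two, ← (Commute.refl z).mul_zpow, hz,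
    one_zpow]

variable (h : Pt G a N)
include h

/-- Conjugation by an element of the point stabiliser. -/
def Pt.act : stabilizer G a →* MulAut N where
  toFun g :=
    { toFun := fun x => ⟨g * x * (g : G)⁻¹, h.conj g g.2 x x.2⟩
      invFun := fun x => ⟨(g : G)⁻¹ * x * g, by simpa using h.conj _ (inv_mem g.2) x x.2⟩
      left_inv := fun x => Subtype.ext (by simp [mul_assoc])
      right_inv := fun x => Subtype.ext (by simp [mul_assoc])
      map_mul' := fun x y => Subtype.ext (by simp [mul_assoc]) }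
  map_one' := MulEquiv.ext fun x => Subtype.ext (by simp)
  map_mul' := fun g g' => MulEquiv.ext fun x => Subtype.ext (by simp [mul_assoc])

theorem Pt.act_apply (g : stabilizer G a) (x : N) : ((h.act g x : N) : G) = g * x * (g : G)⁻¹ := rfl

theorem Pt.act_invol {x : G} (hx : x • a = a) (hi : x * x = 1) :
    h.act ⟨x, mem_stabilizer_iff.mpr hx⟩ * h.act ⟨x, mem_stabilizer_iff.mpr hx⟩ = 1 := by
  rw [← map_mul, ← map_one h.act]
  exact congrArg h.act (Subtype.ext hi)

/-- A transposition of two points. -/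
theorem Pt.exists_swap {b : Ω} (hb : b ≠ a) : ∃ g : G, g • a = b ∧ g • b = a := h.trans a b b a hb.symm hb

theorem Pt.sq_mem_stab {g : G} {b : Ω} (hab : g • a = b) (hba : g • b = a) : g * g ∈ stabilizer G a := by
  rw [mem_stabilizer_iff, mul_smul, hab, hba]

/-- `g` exchanging the points moves the members at one to the members at the other. -/
theorem Pt.at_swap {g : G} {b : Ω} (hab : g • a = b) {x : G} : At a N b x ↔ g⁻¹ * x * g ∈ N := h.at_iff hab

theorem Pt.at_swap_conj {g : G} {b : Ω} (hab : g • a = b) (hba : g • b = a) {x : G} :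
    At a N b (g⁻¹ * x * g) ↔ x ∈ N := by
  rw [h.at_swap hab]
  refine ⟨fun e => ?_, fun e => ?_⟩
  · have := h.conj _ (h.sq_mem_stab hab hba) _ e
    simpa [mul_assoc] using this
  · have := h.conj _ (inv_mem (h.sq_mem_stab hab hba)) _ e
    simpa [mul_assoc] using this

theorem Pt.swap_fix {g : G} {b : Ω} (hab : g • a = b) {x : G} (hx : x • b = b) : (g⁻¹ * x * g) • a = a := by
  rw [mul_smul, mul_smul, hab, hx, ← hab, inv_smul_smul]

theorem Pt.swap_fix' {g : G} {b : Ω} (hba : g • b = a) {x : G} (hx : x • a = a) : (g⁻¹ * x * g) • b = b := by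
  rw [mul_smul, mul_smul, hba, hx, ← hba, inv_smul_smul]

theorem Pt.at_mul {b : Ω} {g : G} (hab : g • a = b) {x y : G} (hx : At a N b x) (hy : At a N b y) :
    At a N b (x * y) := by
  rw [h.at_swap hab] at hx hy ⊢
  simpa [mul_assoc] using mul_mem hx hy

variable [Finite G] [Finite Ω] [FaithfulSMul G Ω] [IsSimpleGroup N] {m p e : ℕ} (hF : Facts N m p e)
include hF

theorem Pt.rn : RN N := ⟨fun S T x hx hS hT => hF.eq_of_mem hx hS hT,
  fun S => by rw [hF.card_points, hF.card_sylow], fun S T hne => hF.two_sylow hne⟩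

/-- **A member at `a` inducing an inner automorphism lies in `N`.** -/
theorem Pt.inner_mem {x : G} (hx : x ∈ cls N) (hxa : x • a = a)
    (hin : Inn (h.act ⟨x, mem_stabilizer_iff.mpr hxa⟩)) : x ∈ N := by
  by_contra hxN
  obtain ⟨n, hn⟩ := hin
  have hnm : ∀ y : N, x * y * x⁻¹ = n * y * (n : G)⁻¹ := fun y =>
    (h.act_apply ⟨x, mem_stabilizer_iff.mpr hxa⟩ y).symm.trans (congrArg Subtype.val (DFunLike.congr_fun hn y) :)
  have hn2 : n * n = 1 := by
    have h1 : MulAut.conj (n * n) = (1 : MulAut N) := by rw [map_mul, ← hn, h.act_invol hxa hx.1.2]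
    have hc : n * n ∈ Subgroup.center N := Subgroup.mem_center_iff.mpr fun y => by
      have := DFunLike.congr_fun h1 y
      rw [MulAut.conj_apply, MulAut.one_apply, mul_inv_eq_iff_eq_mul] at this
      exact this.symm
    have hz : Subgroup.center N = ⊥ :=
      (IsSimpleGroup.eq_bot_or_eq_top_of_normal _ inferInstance).resolve_right fun e =>
        hF.nonab ⟨⟨fun u v => (Subgroup.mem_center_iff.mp (e ▸ Subgroup.mem_top v) u)⟩⟩
    rwa [hz, Subgroup.mem_bot] at hc
  haveI : Fact (Nat.Prime 2) := ⟨Nat.prime_two⟩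
  by_cases hev : Ev a N
  · obtain ⟨S, hS⟩ : ∃ S : Sylow 2 N, n ∈ (S : Subgroup N) := by
      obtain ⟨S, hS⟩ := (zpowers_two' hn2).exists_le_sylow
      exact ⟨S, hS (Subgroup.mem_zpowers n)⟩
    refine h.ev_cent hev hx hxN S fun t ht => ?_
    have hc : n * t * n⁻¹ = t := by rw [hF.central hS hn2 ht, mul_inv_cancel_right]
    have := hnm t
    rw [show (n : G) * t * (n : G)⁻¹ = t from congrArg Subtype.val hc] at this
    exact (mul_inv_eq_iff_eq_mul.mp this).symm
  by_cases hn1 : n = 1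
  · refine h.nev_triv (h.rn hF) hev hx hxN fun y hy => ?_
    have := hnm ⟨y, hy⟩
    rw [hn1, OneMemClass.coe_one] at this
    exact mul_inv_eq_iff_eq_mul.mp (by simpa using this)
  · have hni : Invol (n : G) := ⟨fun e1 => hn1 (Subtype.ext e1), congrArg Subtype.val hn2⟩
    refine h.nev_inner (h.rn hF) hev hx hxa hxN n.2 hni fun y hy => ?_
    have h1 : x * y = n * y * (n : G)⁻¹ * x := mul_inv_eq_iff_eq_mul.mp (hnm ⟨y, hy⟩)
    rw [mul_assoc, h1, inv_eq_of_mul_eq_one_right hni.2]
    simp only [← mul_assoc, hni.2, one_mul]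

omit hF [IsSimpleGroup N] in
theorem Pt.invol_sylow {y : N} (hy : y * y = 1) : ∃ S : Sylow 2 N, y ∈ (S : Subgroup N) := by
  haveI : Fact (Nat.Prime 2) := ⟨Nat.prime_two⟩
  obtain ⟨S, hS⟩ := (zpowers_two' hy).exists_le_sylow
  exact ⟨S, hS (Subgroup.mem_zpowers y)⟩

omit [Finite Ω] [FaithfulSMul G Ω] in
/-- A 2-group of automorphisms of `N` fixes a Sylow subgroup. -/
theorem Pt.fix_sylow {P : Subgroup (MulAut N)} (hP : IsPGroup 2 P) :
    ∃ S : Sylow 2 N, ∀ α ∈ P, α • S = S := by
  haveI : Fact (Nat.Prime 2) := ⟨Nat.prime_two⟩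
  have hodd : ¬ 2 ∣ Nat.card (Sylow 2 N) := by
    have h1 := card_sylow_modEq_one 2 N
    unfold Nat.ModEq at h1
    omega
  obtain ⟨S, hS⟩ := hP.nonempty_fixed_point_of_prime_not_dvd_card (Sylow 2 N) hodd
  exact ⟨S, fun α hα => hS ⟨α, hα⟩⟩

theorem Pt.fix_sylow_pair {α β : MulAut N} (hα : α * α = 1) (hβ : β * β = 1) (hc : α * β = β * α) :
    ∃ S : Sylow 2 N, α • S = S ∧ β • S = S := by
  have hn : Subgroup.zpowers α ≤ Subgroup.normalizer (Subgroup.zpowers β : Set (MulAut N)) :=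
    Subgroup.zpowers_le.mpr (Subgroup.centralizer_le_normalizer _ (Subgroup.mem_centralizer_iff.mpr fun w hw => by
      obtain ⟨k, rfl⟩ := Subgroup.mem_zpowers_iff.mp hw
      exact ((show Commute α β from hc).zpow_right k).eq.symm))
  obtain ⟨S, hS⟩ := h.fix_sylow hF ((zpowers_two' hα).to_sup_of_normal_right'
    (zpowers_two' hβ) hn)
  exact ⟨S, hS α (Subgroup.mem_sup_left (Subgroup.mem_zpowers α)),
    hS β (Subgroup.mem_sup_right (Subgroup.mem_zpowers β))⟩

/-- The member at `a` given by a member fixing `a` and `b` that is no member at `b`. -/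
theorem Pt.outer_of_not_at {g : G} {b : Ω} (hab : g • a = b) {y : G} (hy : y ∈ cls N)
    (hyb : y • b = b) (hny : ¬ At a N b y) :
    ¬ Inn (h.act ⟨g⁻¹ * y * g, mem_stabilizer_iff.mpr (h.swap_fix hab hyb)⟩) := fun hin =>
  hny ((h.at_swap hab).mpr (h.inner_mem hF (by simpa using cls_conj hy g⁻¹) (h.swap_fix hab hyb) hin))

/-- **The product of two commuting involutions of `N` at `b`, neither a member there, is a member there.** -/
theorem Pt.prod_at {b : Ω} (hb : b ≠ a) {y z : G} (hy : y ∈ N) (hz : z ∈ N) (hyi : Invol y) (hzi : Invol z)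
    (hyb : y • b = b) (hzb : z • b = b) (hc : y * z = z * y) (hny : ¬ At a N b y) (hnz : ¬ At a N b z) :
    At a N b (y * z) := by
  obtain ⟨g, hab, hba⟩ := h.exists_swap hb
  by_cases h1 : y * z = 1
  · exact ⟨g, hab, by rw [h1]; simp [one_mem]⟩
  have hya := h.swap_fix hab hyb
  have hza := h.swap_fix hab hzb
  set α := h.act ⟨_, mem_stabilizer_iff.mpr hya⟩
  set β := h.act ⟨_, mem_stabilizer_iff.mpr hza⟩
  have hi : ∀ {w : G}, Invol w → g⁻¹ * w * g * (g⁻¹ * w * g) = 1 := fun {w} hw => by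
    simpa using (hw.conj g⁻¹).2
  have hα : α * α = 1 := h.act_invol hya (hi hyi)
  have hβ : β * β = 1 := h.act_invol hza (hi hzi)
  have hcc : α * β = β * α := by
    rw [← map_mul, ← map_mul]
    refine congrArg h.act (Subtype.ext ?_)
    show g⁻¹ * y * g * (g⁻¹ * z * g) = g⁻¹ * z * g * (g⁻¹ * y * g)
    rw [show g⁻¹ * y * g * (g⁻¹ * z * g) = g⁻¹ * (y * z) * g by group, hc]; group
  obtain ⟨S, hS1, hS2⟩ := h.fix_sylow_pair hF hα hβ hcc
  have hin := hF.prod_inner hS1 hS2 hα hβ (h.outer_of_not_at hF hab (h.mem_cls hy hyi) hyb hny)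
    (h.outer_of_not_at hF hab (h.mem_cls hz hzi) hzb hnz) hcc
  rw [← map_mul] at hin
  have hyzi : Invol (y * z) := ⟨h1, by
    rw [show y * z * (y * z) = y * (z * y) * z by group, ← hc,
      show y * (y * z) * z = y * y * (z * z) by group, hyi.2, hzi.2, one_mul]⟩
  have hfix : (y * z) • b = b := by rw [mul_smul, hzb, hyb]
  by_contra hn
  refine h.outer_of_not_at hF hab (h.mem_cls (mul_mem hy hz) hyzi) hfix hn ?_
  have e1 : (⟨_, mem_stabilizer_iff.mpr (h.swap_fix hab hfix)⟩ : stabilizer G a) =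
      ⟨_, mem_stabilizer_iff.mpr hya⟩ * ⟨_, mem_stabilizer_iff.mpr hza⟩ :=
    Subtype.ext (by show g⁻¹ * (y * z) * g = g⁻¹ * y * g * (g⁻¹ * z * g); group)
  rw [e1]
  exact hin

omit [Finite Ω] [FaithfulSMul G Ω] in
theorem Pt.ux_mul (S : Sylow 2 N) {b : Ω} {y z : N} (hy : y ∈ UX S b) (hz : z ∈ UX S b) :
    y * z ∈ UX S b ∧ y * z = z * y := by
  have hc := hF.central hy.1 hy.2.1 hz.1
  refine ⟨⟨mul_mem hy.1 hz.1, ?_, by rw [Subgroup.coe_mul, mul_smul, hz.2.2, hy.2.2]⟩, hc⟩
  rw [show y * z * (y * z) = y * (z * y) * z by group, ← hc,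
    show y * (y * z) * z = y * y * (z * z) by group, hy.2.1, hz.2.1, one_mul]

omit hF [IsSimpleGroup N] in
theorem Pt.at_one {b : Ω} (hb : b ≠ a) : At a N b (1 : G) := by
  obtain ⟨g, hab, -⟩ := h.exists_swap hb
  exact ⟨g, hab, by simp [one_mem]⟩

/-- **A Sylow subgroup with an involution at `b` which is no member there has as many as members there, with one.** -/
theorem Pt.ux_half {S : Sylow 2 N} {b : Ω} (hb : b ≠ a) {y0 : N} (hy0 : y0 ∈ UX S b)
    (hny : ¬ At a N b (y0 : G)) :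
    Nat.card {y : N // y ∈ UX S b ∧ At a N b (y : G)} = Nat.card {y : N // y ∈ UX S b ∧ ¬ At a N b (y : G)} := by
  obtain ⟨g, hab, -⟩ := h.exists_swap hb
  have hinvol : ∀ y : N, y ∈ UX S b → ¬ At a N b (y : G) → Invol (y : G) := fun y hy hn =>
    ⟨fun e => hn (by rw [e]; exact h.at_one hb), congrArg Subtype.val hy.2.1⟩
  refine Nat.card_congr
    { toFun := fun y => ⟨y0 * y.1, (h.ux_mul hF S hy0 y.2.1).1, fun e => hny ?_⟩
      invFun := fun y => ⟨y0 * y.1, (h.ux_mul hF S hy0 y.2.1).1, ?_⟩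
      left_inv := fun y => Subtype.ext (by
        show y0 * (y0 * y.1) = y.1
        rw [← mul_assoc, hy0.2.1, one_mul])
      right_inv := fun y => Subtype.ext (by
        show y0 * (y0 * y.1) = y.1
        rw [← mul_assoc, hy0.2.1, one_mul]) }
  · have := h.at_mul hab e y.2.2
    rwa [← Subgroup.coe_mul, mul_assoc, y.2.1.2.1, mul_one] at this
  · rw [Subgroup.coe_mul]
    exact h.prod_at hF hb y0.2 y.1.2 (hinvol y0 hy0 hny) (hinvol y.1 y.2.1 y.2.2) hy0.2.2 y.2.1.2.2
      (by rw [← Subgroup.coe_mul, (h.ux_mul hF S hy0 y.2.1).2, Subgroup.coe_mul]) hny y.2.2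

/-- An outer member fixing `a` gives an involution of `N` fixing a point and no member there. -/
theorem Pt.exists_not_at {x : G} (hx : x ∈ cls N) (hxa : x • a = a) (hxN : x ∉ N) :
    ∃ b, b ≠ a ∧ At a N b x ∧ ∃ y ∈ N, Invol y ∧ y • b = b ∧ ¬ At a N b y := by
  obtain ⟨hi, g, hg⟩ := id hx
  have hgb : At a N (g • a) x := ⟨g, rfl, hg⟩
  have hb : g • a ≠ a := fun e => hxN (h.at_base.mp (by rw [e] at hgb; exact hgb))
  obtain ⟨w, hab, hba⟩ := h.exists_swap hb
  refine ⟨g • a, hb, hgb, w⁻¹ * x * w, (h.at_swap hab).mp hgb, by simpa using hi.conj w⁻¹, h.swap_fix' hba hxa,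
    fun e => hxN ((h.at_swap_conj hab hba).mp e)⟩

end CfsgLib.RankOnePoint
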