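import Cfsg.Agent.Lib.RankOnePoint.Defs

/-!
The affine plane at the end: the members with parallel axes commute and one product has no fixed point, so the
translations form a regular normal subgroup.

Blueprint: `blueprint/S2208.md`, revision 3, part C.
-/

set_option autoImplicit false
set_option linter.unusedSectionVars false
set_option linter.unusedSimpArgs false
set_option linter.style.haveILetI false

namespace CfsgLib.RankOnePoint

open MulAction
open scoped Pointwise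

universe u v

variable {G : Type u} {Ω : Type v} [Group G] [MulAction G Ω]

namespace Plane

/-- A line: the fixed points of a member. -/
def Line (J : Set G) (ℓ : Set Ω) : Prop := ∃ x ∈ J, fixedBy Ω x = ℓ

/-- Parallel lines. -/
def Par (ℓ m : Set Ω) : Prop := ℓ = m ∨ Disjoint ℓ m

theorem Par.symm {ℓ m : Set Ω} (h : Par ℓ m) : Par m ℓ := h.imp Eq.symm (fun h => h.symm)

theorem Par.eq_of_mem {ℓ m : Set Ω} (h : Par ℓ m) {c : Ω} (h1 : c ∈ ℓ) (h2 : c ∈ m) : ℓ = m :=
  h.resolve_right fun hd => Set.disjoint_left.mp hd h1 h2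

section Incidence

variable {J : Set G} {q p : ℕ} (P : Plane0 G Ω J q p)
include P

theorem _root_.CfsgLib.RankOnePoint.Plane0.line_smul {ℓ : Set Ω} (h : Line J ℓ) (g : G) : Line J (g • ℓ) := by
  obtain ⟨x, hx, rfl⟩ := h
  exact ⟨g * x * g⁻¹, P.conj x hx g, (smul_fixedBy _ _ _).symm⟩

theorem _root_.CfsgLib.RankOnePoint.Plane0.line_card {ℓ : Set Ω} (h : Line J ℓ) : Nat.card ℓ = p := by
  obtain ⟨x, hx, rfl⟩ := h
  exact P.card_line x hx

theorem _root_.CfsgLib.RankOnePoint.Plane0.line_unique {ℓ m : Set Ω} (hl : Line J ℓ) (hm : Line J m) {c d : Ω} (hcd : c ≠ d) (h1 : c ∈ ℓ) (h2 : d ∈ ℓ)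
    (h3 : c ∈ m) (h4 : d ∈ m) : ℓ = m := by
  obtain ⟨x, hx, rfl⟩ := hl
  obtain ⟨y, hy, rfl⟩ := hm
  exact P.unique x hx y hy c d hcd h1 h2 h3 h4

theorem _root_.CfsgLib.RankOnePoint.Plane0.line_join (c d : Ω) : ∃ ℓ : Set Ω, Line J ℓ ∧ c ∈ ℓ ∧ d ∈ ℓ := by
  obtain ⟨x, hx, h1, h2⟩ := P.join c d
  exact ⟨_, ⟨x, hx, rfl⟩, h1, h2⟩

variable [Finite Ω]

theorem _root_.CfsgLib.RankOnePoint.Plane0.line_nonempty {ℓ : Set Ω} (h : Line J ℓ) : ℓ.Nonempty := by
  by_contra hne
  rw [Set.not_nonempty_iff_eq_empty] at hne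
  have := P.line_card h
  rw [hne, Nat.card_coe_set_eq, Set.ncard_empty] at this
  have := P.two_le_p
  omega

theorem _root_.CfsgLib.RankOnePoint.Plane0.exists_off {ℓ : Set Ω} (h : Line J ℓ) : ∃ c : Ω, c ∉ ℓ := by
  by_contra! hall
  have h1 := P.line_card h
  rw [Set.eq_univ_of_forall hall, Nat.card_congr (Equiv.Set.univ Ω), P.card] at h1
  have := P.two_le_p
  nlinarith

/-- Through a point off a line there is exactly one parallel. -/
theorem _root_.CfsgLib.RankOnePoint.Plane0.playfair {ℓ : Set Ω} (hl : Line J ℓ) {c : Ω} (hc : c ∉ ℓ) :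
    ∃! m : Set Ω, Line J m ∧ c ∈ m ∧ Disjoint m ℓ := by
  classical
  haveI := Fintype.ofFinite Ω
  choose L hL using P.line_join c
  set Lc : Finset (Set Ω) := Finset.univ.filter fun m => Line J m ∧ c ∈ m with hLc
  have hcard : ∀ m : Set Ω, Line J m → m.toFinset.card = p := fun m hm => by
    rw [Set.toFinset_card, ← Nat.card_eq_fintype_card, P.line_card hm]
  -- the lines through `c`
  have hn : Lc.card = p + 1 := by
    have hmap : ((Finset.univ.erase c : Finset Ω) : Set Ω).MapsTo L Lc := fun d _ =>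
      Finset.mem_coe.mpr (Finset.mem_filter.mpr ⟨Finset.mem_univ _, (hL d).1, (hL d).2.1⟩)
    have h1 := Finset.card_eq_sum_card_fiberwise hmap
    have h2 : ∀ m ∈ Lc, ((Finset.univ.erase c).filter fun d => L d = m).card = p - 1 := by
      intro m hm
      obtain ⟨-, hm1, hm2⟩ := Finset.mem_filter.mp hm
      have e : ((Finset.univ.erase c).filter fun d => L d = m) = m.toFinset.erase c := by
        ext d
        simp only [Finset.mem_filter, Finset.mem_erase, Finset.mem_univ, and_true, Set.mem_toFinset]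
        constructor
        · rintro ⟨hdc, rfl⟩; exact ⟨hdc, (hL d).2.2⟩
        · rintro ⟨hdc, hdm⟩
          exact ⟨hdc, P.line_unique (hL d).1 hm1 (Ne.symm hdc) (hL d).2.1 (hL d).2.2 hm2 hdm⟩
      rw [e, Finset.card_erase_of_mem (Set.mem_toFinset.mpr hm2), hcard m hm1]
    rw [Finset.sum_congr rfl h2, Finset.sum_const, smul_eq_mul, Finset.card_erase_of_mem (Finset.mem_univ _),
      Finset.card_univ, ← Nat.card_eq_fintype_card, P.card] at h1
    have hp := P.two_le_p
    obtain ⟨p', rfl⟩ : ∃ p', p = p' + 1 := ⟨p - 1, by omega⟩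
    rw [show (p' + 1) * (p' + 1) - 1 = (p' + 2) * p' by
      rw [show (p' + 1) * (p' + 1) = (p' + 2) * p' + 1 by ring, Nat.add_sub_cancel], Nat.add_sub_cancel] at h1
    exact (Nat.eq_of_mul_eq_mul_right (by omega) h1).symm
  -- those meeting the line
  set M : Finset (Set Ω) := ℓ.toFinset.image L with hMdef
  have hM : M.card = p := by
    rw [hMdef, Finset.card_image_of_injOn, hcard ℓ hl]
    intro d hd e he h
    by_contra hne
    have hd' : d ∈ ℓ := Set.mem_toFinset.mp hd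
    have he' : e ∈ ℓ := Set.mem_toFinset.mp he
    have e1 : ℓ = L d := P.line_unique hl (hL d).1 hne hd' he' (hL d).2.2 (h ▸ (hL e).2.2)
    exact hc (e1 ▸ (hL d).2.1)
  have hsub : M ⊆ Lc := by
    intro m hm
    obtain ⟨d, -, rfl⟩ := Finset.mem_image.mp hm
    exact Finset.mem_filter.mpr ⟨Finset.mem_univ _, (hL d).1, (hL d).2.1⟩
  have hone : (Lc \ M).card = 1 := by rw [Finset.card_sdiff_of_subset hsub, hn, hM]; omega
  have hiff : ∀ m, m ∈ Lc \ M ↔ Line J m ∧ c ∈ m ∧ Disjoint m ℓ := by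
    intro m
    simp only [Finset.mem_sdiff, hLc, Finset.mem_filter, Finset.mem_univ, true_and, hMdef, Finset.mem_image,
      Set.mem_toFinset]
    constructor
    · rintro ⟨⟨h1, h2⟩, h3⟩
      refine ⟨h1, h2, Set.disjoint_left.mpr fun d hdm hdl => h3 ⟨d, hdl, ?_⟩⟩
      exact P.line_unique (hL d).1 h1 (fun e => hc (by rw [e]; exact hdl)) (hL d).2.1 (hL d).2.2 h2 hdm
    · rintro ⟨h1, h2, h3⟩
      refine ⟨⟨h1, h2⟩, ?_⟩
      rintro ⟨d, hd, rfl⟩
      exact Set.disjoint_left.mp h3 (hL d).2.2 hd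
  obtain ⟨m, hm⟩ := Finset.card_eq_one.mp hone
  refine ⟨m, (hiff m).mp (hm ▸ Finset.mem_singleton_self m), fun m' hm' => ?_⟩
  exact Finset.mem_singleton.mp (hm ▸ (hiff m').mpr hm')

theorem _root_.CfsgLib.RankOnePoint.Plane0.par_trans {ℓ m n : Set Ω} (hl : Line J ℓ) (hm : Line J m) (hn : Line J n) (h1 : Par ℓ m) (h2 : Par m n) :
    Par ℓ n := by
  rcases h1 with rfl | h1
  · exact h2
  rcases h2 with rfl | h2
  · exact Or.inr h1
  by_cases hd : Disjoint ℓ n
  · exact Or.inr hd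
  obtain ⟨c, hcl, hcn⟩ := Set.not_disjoint_iff.mp hd
  obtain ⟨m', -, hm'⟩ := P.playfair hm (Set.disjoint_left.mp h1 hcl)
  exact Or.inl ((hm' ℓ ⟨hl, hcl, h1⟩).trans (hm' n ⟨hn, hcn, h2.symm⟩).symm)

/-- A member stabilises every line parallel to its axis. -/
theorem _root_.CfsgLib.RankOnePoint.Plane0.member_stab {x : G} (hx : x ∈ J) {m : Set Ω} (hm : Line J m) (hp : Par (fixedBy Ω x) m) :
    ∀ c ∈ m, x • c ∈ m := by
  intro c hc
  by_cases hf : x • c = c
  · rwa [hf]
  have hxx : ∀ d : Ω, x • x • d = d := fun d => by rw [← mul_smul, (P.invol x hx).2, one_smul]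
  obtain ⟨n, ⟨y, hy, rfl⟩, h1, h2⟩ := P.line_join c (x • c)
  have hstab : ∀ d ∈ fixedBy Ω y, x • d ∈ fixedBy Ω y := by
    have e : x • fixedBy Ω y = fixedBy Ω y := P.line_unique (P.line_smul ⟨y, hy, rfl⟩ x) ⟨y, hy, rfl⟩ (Ne.symm hf)
      ⟨x • c, h2, hxx c⟩ ⟨c, h1, rfl⟩ h1 h2
    exact fun d hd => e ▸ Set.smul_mem_smul_set hd
  have hpar : Par (fixedBy Ω y) m := P.par_trans ⟨y, hy, rfl⟩ ⟨x, hx, rfl⟩ hm (P.axis x hx y hy hstab) hp
  exact (hpar.eq_of_mem h1 hc) ▸ h2

end Incidence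

variable {J : Set G} {q p : ℕ} (P : Plane G Ω J q p)
include P

variable [Finite Ω]

variable (G) in
omit P in
/-- The elements preserving the parallel classes. -/
def Dil (J : Set G) (g : G) : Prop := ∀ ℓ : Set Ω, Line J ℓ → Par (g • ℓ) ℓ

omit [Finite Ω] in
theorem dil_fixed_line {g : G} (hg : Dil (Ω := Ω) G J g) {c : Ω} (hc : g • c = c) {ℓ : Set Ω} (hl : Line J ℓ)
    (hcl : c ∈ ℓ) : g • ℓ = ℓ :=
  (hg ℓ hl).eq_of_mem (c := c) (by rw [← hc]; exact Set.smul_mem_smul_set hcl) hcl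

variable (G) in
omit P in
/-- The translations. -/
def Tr (J : Set G) (g : G) : Prop := Dil (Ω := Ω) G J g ∧ ((∀ c : Ω, g • c = c) ∨ ∀ c : Ω, g • c ≠ c)

/-- The lines of a fixed-point-free dilatation. -/
theorem tr_line {g : G} (hg : Dil (Ω := Ω) G J g) {c : Ω} {ℓ : Set Ω} (hl : Line J ℓ) (h1 : c ∈ ℓ)
    (h2 : g • c ∈ ℓ) : g • ℓ = ℓ :=
  (hg ℓ hl).eq_of_mem (c := g • c) (Set.smul_mem_smul_set h1) h2

theorem tr_mul {g h : G} (hg : Tr (Ω := Ω) G J g) (hh : Tr (Ω := Ω) G J h) : Tr (Ω := Ω) G J (g * h) := by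
  have hd : Dil (Ω := Ω) G J (g * h) := fun ℓ hl => by
    rw [mul_smul]
    exact P.par_trans (P.line_smul (P.line_smul hl h) g) (P.line_smul hl h) hl (hg.1 _ (P.line_smul hl h)) (hh.1 ℓ hl)
  refine ⟨hd, ?_⟩
  by_cases hfix : ∃ c : Ω, (g * h) • c = c
  swap
  · exact Or.inr fun c hc => hfix ⟨c, hc⟩
  obtain ⟨c, hc⟩ := hfix
  left
  rcases hh.2 with hh1 | hh1
  · rcases hg.2 with hg1 | hg1
    · intro d; rw [mul_smul, hh1, hg1]
    · exact absurd (by rw [mul_smul, hh1] at hc; exact hc) (hg1 c)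
  have hgf : ∀ d : Ω, g • d ≠ d := hg.2.resolve_left fun hg1 => hh1 c (by rw [mul_smul, hg1] at hc; exact hc)
  obtain ⟨ℓ, hl, hlc, hld⟩ := P.line_join c (h • c)
  have hc' : g • h • c = c := by rw [← mul_smul]; exact hc
  have hhl : h • ℓ = ℓ := P.tr_line hh.1 hl hlc hld
  have hgl : g • ℓ = ℓ := P.tr_line hg.1 hl hld (by rw [hc']; exact hlc)
  -- the lines through a point and its image are parallel
  have hdir : ∀ {k : G}, (∀ d : Ω, k • d ≠ d) → Dil (Ω := Ω) G J k → k • ℓ = ℓ →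
      ∀ m : Set Ω, Line J m → Par m ℓ → k • m = m := by
    intro k hk hkd hkl m hm hpm
    obtain ⟨d, hd⟩ := P.line_nonempty hm
    obtain ⟨n, hn, h1, h2⟩ := P.line_join d (k • d)
    have hkn : k • n = n := P.tr_line hkd hn h1 h2
    have hpn : Par n ℓ := by
      by_cases hdis : Disjoint n ℓ
      · exact Or.inr hdis
      obtain ⟨o, ho1, ho2⟩ := Set.not_disjoint_iff.mp hdis
      refine Or.inl (P.line_unique hn hl (Ne.symm (hk o)) ho1 ?_ ho2 ?_)
      · rw [← hkn]; exact Set.smul_mem_smul_set ho1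
      · rw [← hkl]; exact Set.smul_mem_smul_set ho2
    exact (P.par_trans hm hl hn hpm hpn.symm).eq_of_mem hd h1 ▸ hkn
  have hoff : ∀ d : Ω, d ∉ ℓ → (g * h) • d = d := by
    intro d hd
    obtain ⟨m, ⟨hm, hdm, hmd⟩, -⟩ := P.playfair hl hd
    obtain ⟨n, hn, hcn, hdn⟩ := P.line_join c d
    have e1 : (g * h) • m = m := by
      rw [mul_smul, hdir hh1 hh.1 hhl m hm (Or.inr hmd), hdir hgf hg.1 hgl m hm (Or.inr hmd)]
    have e2 : (g * h) • n = n := P.dil_fixed_line ‹Dil (Ω := Ω) G J (g * h)› hc hn hcn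
    by_contra hne
    have m2 : (g * h) • d ∈ m := e1 ▸ Set.smul_mem_smul_set hdm
    have n2 : (g * h) • d ∈ n := e2 ▸ Set.smul_mem_smul_set hdn
    have := P.line_unique hm hn (Ne.symm hne) hdm m2 hdn n2
    exact Set.disjoint_left.mp hmd (this ▸ hcn) hlc
  intro d
  by_cases hd1 : d ∈ ℓ
  swap
  · exact hoff d hd1
  obtain ⟨e, he⟩ := P.exists_off hl
  obtain ⟨n, hn, hen, hdn⟩ := P.line_join e d
  have e1 : (g * h) • ℓ = ℓ := by rw [mul_smul, hhl, hgl]
  have e2 : (g * h) • n = n := P.dil_fixed_line hd (hoff e he) hn hen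
  by_contra hne
  have := P.line_unique hl hn (Ne.symm hne) hd1 (e1 ▸ Set.smul_mem_smul_set hd1) hdn (e2 ▸ Set.smul_mem_smul_set hdn)
  exact he (this ▸ hen)

omit [Finite Ω] in
theorem tr_conj {g : G} (hg : Tr (Ω := Ω) G J g) (k : G) : Tr (Ω := Ω) G J (k * g * k⁻¹) := by
  refine ⟨fun ℓ hl => ?_, hg.2.imp (fun h c => by rw [mul_smul, mul_smul, h, smul_inv_smul]) (fun h c hc => ?_)⟩
  · rw [mul_smul, mul_smul]
    rcases hg.1 _ (P.line_smul hl k⁻¹) with e | e
    · left; rw [e, smul_inv_smul]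
    · right
      rw [Set.disjoint_left]
      rintro _ ⟨d, hd, rfl⟩ h2
      exact Set.disjoint_left.mp e hd (Set.mem_inv_smul_set_iff.mpr h2)
  · rw [mul_smul, mul_smul, ← eq_inv_smul_iff] at hc
    exact h _ hc

variable [Finite G] [FaithfulSMul G Ω]

/-- A member with parallel axis. -/
theorem members_comm {x y : G} (hx : x ∈ J) (hy : y ∈ J) (hxy : Par (fixedBy Ω x) (fixedBy Ω y)) :
    x * y = y * x := by
  have hxx := (P.invol x hx).2
  have hyy := (P.invol y hy).2
  have hxi : x⁻¹ = x := inv_eq_of_mul_eq_one_left hxx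
  have hyi : y⁻¹ = y := inv_eq_of_mul_eq_one_left hyy
  have key : ∀ {u v : G}, u ∈ J → v ∈ J → Par (fixedBy Ω u) (fixedBy Ω v) → fixedBy Ω (v * u * v⁻¹) = fixedBy Ω u := by
    intro u v hu hv h
    rw [← smul_fixedBy]
    refine Set.eq_of_subset_of_ncard_le ?_ (le_of_eq ?_) (Set.toFinite _)
    · rintro _ ⟨c, hc, rfl⟩; exact P.member_stab hv ⟨u, hu, rfl⟩ h.symm c hc
    · rw [Set.ncard_smul_set]
  by_contra hne
  set e := x * (y * x * y⁻¹) with he
  have he1 : e ≠ 1 := fun h => hne (by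
    rw [he, hyi] at h
    calc x * y = (x * y)⁻¹ := eq_inv_of_mul_eq_one_left (by simpa [mul_assoc] using h)
      _ = y * x := by rw [_root_.mul_inv_rev, hxi, hyi])
  have hf1 : ∀ c ∈ fixedBy Ω x, e • c = c := fun c hc => by
    have h1 : (y * x * y⁻¹) • c = c := by
      have := hc; rw [← key hx hy hxy] at this; exact this
    rw [he, mul_smul, h1]; exact hc
  have hf2 : ∀ c ∈ fixedBy Ω y, e • c = c := fun c hc => by
    have h1 : (x * y * x⁻¹) • c = c := by
      have := hc; rw [← key hy hx hxy.symm] at this; exact this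
    have e2 : e = x * y * x⁻¹ * y⁻¹ := by rw [he, hxi]; group
    rw [e2, mul_smul, show y⁻¹ • c = c from inv_smul_eq_iff.mpr (show y • c = c from hc).symm]; exact h1
  obtain ⟨c, hc⟩ := P.line_nonempty ⟨x, hx, rfl⟩
  have heE : e ∈ Subgroup.closure
      {z | z ∈ J ∧ (fixedBy Ω z = fixedBy Ω x ∨ Disjoint (fixedBy Ω z) (fixedBy Ω x))} :=
    mul_mem (Subgroup.subset_closure ⟨hx, Or.inl rfl⟩)
      (Subgroup.subset_closure ⟨P.conj x hx y, Or.inl (key hx hy hxy)⟩)
  rcases P.persp x hx e heE ⟨c, hf1 c hc⟩ with h | h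
  · exact he1 h
  · have h1 : fixedBy Ω x = fixedBy Ω e := Set.eq_of_subset_of_ncard_le hf1 (le_of_eq (by
      rw [← Nat.card_coe_set_eq, ← Nat.card_coe_set_eq, P.line_card ⟨e, h, rfl⟩, P.line_card ⟨x, hx, rfl⟩]))
    have h2 : fixedBy Ω y = fixedBy Ω e := Set.eq_of_subset_of_ncard_le hf2 (le_of_eq (by
      rw [← Nat.card_coe_set_eq, ← Nat.card_coe_set_eq, P.line_card ⟨e, h, rfl⟩, P.line_card ⟨y, hy, rfl⟩]))
    -- equal axes: the product fixes a point
    have hE2 : x * y ∈ Subgroup.closure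
        {z | z ∈ J ∧ (fixedBy Ω z = fixedBy Ω x ∨ Disjoint (fixedBy Ω z) (fixedBy Ω x))} :=
      mul_mem (Subgroup.subset_closure ⟨hx, Or.inl rfl⟩) (Subgroup.subset_closure ⟨hy, Or.inl (h2.trans h1.symm)⟩)
    have hxyc : (x * y) • c = c := by
      have hyc : y • c = c := by
        have : c ∈ fixedBy Ω y := by rw [h2, ← h1]; exact hc
        exact this
      rw [mul_smul, hyc]; exact hc
    rcases P.persp x hx (x * y) hE2 ⟨c, hxyc⟩ with h3 | h3
    · refine hne ?_
      rw [h3, eq_inv_of_mul_eq_one_right h3, hxi, hxx]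
    · refine hne ?_
      have := (P.invol _ h3).2
      calc x * y = (x * y)⁻¹ := eq_inv_of_mul_eq_one_left this
        _ = y * x := by rw [_root_.mul_inv_rev, hxi, hyi]

/-- A product of parallel members has no fixed point. -/
theorem exists_free : ∃ τ : G, τ * τ = 1 ∧ ∀ c : Ω, τ • c ≠ c := by
  classical
  haveI := Fintype.ofFinite G
  haveI := Fintype.ofFinite Ω
  haveI : Fact (Nat.Prime 2) := ⟨Nat.prime_two⟩
  have hΩ : Nonempty Ω := (Nat.card_pos_iff.mp (by rw [P.card]; have := P.two_le_p; positivity)).1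
  obtain ⟨x, hx, -⟩ := P.join hΩ.some hΩ.some
  set ℓ := fixedBy Ω x with hℓ
  have hl : Line J ℓ := ⟨x, hx, rfl⟩
  set S : Set G := {z | z ∈ J ∧ Par (fixedBy Ω z) ℓ} with hS
  set E := Subgroup.closure S
  have hcomm : ∀ z ∈ E, ∀ y ∈ S, z * y = y * z := fun z hz y hy => by
    induction hz using Subgroup.closure_induction with
    | mem z hz => exact P.members_comm hz.1 hy.1 (P.par_trans ⟨z, hz.1, rfl⟩ hl ⟨y, hy.1, rfl⟩ hz.2 hy.2.symm)
    | one => simp
    | mul a b _ _ ha hb => rw [mul_assoc, hb, ← mul_assoc, ha, mul_assoc]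
    | inv a _ ha => exact ((show Commute a y from ha).inv_left).eq
  have hsq : ∀ z ∈ E, z * z = 1 := fun z hz => by
    induction hz using Subgroup.closure_induction with
    | mem z hz => exact (P.invol z hz.1).2
    | one => simp
    | mul a b ha hb hA hB =>
      have hab : ∀ y ∈ E, a * y = y * a := fun y hy => by
        induction hy using Subgroup.closure_induction with
        | mem y hy => exact hcomm a ha y hy
        | one => simp
        | mul c d _ _ hc hd => rw [← mul_assoc, hc, mul_assoc, hd, ← mul_assoc]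
        | inv c _ hc => exact ((show Commute a c from hc).inv_right).eq
      calc a * b * (a * b) = a * (b * a) * b := by group
        _ = a * (a * b) * b := by rw [hab b hb]
        _ = a * a * (b * b) := by group
        _ = 1 := by rw [hA, hB, one_mul]
    | inv a _ ha => rw [← _root_.mul_inv_rev, ha, inv_one]
  have hstab : ∀ z ∈ E, z • ℓ = ℓ := by
    have hle : E ≤ stabilizer G ℓ := (Subgroup.closure_le _).mpr fun z hz => by
      refine mem_stabilizer_iff.mpr (Set.eq_of_subset_of_ncard_le ?_ (le_of_eq ?_) (Set.toFinite _))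
      · rintro _ ⟨c, hc, rfl⟩; exact P.member_stab hz.1 hl hz.2 c hc
      · rw [Set.ncard_smul_set]
    exact fun z hz => mem_stabilizer_iff.mp (hle hz)
  by_contra! hno
  have hES : ∀ z : G, z ∈ E ↔ z = 1 ∨ z ∈ S := by
    refine fun z => ⟨fun hz => ?_, fun h => h.elim (fun e => e ▸ one_mem _) fun h => Subgroup.subset_closure h⟩
    obtain ⟨c, hc⟩ := hno z (hsq z hz)
    rcases P.persp x hx z hz ⟨c, hc⟩ with h | h
    · exact Or.inl h
    · refine Or.inr ⟨h, Par.symm ?_⟩
      exact P.axis z h x hx fun c hc => (hstab z hz).le (Set.smul_mem_smul_set hc)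
  have hpE : IsPGroup 2 E := fun z => ⟨1, Subtype.ext (by
    rw [Subgroup.coe_pow, pow_one, pow_two]; exact hsq z z.2)⟩
  obtain ⟨k, hk⟩ := IsPGroup.iff_card.mp hpE
  have hcardE : Nat.card E = 1 + S.ncard := by
    rw [show Nat.card E = ({z : G | z ∈ E}).ncard from Nat.card_coe_set_eq _,
      show {z : G | z ∈ E} = insert 1 S from Set.ext fun z => (hES z).trans Set.mem_insert_iff.symm,
      Set.ncard_insert_of_notMem (fun h => (P.invol 1 h.1).1 rfl) (Set.toFinite _), add_comm]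
  -- the parallel class partitions the points
  set Cl : Finset (Set Ω) := Finset.univ.filter fun m => Line J m ∧ Par m ℓ with hCl
  have hp : p * p = Cl.card * p := by
    have hmem : ∀ c : Ω, ∃ m ∈ Cl, c ∈ m := fun c => by
      by_cases hc : c ∈ ℓ
      · exact ⟨ℓ, Finset.mem_filter.mpr ⟨Finset.mem_univ _, hl, Or.inl rfl⟩, hc⟩
      · obtain ⟨m, ⟨hm, hcm, hd⟩, -⟩ := P.playfair hl hc
        exact ⟨m, Finset.mem_filter.mpr ⟨Finset.mem_univ _, hm, Or.inr hd⟩, hcm⟩
    have hU : (Finset.univ : Finset Ω) = Cl.biUnion fun m => m.toFinset := by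
      ext c; simpa using hmem c
    have hd : (Cl : Set (Set Ω)).PairwiseDisjoint fun m => m.toFinset := by
      intro m hm n hn hne
      obtain ⟨hm1, hm2⟩ := (Finset.mem_filter.mp hm).2
      obtain ⟨hn1, hn2⟩ := (Finset.mem_filter.mp hn).2
      exact Set.disjoint_toFinset.mpr ((P.par_trans hm1 hl hn1 hm2 hn2.symm).resolve_left hne)
    have h1 := congrArg Finset.card hU
    rw [Finset.card_univ, ← Nat.card_eq_fintype_card, P.card, Finset.card_biUnion hd] at h1
    rw [h1, Finset.sum_congr rfl fun m hm => ?_, Finset.sum_const, smul_eq_mul]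
    rw [Set.toFinset_card, ← Nat.card_eq_fintype_card, P.line_card (Finset.mem_filter.mp hm).2.1]
  have hS' : S.ncard = Cl.card * (q - 1) := by
    rw [Set.ncard_eq_toFinset_card' S, Finset.card_eq_sum_card_fiberwise (f := fun z => fixedBy Ω z) (t := Cl) ?_]
    · rw [Finset.sum_congr rfl fun m hm => ?_, Finset.sum_const, smul_eq_mul]
      obtain ⟨⟨y, hy, rfl⟩, hm2⟩ := (Finset.mem_filter.mp hm).2
      rw [← P.mult y hy, Nat.card_eq_fintype_card, Fintype.card_subtype]
      congr 1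
      ext z
      simp only [Finset.mem_filter, Set.mem_toFinset, Finset.mem_univ, true_and, hS, Set.mem_setOf_eq]
      exact ⟨fun h => ⟨h.1.1, h.2⟩, fun h => ⟨⟨h.1, by rw [h.2]; exact hm2⟩, h.2⟩⟩
    · intro z hz
      have hz' : z ∈ S := Set.mem_toFinset.mp hz
      exact Finset.mem_coe.mpr (Finset.mem_filter.mpr ⟨Finset.mem_univ _, ⟨z, hz'.1, rfl⟩, hz'.2⟩)
  have hClp : Cl.card = p := (Nat.eq_of_mul_eq_mul_right (by have := P.two_le_p; omega) hp).symm
  rw [hcardE, hS', hClp] at hk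
  have he : Even (p * (q - 1)) := P.p_even.mul_right _
  have hpos : 0 < p * (q - 1) := Nat.mul_pos (by have := P.two_le_p; omega) (by have := P.two_le_q; omega)
  rcases k with - | k
  · rw [pow_zero] at hk; omega
  · obtain ⟨r, hr⟩ := he
    rw [pow_succ] at hk; omega

/-- **The translations form a regular normal subgroup.** -/
theorem regular : HasRegularNormal G Ω := by
  classical
  obtain ⟨τ, hτ, hτf⟩ := P.exists_free
  have hτtr : Tr (Ω := Ω) G J τ := by
    refine ⟨fun ℓ hl => ?_, Or.inr hτf⟩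
    by_cases hd : Disjoint (τ • ℓ) ℓ
    · exact Or.inr hd
    obtain ⟨c, hc1, hc2⟩ := Set.not_disjoint_iff.mp hd
    refine Or.inl (P.line_unique (P.line_smul hl τ) hl (Ne.symm (hτf c)) hc1 (Set.smul_mem_smul_set hc2) hc2 ?_)
    obtain ⟨d, hd', rfl⟩ := hc1
    show τ • τ • d ∈ ℓ
    rw [← mul_smul, hτ, one_smul]; exact hd'
  let R0 : Submonoid G :=
    { carrier := {g | Tr (Ω := Ω) G J g}
      one_mem' := ⟨fun ℓ _ => Or.inl (one_smul G ℓ), Or.inl fun c => one_smul G c⟩
      mul_mem' := fun {g h} => P.tr_mul }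
  let R : Subgroup G :=
    { R0 with
      inv_mem' := fun {g} hg => by
        have hmem : g⁻¹ ∈ Submonoid.powers g := by
          rw [mem_powers_iff_mem_zpowers]; exact inv_mem (Subgroup.mem_zpowers g)
        obtain ⟨i, hi⟩ := hmem
        show g⁻¹ ∈ R0
        rw [← show g ^ i = g⁻¹ from hi]
        exact pow_mem (show g ∈ R0 from hg) i }
  have hR : ∀ g, g ∈ R ↔ Tr (Ω := Ω) G J g := fun g => Iff.rfl
  haveI : R.Normal := ⟨fun g hg k => (hR _).mpr (P.tr_conj ((hR g).mp hg) k)⟩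
  refine ⟨R, inferInstance, ?_, ?_⟩
  · have key : ∀ c d : Ω, c ≠ d → ∃ r ∈ R, r • c = d := fun c d hcd => by
      obtain ⟨g, hg1, hg2⟩ := P.trans c (τ • c) c d (Ne.symm (hτf c)) hcd
      refine ⟨g * τ * g⁻¹, (hR _).mpr (P.tr_conj hτtr g), ?_⟩
      rw [mul_smul, mul_smul, inv_smul_eq_iff.mpr hg1.symm, hg2]
    intro c d
    by_cases hcd : c = d
    · exact ⟨1, one_mem _, by rw [one_smul, hcd]⟩
    · exact key c d hcd
  · intro c r hr hrc
    rcases ((hR r).mp hr).2 with h | h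
    · exact eq_of_smul_eq_smul (α := Ω) fun d => by rw [h d, one_smul]
    · exact absurd hrc (h c)

end Plane

end CfsgLib.RankOnePoint
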